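import Cfsg.Agent.A10S.Defs
import Cfsg.Agent.CITCor.EPPO
import Cfsg.Agent.Class.PGL2Sub

/-! # Prime powers `q` with `q (q² - 1)` free of primes above seven -/

set_option autoImplicit false

namespace Cfsg.Lib.A10S

open Subgroup
open scoped commutatorElement

theorem Ari.big {p r : ℕ} (hp : p = 2 ∨ p = 3 ∨ p = 5 ∨ p = 7) (hr : r.Prime) (h5 : 5 ≤ r) :
    ∃ l : ℕ, l.Prime ∧ l ∣ p ^ r - 1 ∧ 7 < l := by
  have h1 : 1 ≤ p := by omega
  have hS : (∑ i ∈ Finset.range r, p ^ i) ≠ 1 := fun e => by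
    have := Finset.sum_le_sum_of_subset (f := fun i => p ^ i) (Finset.range_subset_range.2
      (show 2 ≤ r by omega))
    simp [e, Finset.sum_range_succ] at this
    omega
  obtain ⟨l, hl, hd⟩ := Nat.exists_prime_and_dvd hS
  have hd' : l ∣ p ^ r - 1 := geom_sum_mul_of_one_le h1 r ▸ hd.mul_right _
  refine ⟨l, hl, hd', by_contra fun h7 => ?_⟩
  have := Fact.mk hl
  have e : (p : ZMod l) ^ r = 1 := by
    have := (ZMod.natCast_eq_zero_iff _ _).2 hd'
    rwa [Nat.cast_sub (Nat.one_le_pow _ _ h1), Nat.cast_pow, Nat.cast_one, sub_eq_zero] at this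
  have h2 := hl.two_le
  rcases (Nat.dvd_prime hr).1 (orderOf_dvd_of_pow_eq_one e) with o | o
  · rw [orderOf_eq_one_iff] at o
    have a1 := (ZMod.natCast_eq_zero_iff _ _).2 hd
    simp only [Nat.cast_sum, Nat.cast_pow, o, one_pow, Finset.sum_const, Finset.card_range,
      nsmul_eq_mul, mul_one, ZMod.natCast_eq_zero_iff] at a1
    obtain rfl := (Nat.prime_dvd_prime_iff_eq hl hr).1 a1
    have a2 : l ∣ p - 1 := by
      rw [← ZMod.natCast_eq_zero_iff, Nat.cast_sub h1, o, Nat.cast_one, sub_self]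
    have : l = 5 ∨ l = 6 ∨ l = 7 := by omega
    rcases this with rfl | rfl | rfl <;> first | omega | exact absurd hl (by decide)
  · have a1 := ZMod.orderOf_dvd_card_sub_one (a := (p : ZMod l)) fun z => by
      rw [z, zero_pow hr.ne_zero] at e
      exact zero_ne_one e
    rw [o] at a1
    have a2 := Nat.le_of_dvd (by omega) a1
    have : (l = 6 ∨ l = 7) ∧ (r = 5 ∨ r = 6) := by omega
    rcases this with ⟨rfl | rfl, rfl | rfl⟩ <;>
      first | omega | exact absurd hl (by decide) | exact absurd hr (by decide)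

theorem Ari.eq_of {f c : ℕ} (hc : c ∣ f) (h : ∀ r : ℕ, r.Prime → ¬ c * r ∣ f) : f = c := by
  obtain ⟨m, rfl⟩ := hc
  by_contra e
  obtain ⟨r, hr, hd⟩ := Nat.exists_prime_and_dvd (n := m) fun e' => e (by rw [e', mul_one])
  exact h r hr (Nat.mul_dvd_mul_left c hd)

theorem smooth {q : ℕ} (hq : IsPrimePow q) (h : ∀ p : ℕ, p.Prime → p ∣ q * (q ^ 2 - 1) → p ≤ 7) :
    q = 2 ∨ q = 3 ∨ q = 4 ∨ q = 5 ∨ q = 7 ∨ q = 8 ∨ q = 9 ∨ q = 49 := by
  obtain ⟨p, f, hp, hf, rfl⟩ := (isPrimePow_nat_iff q).1 hq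
  have h7 := h p hp ((dvd_pow_self p hf.ne').mul_right _)
  have hp' : p = 2 ∨ p = 3 ∨ p = 5 ∨ p = 7 := by
    have := hp.two_le
    interval_cases p <;> first | omega | exact absurd hp (by decide)
  have key : ∀ d l : ℕ, l.Prime → l ∣ p ^ d - 1 → 7 < l → ¬ d ∣ f * 2 := fun d l hl hd h7 e =>
    h7.not_ge (h l hl ((hd.trans (pow_mul p f 2 ▸ Nat.pow_sub_one_dvd_pow_sub_one p e)).mul_left _))
  have h23 : ∀ r : ℕ, r.Prime → r ∣ f → r = 2 ∨ r = 3 := fun r hr e => by_contra fun hn => by
    obtain ⟨l, hl, hd, h7⟩ := Ari.big hp' hr (hr.five_le_of_ne_two_of_ne_three (by omega) (by omega))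
    exact key r l hl hd h7 (e.mul_right 2)
  have fin : ¬ 4 ∣ f → ¬ 9 ∣ f → ¬ 6 ∣ f → f = 1 ∨ f = 2 ∨ f = 3 := fun h4 h9 h6 => by
    by_cases a2 : 2 ∣ f
    · refine .inr (.inl (Ari.eq_of a2 fun r hr e => ?_))
      rcases h23 r hr (dvd_of_mul_left_dvd e) with rfl | rfl <;> omega
    by_cases a3 : 3 ∣ f
    · refine .inr (.inr (Ari.eq_of a3 fun r hr e => ?_))
      rcases h23 r hr (dvd_of_mul_left_dvd e) with rfl | rfl <;> omega
    refine .inl (Ari.eq_of (one_dvd f) fun r hr e => ?_)
    rcases h23 r hr (dvd_of_mul_left_dvd e) with rfl | rfl <;> omega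
  rcases hp' with rfl | rfl | rfl | rfl
  · have a := key 8 17 (by norm_num) (by norm_num) (by norm_num)
    have b := key 9 73 (by norm_num) (by norm_num) (by norm_num)
    have c := key 12 13 (by norm_num) (by norm_num) (by norm_num)
    rcases fin (by omega) (by omega) (by omega) with rfl | rfl | rfl <;> simp
  · have a := key 8 41 (by norm_num) (by norm_num) (by norm_num)
    have b := key 3 13 (by norm_num) (by norm_num) (by norm_num)
    rcases fin (by omega) (by omega) (by omega) with rfl | rfl | rfl <;> simp at b ⊢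
  · have a := key 4 13 (by norm_num) (by norm_num) (by norm_num)
    have b := key 3 31 (by norm_num) (by norm_num) (by norm_num)
    rcases fin (by omega) (by omega) (by omega) with rfl | rfl | rfl <;> simp at a b ⊢
  · have a := key 8 1201 (by norm_num) (by norm_num) (by norm_num)
    have b := key 3 19 (by norm_num) (by norm_num) (by norm_num)
    rcases fin (by omega) (by omega) (by omega) with rfl | rfl | rfl <;> simp at b ⊢

theorem sm_psl2 {F : Type} [Field F] [Fintype F]
    (h : Om (Matrix.ProjectiveSpecialLinearGroup (Fin 2) F)) :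
    Sm (Matrix.ProjectiveSpecialLinearGroup (Fin 2) F) := by
  have hc := Class.gcd_mul_card_PSL2 (F := F)
  obtain ⟨⟨x, hx⟩, -⟩ := CITCor.exists_orderOf_psl2 F
  have hx' := hx ▸ h x
  rw [Nat.card_eq_fintype_card (α := F)] at hc
  have hs := smooth (Fintype.isPrimePow_card_of_field (α := F)) fun p hp e => by
    rw [show Fintype.card F ^ 2 - 1 = (Fintype.card F - 1) * (Fintype.card F + 1) by
      rw [mul_comm, ← Nat.sq_sub_sq, one_pow], ← mul_assoc, ← hc] at e
    rcases (Nat.Prime.dvd_mul hp).1 e with e | e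
    · exact (Nat.le_of_dvd two_pos (e.trans (Nat.gcd_dvd_left _ _))).trans (by norm_num)
    · have := h.prime hp e
      omega
  rcases hs with e | e | e | e | e | e | e | e <;> rw [e] at hc hx' <;> norm_num at hc
  · exact .of_card hc (by norm_num) (by norm_num) (by norm_num)
  · exact .of_card (n := 12) (by omega) (by norm_num) (by norm_num) (by norm_num)
  · exact .of_card hc (by norm_num) (by norm_num) (by norm_num)
  · exact .of_card (n := 60) (by omega) (by norm_num) (by norm_num) (by norm_num)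
  · exact .of_card (n := 168) (by omega) (by norm_num) (by norm_num) (by norm_num)
  · exact .of_card hc (by norm_num) (by norm_num) (by norm_num)
  · exact .of_card (n := 360) (by omega) (by norm_num) (by norm_num) (by norm_num)
  · exact absurd hx' (by decide)

end Cfsg.Lib.A10S
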