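import Mathlib.GroupTheory.Sylow
import Mathlib.GroupTheory.Solvable
import Mathlib.GroupTheory.SpecificGroups.Alternating
import Cfsg.Prelude.Def_CaseTheorems
import Cfsg.Prelude.Def_Classical
import Cfsg.Prelude.Def_Spor_J2

/-!
# Groups with the element orders of the alternating group of degree ten: definitions
-/

set_option autoImplicit false

namespace Cfsg.Lib.A10S

open Subgroup
open scoped commutatorElement

universe u

/-- The element orders of the alternating group of degree ten. -/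
def OmS : Finset ℕ := {1, 2, 3, 4, 5, 6, 7, 8, 9, 10, 12, 15, 21}

/-- All element orders lie in `OmS`. -/
def Om (G : Type*) [Group G] : Prop := ∀ g : G, orderOf g ∈ OmS

/-- There is an element of order `n`. -/
def Has (G : Type*) [Group G] (n : ℕ) : Prop := ∃ g : G, orderOf g = n

/-- The hypothesis inherited by the quotient modulo the solvable radical. -/
structure Hy (G : Type*) [Group G] : Prop where
  om : Om G
  d7 : 2 ^ 7 ∣ Nat.card G
  n8 : ¬ 2 ^ 8 ∣ Nat.card G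
  h7 : Has G 7
  h8 : Has G 8

/-- The six possible socles. -/
def Six (S : Type*) [Group S] : Prop :=
  Nonempty (S ≃* alternatingGroup (Fin 8)) ∨
  (∃ (F : Type) (_ : Field F) (_ : Fintype F), Fintype.card F = 4 ∧
    Nonempty (S ≃* Matrix.ProjectiveSpecialLinearGroup (Fin 3) F)) ∨
  Nonempty (S ≃* alternatingGroup (Fin 9)) ∨ Nonempty (S ≃* alternatingGroup (Fin 10)) ∨
  (∃ (F : Type) (_ : Field F) (_ : Fintype F), Fintype.card F = 9 ∧ Nonempty (S ≃* PSU 4 F 3)) ∨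
  Spor.IsoJ2 S

/-- What is needed from the classification theorems. -/
def Sm (S : Type*) [Group S] : Prop :=
  (¬ 7 ∣ Nat.card S → ¬ 25 ∣ Nat.card S) ∧ ¬ 49 ∣ Nat.card S ∧
    (7 ∣ Nat.card S → 64 ∣ Nat.card S → Six S)

/-- The list of simple groups, as a hypothesis. -/
def Lis : Prop := ∀ (S : Type u) [Group S] [Finite S] [IsSimpleGroup S], ¬ IsMulCommutative S →
  Om S → ¬ 2 ^ 8 ∣ Nat.card S → (2 ^ 7 ∣ Nat.card S → Has S 8) → Sm S

/-- `S` is the socle of the almost simple group `H`. -/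
structure Soc (H : Type*) [Group H] (S : Subgroup H) : Prop where
  hy : Hy H
  nm : S.Normal
  simple : IsSimpleGroup S
  cent : ∀ h : H, (∀ s ∈ S, h * s = s * h) → h = 1
  six : Six S

/-- `K` is a solvable normal subgroup of order prime to 14. -/
structure Tp (G : Type*) [Group G] (K : Subgroup G) : Prop where
  hy : Hy G
  sol : Group.IsSolvable K
  cop : Nat.Coprime (Nat.card K) 14

/-- An element of order seven of `S` conjugate to its third power. -/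
def FD {H : Type*} [Group H] (S : Subgroup H) : Prop :=
  ∃ x ∈ S, ∃ g : H, orderOf x = 7 ∧ g * x * g⁻¹ = x ^ 3

/-- The property of the two simple groups of order 20160 that is used. -/
def P20 (S : Type*) [Group S] : Prop :=
  Nat.card S = 20160 ∧ ∀ α : MulAut S, α ^ 9 = 1 → α ^ 3 = 1 ∧ ((∃ s, α = MulAut.conj s) ∨
    ∃ h : S, (orderOf h = 5 ∨ orderOf h = 7) ∧ α h = h)

variable {G : Type*} [Group G]

/-- Nilpotency class at most two. -/
def Cl2 (T : Subgroup G) : Prop := ∀ a ∈ T, ∀ b ∈ T, ∀ c ∈ T, ⁅a, b⁆ * c = c * ⁅a, b⁆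

/-- A simple group with a Sylow 2-subgroup of order 128. -/
structure Amb (T : Sylow 2 G) : Prop where
  simple : IsSimpleGroup G
  nc : ¬ IsMulCommutative G
  om : Om G
  card : Nat.card (T : Subgroup G) = 128

/-- First case: a normal elementary abelian subgroup of order 32 with cyclic quotient. -/
structure One (T X : Subgroup G) (u : G) : Prop where
  le : X ≤ T
  cT : Nat.card T = 128
  cX : Nat.card X = 32
  sq : ∀ x ∈ X, x * x = 1
  nm : ∀ t ∈ T, ∀ x ∈ X, t * x * t⁻¹ ∈ X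
  uT : u ∈ T
  o8 : orderOf u = 8

/-- Second case: a non-abelian maximal subgroup with Frattini subgroup of order two. -/
structure Two (T A : Subgroup G) (z : G) : Prop where
  le : A ≤ T
  cT : Nat.card T = 128
  cA : Nat.card A = 64
  z2 : z * z = 1
  z1 : z ≠ 1
  zA : z ∈ A
  sq : ∀ a ∈ A, a * a = 1 ∨ a * a = z
  cm : ∀ a ∈ A, ∀ b ∈ A, ⁅a, b⁆ = 1 ∨ ⁅a, b⁆ = z
  na : ∃ a ∈ A, ∃ b ∈ A, ⁅a, b⁆ = z

/-- The second case with `C / ⟨z⟩ = Z(T / ⟨z⟩)` and `D = T'`. -/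
structure Tw (T A C D : Subgroup G) (z : G) : Prop extends Two T A z where
  zT : ∀ x ∈ T, x * z = z * x
  out : ∀ x ∈ T, ∀ y ∈ T, x ∉ A → y ∉ A → x * y ∈ A
  memC : ∀ a, a ∈ C ↔ a ∈ A ∧ ∀ x ∈ T, x * a * x⁻¹ = a ∨ x * a * x⁻¹ = a * z
  DC : D ≤ C
  zD : z ∈ D
  cmD : ∀ x ∈ T, ∀ y ∈ T, ⁅x, y⁆ ∈ D
  Dw : ∀ s ∈ T, s ∉ A → ∀ d ∈ D, ∃ a ∈ A, d = ⁅s, a⁆ ∨ d = ⁅s, a⁆ * z
  CD : ∀ c ∈ C, ∀ d ∈ D, c * d = d * c
  card : (Nat.card C = 32 ∧ Nat.card D = 4) ∨ (Nat.card C = 16 ∧ Nat.card D = 8)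
  w4 : ∃ w ∈ D, w * w = z
  aw : ∀ s ∈ T, s ∉ A → ∀ a ∈ A, ⁅a, ⁅s, a⁆⁆ = ⁅s, a⁆ * ⁅s, a⁆
  u8 : ∃ u ∈ T, orderOf u = 8

/-! ### Basic facts -/

theorem mem_OmS {n : ℕ} : n ∈ OmS ↔ n = 1 ∨ n = 2 ∨ n = 3 ∨ n = 4 ∨ n = 5 ∨ n = 6 ∨ n = 7 ∨
    n = 8 ∨ n = 9 ∨ n = 10 ∨ n = 12 ∨ n = 15 ∨ n = 21 := by
  simp [OmS]

theorem mem_OmS_of_dvd {m n : ℕ} (h : n ∈ OmS) (e : m ∣ n) : m ∈ OmS := by
  have h1 : 0 < n ∧ n ≤ 21 := by rw [mem_OmS] at h; omega
  have h2 : m < 22 := by have := Nat.le_of_dvd h1.1 e; omega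
  revert e
  revert h2
  revert m
  rw [mem_OmS] at h
  rcases h with h | h | h | h | h | h | h | h | h | h | h | h | h <;> subst h <;> decide

variable {H : Type*} [Group H]

theorem Om.dvd (h : Om G) {g : G} {m : ℕ} (e : m ∣ orderOf g) : m ∈ OmS := mem_OmS_of_dvd (h g) e

theorem Om.not_dvd (h : Om G) (g : G) {m : ℕ} (hm : m ∉ OmS) : ¬ m ∣ orderOf g :=
  fun e => hm (h.dvd e)

theorem Om.of_injective (h : Om G) (f : H →* G) (hf : Function.Injective f) : Om H := fun x =>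
  orderOf_injective f hf x ▸ h _

theorem Om.of_surjective (h : Om G) (f : G →* H) (hf : Function.Surjective f) : Om H := fun x => by
  obtain ⟨g, rfl⟩ := hf x
  exact h.dvd (orderOf_map_dvd f g)

theorem Om.of_equiv (h : Om G) (e : G ≃* H) : Om H := h.of_surjective e.toMonoidHom e.surjective

theorem Om.subgroup (h : Om G) (K : Subgroup G) : Om K :=
  h.of_injective K.subtype K.subtype_injective

theorem Om.quotient (h : Om G) (K : Subgroup G) [K.Normal] : Om (G ⧸ K) :=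
  h.of_surjective _ (QuotientGroup.mk'_surjective K)

/-- commuting elements of coprime orders -/
theorem Om.mul_mem (h : Om G) {x y : G} {a b : ℕ} (c : x * y = y * x) (hx : orderOf x = a)
    (hy : orderOf y = b) (hab : Nat.Coprime a b) : a * b ∈ OmS := by
  subst hx hy
  rw [← Commute.orderOf_mul_eq_mul_orderOf_of_coprime c hab]
  exact h _

theorem Om.has (h : Om G) {n : ℕ} (k : Has G n) : n ∈ OmS := by
  obtain ⟨g, rfl⟩ := k
  exact h g

theorem Om.prime [Finite G] (h : Om G) {p : ℕ} (hp : p.Prime) (e : p ∣ Nat.card G) :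
    p = 2 ∨ p = 3 ∨ p = 5 ∨ p = 7 := by
  have := Fact.mk hp
  obtain ⟨g, hg⟩ := exists_prime_orderOf_dvd_card' p e
  have k := h g
  rw [hg, mem_OmS] at k
  rcases k with k | k | k | k | k | k | k | k | k | k | k | k | k <;> subst k <;>
    first | omega | exact absurd hp (by decide)

theorem Om.not_prime_dvd [Finite G] (h : Om G) {p : ℕ} (hp : p.Prime) (h7 : 7 < p) :
    ¬ p ∣ Nat.card G := fun e => by
  have := h.prime hp e
  omega

theorem Has.of_injective {n : ℕ} (h : Has H n) (f : H →* G) (hf : Function.Injective f) :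
    Has G n := by
  obtain ⟨x, rfl⟩ := h
  exact ⟨f x, orderOf_injective f hf x⟩

theorem Has.of_equiv {n : ℕ} (h : Has H n) (e : H ≃* G) : Has G n :=
  h.of_injective e.toMonoidHom e.injective

theorem Six.of_equiv (h : Six G) (e : H ≃* G) : Six H := by
  rcases h with ⟨⟨f⟩⟩ | ⟨F, _, _, a, ⟨f⟩⟩ | ⟨⟨f⟩⟩ | ⟨⟨f⟩⟩ | ⟨F, _, _, a, ⟨f⟩⟩ | ⟨⟨f⟩⟩
  · exact .inl ⟨e.trans f⟩
  · exact .inr (.inl ⟨F, _, _, a, ⟨e.trans f⟩⟩)
  · exact .inr (.inr (.inl ⟨e.trans f⟩))
  · exact .inr (.inr (.inr (.inl ⟨e.trans f⟩)))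
  · exact .inr (.inr (.inr (.inr (.inl ⟨F, _, _, a, ⟨e.trans f⟩⟩))))
  · exact .inr (.inr (.inr (.inr (.inr ⟨e.trans f⟩))))

theorem Sm.of_equiv (h : Sm G) (e : H ≃* G) : Sm H := by
  have c : Nat.card H = Nat.card G := Nat.card_congr e.toEquiv
  unfold Sm
  rw [c]
  exact ⟨h.1, h.2.1, fun a b => (h.2.2 a b).of_equiv e⟩

/-- `Sm` from the order alone. -/
theorem Sm.of_card {n : ℕ} (e : Nat.card G = n) (h1 : 7 ∣ n ∨ ¬ 25 ∣ n) (h2 : ¬ 49 ∣ n)
    (h3 : ¬ 7 ∣ n ∨ ¬ 64 ∣ n) : Sm G := by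
  subst e
  exact ⟨by tauto, h2, by tauto⟩

theorem Sm.of_six {n : ℕ} (e : Nat.card G = n) (h1 : 7 ∣ n) (h2 : ¬ 49 ∣ n) (h3 : Six G) :
    Sm G := by
  subst e
  exact ⟨by tauto, h2, fun _ _ => h3⟩

end Cfsg.Lib.A10S
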