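import Cfsg.Agent.A10S.Defs
import Cfsg.Agent.Solv.CoprimeFixed

/-!
# An element of order seven conjugate to its third power centralises the solvable radical
-/

set_option autoImplicit false

namespace Cfsg.Lib.A10S

open Subgroup Cfsg.Lib.Solv
open scoped commutatorElement

universe u

namespace F42

open Finset in
theorem geo {E : Type*} [Ring E] {a : E} (ha : a ^ 7 = 1) {c : ℕ} (hc : ¬ 7 ∣ c) :
    (a - 1) * ∑ j ∈ range 7, (a ^ c) ^ j = 0 := by
  obtain ⟨d, -, hd⟩ := Nat.exists_mul_mod_eq_one_of_coprime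
    ((Nat.Prime.coprime_iff_not_dvd (by decide : Nat.Prime 7)).2 hc).symm (by decide)
  have e : (a ^ c) ^ d = a := by
    rw [← pow_mul, ← Nat.div_add_mod (c * d) 7, hd, pow_add, pow_mul, ha, one_pow, one_mul, pow_one]
  calc _ = ((a ^ c) ^ d - 1) * ∑ j ∈ range 7, (a ^ c) ^ j := by rw [e]
    _ = 0 := by
      rw [← geom_sum_mul, mul_assoc, mul_geom_sum, ← pow_mul, mul_comm c, pow_mul, ha, one_pow,
        sub_self, mul_zero]

open Finset in
/-- The Frobenius group of order 42 acting with vanishing norm of the complement. -/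
theorem ring {E : Type*} [Ring E] {a b : E} (ha : a ^ 7 = 1) (h : b * a = a ^ 3 * b)
    (hn : ∑ i ∈ range 6, b ^ i = 0) : (a - 1) * 7 = 0 := by
  have h1 : ∀ n, b * a ^ n = a ^ (3 * n) * b := fun n => by
    induction n with
    | zero => simp
    | succ n ih => rw [pow_succ, ← mul_assoc, ih, mul_assoc, h, ← mul_assoc, ← pow_add, mul_add]
  have h2 : ∀ i n, b ^ i * a ^ n = a ^ (3 ^ i * n) * b ^ i := fun i => by
    induction i with
    | zero => simp
    | succ i ih =>
      intro n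
      rw [pow_succ, mul_assoc, h1, ← mul_assoc, ih, mul_assoc, ← pow_succ, ← mul_assoc, ← pow_succ]
  have h3 : ∑ i ∈ range 6, (∑ j ∈ range 7, (a ^ (1 + 3 ^ i * 6)) ^ j) * b ^ i = 0 := by
    calc _ = ∑ j ∈ range 7, a ^ j * (∑ i ∈ range 6, b ^ i) * a ^ (6 * j) := by
          simp only [sum_mul, mul_sum]
          rw [sum_comm]
          refine sum_congr rfl fun j _ => sum_congr rfl fun i _ => ?_
          rw [mul_assoc, h2, ← mul_assoc, ← pow_add, ← pow_mul]
          congr 2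
          ring
      _ = 0 := by simp [hn]
  have h4 := congrArg ((a - 1) * ·) h3
  simp only [mul_zero, mul_sum] at h4
  rw [sum_eq_single_of_mem 0 (by simp) fun i hi i0 => by
    rw [← mul_assoc, geo ha, zero_mul]
    have := mem_range.1 hi
    interval_cases i <;> simp_all] at h4
  simpa [ha] using h4

variable {G : Type*} [Group G] [Finite G] {y g : G}

omit [Finite G] in
theorem conj_it (h : g * y * g⁻¹ = y ^ 3) (m : ℕ) : g ^ m * y * (g ^ m)⁻¹ = y ^ 3 ^ m := by
  induction m with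
  | zero => simp
  | succ m ih =>
    calc _ = g * (g ^ m * y * (g ^ m)⁻¹) * g⁻¹ := by rw [pow_succ']; group
      _ = _ := by rw [ih, ← conj_pow, h, ← pow_mul, pow_succ']

omit [Finite G] in
theorem six (hy : orderOf y = 7) (h : g * y * g⁻¹ = y ^ 3) : 6 ∣ orderOf g := by
  have h2 := conj_it h (orderOf g)
  rw [pow_orderOf_eq_one, one_mul, inv_one, mul_one] at h2
  have h3 := pow_eq_pow_iff_modEq.1 ((pow_one y).trans h2)
  rw [hy, ← Nat.div_add_mod (orderOf g) 6, pow_add, pow_mul, Nat.ModEq, Nat.mul_mod, Nat.pow_mod,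
    show 3 ^ 6 % 7 = 1 from rfl, one_pow] at h3
  have h4 := Nat.mod_lt (orderOf g) (show 0 < 6 by decide)
  rw [Nat.dvd_iff_mod_eq_zero]
  generalize orderOf g % 6 = r at h3 h4
  interval_cases r <;> first | rfl | exact absurd h3 (by decide)

theorem pow_six (hG : Om G) (hy : orderOf y = 7) (h : g * y * g⁻¹ = y ^ 3) : g ^ 6 = 1 := by
  have h1 := six hy h
  have h2 := mem_OmS.1 (hG g)
  obtain h3 | h3 : orderOf g = 6 ∨ orderOf g = 12 := by omega
  · rw [← h3, pow_orderOf_eq_one]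
  have e := conj_it h 6
  rw [show 3 ^ 6 = 7 * 104 + 1 from rfl, pow_succ y, pow_mul, ← hy, pow_orderOf_eq_one, one_pow,
    one_mul] at e
  exact absurd (hG.mul_mem (a := 2) (mul_inv_eq_iff_eq_mul.1 e) (by rw [orderOf_pow, h3]; rfl) hy
    (by decide)) (by decide)

theorem order_mk {V : Subgroup G} [V.Normal] (hV : Nat.Coprime (Nat.card V) 14)
    (hy : orderOf y = 7) : orderOf (y : G ⧸ V) = 7 := by
  have := Fact.mk (by decide : Nat.Prime 7)
  refine orderOf_eq_prime (by rw [← QuotientGroup.mk_pow, ← hy, pow_orderOf_eq_one]; rfl) fun e => ?_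
  have := orderOf_dvd_natCard V ((QuotientGroup.eq_one_iff y).1 e)
  rw [hy] at this
  exact absurd (Nat.eq_one_of_dvd_coprimes hV this (by decide)) (by decide)

open scoped IsMulCommutative in
theorem abel (hG : Om G) {V : Subgroup G} [V.Normal] [IsMulCommutative V]
    (hV : Nat.Coprime (Nat.card V) 14) (hy : orderOf y = 7) (h : g * y * g⁻¹ = y ^ 3) :
    ∀ v ∈ V, y * v = v * y := fun v hv => by
  let ρ : G →* AddMonoid.End (Additive V) :=
    { toFun := fun x => MonoidHom.toAdditive (MulAut.conjNormal x).toMonoidHom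
      map_one' := by rw [map_one]; rfl
      map_mul' := fun x y => by rw [map_mul]; rfl }
  have hρ : ∀ g (v : Additive V), ((ρ g v).toMul : G) = g * v.toMul * g⁻¹ := fun g v => rfl
  have key : ∀ (v : Additive V) (n : ℕ), ((v.toMul : G) * g) ^ n =
      ((∑ t ∈ Finset.range n, ρ g ^ t) v).toMul * g ^ n := fun v n => by
    induction n with
    | zero => simp
    | succ n ih =>
      have e : ∀ a b : AddMonoid.End (Additive V), (a + b) v = a v + b v := fun _ _ => rfl
      rw [pow_succ, ih, Finset.sum_range_succ, e, toMul_add, Subgroup.coe_mul,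
        ← map_pow, hρ, pow_succ]
      group
  have g6 := pow_six hG hy h
  have h1 := ring (a := ρ y) (b := ρ g) (by rw [← map_pow, ← hy, pow_orderOf_eq_one, map_one])
    (by rw [← map_pow, ← map_mul, ← map_mul, ← h, inv_mul_cancel_right])
    (AddMonoidHom.ext fun w => by
      have k := key w 6
      rw [g6, mul_one] at k
      have e : ((w.toMul * g : G) : G ⧸ V) = g := by
        rw [QuotientGroup.mk_mul, (QuotientGroup.eq_one_iff _).2 w.toMul.2, one_mul]
      have k1 : 6 ∣ orderOf (w.toMul * g : G) :=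
        (six (y := (y : G ⧸ V)) (g := ((w.toMul * g : G) : G ⧸ V)) (order_mk hV hy) (by
          rw [e]; exact congrArg (QuotientGroup.mk (s := V)) h)).trans
          (orderOf_map_dvd (QuotientGroup.mk' V) _)
      have k2 := mem_OmS.1 (hG (w.toMul * g))
      have k3 : orderOf ((w.toMul * g : G) ^ 6) ∣ 2 := orderOf_dvd_of_pow_eq_one (by
        rw [← pow_mul]
        refine orderOf_dvd_iff_pow_eq_one.1 ?_
        obtain k5 | k5 : orderOf (w.toMul * g : G) = 6 ∨ orderOf (w.toMul * g : G) = 12 := by omega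
        · rw [k5]; decide
        · rw [k5])
      have k4 : orderOf ((w.toMul * g : G) ^ 6) ∣ Nat.card V :=
        orderOf_dvd_natCard V (k ▸ Subtype.property _)
      have k5 := orderOf_eq_one_iff.1 (Nat.eq_one_of_dvd_coprimes
        (Nat.Coprime.coprime_dvd_right (by decide : 2 ∣ 14) hV) k4 k3)
      exact Subtype.ext (k.symm.trans k5))
  have h2 : y * v ^ 7 * y⁻¹ * (v ^ 7)⁻¹ = 1 := by
    rw [sub_mul, one_mul, sub_eq_zero] at h1
    have k := DFunLike.congr_fun h1 (Additive.ofMul ⟨v, hv⟩)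
    have e : ∀ a b : AddMonoid.End (Additive V), ∀ w, (a * b) w = a (b w) := fun _ _ _ => rfl
    rw [e, show (7 : AddMonoid.End (Additive V)) = ((7 : ℕ) : _) from rfl,
      AddMonoid.End.natCast_apply] at k
    have k1 := hρ y (7 • Additive.ofMul ⟨v, hv⟩)
    rw [k, toMul_nsmul, toMul_ofMul, Subgroup.coe_pow] at k1
    exact mul_inv_eq_one.2 k1.symm
  obtain ⟨d, hd⟩ := exists_pow_eq_self_of_coprime (x := v) (n := 7)
    ((Nat.Coprime.coprime_dvd_right (by decide : 7 ∣ 14) hV).coprime_dvd_left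
      (orderOf_dvd_natCard V hv)).symm
  have h3 : Commute y (v ^ 7) := by
    rwa [mul_inv_eq_one, mul_inv_eq_iff_eq_mul] at h2
  exact hd ▸ (h3.pow_right d).eq

theorem cent (hG : Om G) (hy : orderOf y = 7) (h : g * y * g⁻¹ = y ^ 3) (K : Subgroup G) :
    K.Normal → Group.IsSolvable K → Nat.Coprime (Nat.card K) 14 → ∀ k ∈ K, y * k = k * y := by
  induction K using WellFoundedLT.induction with
  | ind K ih =>
  intro _ hs hc k hk
  rcases eq_or_ne K ⊥ with rfl | h0
  · simp [mem_bot.1 hk]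
  have lt : ⁅K, K⁆ < K := by
    rw [← nontrivial_iff_ne_bot] at h0
    rw [← Subgroup.map_subtype_commutator]
    conv_rhs => rw [← K.range_subtype, MonoidHom.range_eq_map]
    rw [map_subtype_lt_map_subtype]
    exact Group.IsSolvable.commutator_lt_top_of_nontrivial K
  have c1 : Nat.Coprime (Nat.card (⁅K, K⁆ : Subgroup G)) 14 :=
    hc.coprime_dvd_left (card_dvd_of_le lt.le)
  have h1 := ih _ lt inferInstance
    (Group.isSolvable_of_isSolvable_injective (inclusion_injective lt.le)) c1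
  have : (K.map (QuotientGroup.mk' ⁅K, K⁆)).Normal :=
    Normal.map inferInstance _ (QuotientGroup.mk'_surjective _)
  have : IsMulCommutative (K.map (QuotientGroup.mk' ⁅K, K⁆)) := ⟨⟨by
    rintro ⟨_, a, ha, rfl⟩ ⟨_, b, hb, rfl⟩
    refine Subtype.ext (commutatorElement_eq_one_iff_mul_comm.1 ?_)
    exact (QuotientGroup.eq_one_iff ⁅a, b⁆).2 (commutator_mem_commutator ha hb)⟩⟩
  have h2 := abel (hG.quotient ⁅K, K⁆) (V := K.map (QuotientGroup.mk' ⁅K, K⁆))
    (hc.coprime_dvd_left (Subgroup.card_map_dvd _ _)) (order_mk c1 hy) (g := (g : G ⧸ ⁅K, K⁆))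
    (congrArg (QuotientGroup.mk (s := ⁅K, K⁆)) h) _ ⟨k, hk, rfl⟩
  have h3 : y * k * y⁻¹ * k⁻¹ ∈ ⁅K, K⁆ :=
    (QuotientGroup.eq_one_iff ⁅y, k⁆).1 (commutatorElement_eq_one_iff_mul_comm.2 h2)
  refine (Coprime.commute_of_commute_commutator (h1 _ h3) ?_).eq
  rw [hy]
  exact ((Nat.Coprime.coprime_dvd_right (by decide : 7 ∣ 14) c1).coprime_dvd_left
    (orderOf_dvd_natCard _ h3)).symm

end F42

variable {G : Type u} [Group G] [Finite G]

section
variable {K : Subgroup G} [K.Normal]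

theorem Tp.f42 (h : Tp G K) {x g : G ⧸ K} (hx : orderOf x = 7) (hg : g * x * g⁻¹ = x ^ 3) :
    ∃ y : G, orderOf y = 7 ∧ (y : G ⧸ K) = x ∧ ∀ k ∈ K, y * k = k * y := by
  have c7 := Nat.Coprime.coprime_dvd_right (by decide : 7 ∣ 14) h.cop
  have := Fact.mk (by decide : Nat.Prime 7)
  obtain ⟨y, hy, rfl⟩ : ∃ y : G, orderOf y = 7 ∧ (y : G ⧸ K) = x := by
    obtain ⟨y, rfl⟩ := QuotientGroup.mk_surjective x
    obtain ⟨d, hd⟩ := exists_pow_eq_self_of_coprime (x := (y : G ⧸ K)) (n := Nat.card K) (hx ▸ c7)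
    have e : y ^ 7 ∈ K := (QuotientGroup.eq_one_iff _).1 (by
      rw [QuotientGroup.mk_pow, ← hx, pow_orderOf_eq_one])
    refine ⟨(y ^ Nat.card K) ^ d, orderOf_eq_prime ?_ fun k => ?_, hd⟩
    · rw [← pow_mul, ← pow_mul, show Nat.card K * (d * 7) = 7 * Nat.card K * d by ring, pow_mul,
        pow_mul, orderOf_dvd_iff_pow_eq_one.1 (orderOf_dvd_natCard K e), one_pow]
    · have : (y : G ⧸ K) = 1 := hd.symm.trans (congrArg (QuotientGroup.mk (s := K)) k)
      simp [this] at hx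
  obtain ⟨g, rfl⟩ := QuotientGroup.mk_surjective g
  have cop : (Nat.card (zpowers y)).Coprime (Nat.card K) := by rw [Nat.card_zpowers, hy]; exact c7.symm
  have m : g * y * g⁻¹ * (y ^ 3)⁻¹ ∈ K := (QuotientGroup.eq_one_iff _).1 (mul_inv_eq_one.2 hg)
  obtain ⟨k, hk, e⟩ := Coprime.exists_conj_eq (A := zpowers y) (K := K) le_normalizer_of_normal cop
    (.inr h.sol) (B := zpowers (g * y * g⁻¹)) (zpowers_le.2 (by
      simpa using mul_mem (mem_sup_left m) (mem_sup_right (pow_mem (mem_zpowers y) 3))))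
    (by rw [Nat.card_zpowers, Nat.card_zpowers]; exact (MulAut.conj g).orderOf_eq y)
  have e1 : k⁻¹ * (g * y * g⁻¹) * k ∈ zpowers y := Coprime.mem_conj_smul.1 (e ▸ mem_zpowers _)
  refine ⟨y, hy, rfl, F42.cent h.hy.om hy (g := k⁻¹ * g) ?_ K inferInstance h.sol h.cop⟩
  have e2 : k⁻¹ * g * y * (k⁻¹ * g)⁻¹ * (y ^ 3)⁻¹ ∈ zpowers y ⊓ K := by
    refine ⟨(zpowers y).mul_mem (by simpa [mul_assoc] using e1)
      (inv_mem (pow_mem (mem_zpowers y) 3)), (QuotientGroup.eq_one_iff _).1 ?_⟩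
    have k1 : ((k⁻¹ * g : G) : G ⧸ K) = g := by
      rw [QuotientGroup.mk_mul, (QuotientGroup.eq_one_iff _).2 (inv_mem hk), one_mul]
    change ((k⁻¹ * g : G) : G ⧸ K) * y * ((k⁻¹ * g : G) : G ⧸ K)⁻¹ * ((y : G ⧸ K) ^ 3)⁻¹ = 1
    rw [k1, hg, mul_inv_cancel]
  rwa [inf_eq_bot_of_coprime cop, mem_bot, mul_inv_eq_one] at e2

theorem Tp.bot (h : Tp G K) [IsSimpleGroup (G ⧸ K)] (h1 : FD (⊤ : Subgroup (G ⧸ K))) : K = ⊥ := by
  obtain ⟨x, -, g, hx, hg⟩ := h1
  obtain ⟨y, -, rfl, hy⟩ := h.f42 hx hg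
  have hC : ((centralizer (K : Set G)).map (QuotientGroup.mk' K)).Normal :=
    Normal.map inferInstance _ (QuotientGroup.mk'_surjective _)
  have e := hC.eq_bot_or_eq_top.resolve_left fun e => by
    have : (y : G ⧸ K) = 1 := mem_bot.1 (e ▸ ⟨y, fun k hk => (hy k hk).symm, rfl⟩)
    simp [this] at hx
  obtain ⟨w, hw⟩ := h.hy.h8
  obtain ⟨c, hc, k⟩ := e.ge (mem_top (w : G ⧸ K))
  have k1 : c⁻¹ * w ∈ K := QuotientGroup.eq.1 k
  have c2 := Nat.Coprime.coprime_dvd_right (by decide : 2 ∣ 14) h.cop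
  have k2 : w ^ Nat.card K = c ^ Nat.card K := by
    have : Commute c (c⁻¹ * w) := (hc _ k1).symm
    rw [← mul_inv_cancel_left c w, this.mul_pow,
      orderOf_dvd_iff_pow_eq_one.1 (orderOf_dvd_natCard K k1), mul_one]
  by_contra h0
  obtain ⟨p, pp, hp⟩ := Nat.exists_prime_and_dvd (n := Nat.card K) (by simpa using h0)
  have := Fact.mk pp
  obtain ⟨r, hr⟩ := exists_prime_orderOf_dvd_card' p hp
  have k3 := h.hy.om.mul_mem (x := r) (y := w ^ Nat.card K) (a := p) (b := 8)
    (k2 ▸ pow_mem hc _ r r.2) ((orderOf_coe r).trans hr)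
    (hw ▸ Nat.Coprime.orderOf_pow (hw ▸ (c2.pow_right 3).symm))
    ((c2.coprime_dvd_left hp).pow_right 3)
  have := pp.two_le
  rw [mem_OmS] at k3
  omega

end

end Cfsg.Lib.A10S
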