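import Cfsg.Agent.A10S.Defs
import Cfsg.Agent.Block.ZStarElt
import Cfsg.Agent.Trans.OrbitTransfer
import Cfsg.Agent.Trans.SylowIn
import Cfsg.Agent.Bender.TwoRank

/-!
# Fusion and transfer in a simple group with a Sylow 2-subgroup of order 128
-/

set_option autoImplicit false

namespace Cfsg.Lib.A10S

open Subgroup Cfsg.Lib.Trans
open scoped commutatorElement

universe u

namespace Fus

open Classical in
/-- An invariant function of exponent two: only the fixed points count. -/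
theorem prod_fix {Q Ω M : Type*} [Group Q] [MulAction Q Ω] [Fintype Ω] [CommGroup M]
    (hQ : IsPGroup 2 Q) (F : Ω → M) (h2 : ∀ q, F q ^ 2 = 1) (hF : ∀ (p : Q) q, F (p • q) = F q) :
    ∏ q, F q = ∏ q, if ∀ p : Q, p • q = q then F q else 1 := by
  rw [prod_eq_prod_fixed (D := Q) F (Finset.univ.filter fun q => ∀ p : Q, p • q = q)
    (fun q hq => (Finset.mem_filter.1 hq).2) fun q hq => ?_, Finset.prod_filter]
  rw [Finset.prod_congr rfl (g := fun _ => F q) fun r hr => by
    obtain ⟨p, rfl⟩ := (Finset.mem_filter.1 hr).2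
    exact hF p q, Finset.prod_const]
  obtain ⟨n, hn⟩ := hQ.card_orbit q
  have h3 : (Finset.univ.filter fun r => r ∈ MulAction.orbit Q q).card = 2 ^ n := by
    rw [← hn, Nat.card_eq_fintype_card, Fintype.card_subtype]
  rw [h3]
  rcases n with _ | n
  · refine absurd (Finset.mem_filter.2 ⟨Finset.mem_univ _, fun p => ?_⟩) hq
    exact Finset.card_le_one.1 h3.le _ (by simp) _ (by simp)
  · rw [pow_succ', pow_mul, h2, one_pow]

end Fus

variable {G : Type u} [Group G] [Finite G]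

section
variable {T : Sylow 2 G} {A B D X : Subgroup G} {c t u z : G}

omit [Finite G] in
theorem Amb.perf (h : Amb T) : commutator G = ⊤ :=
  have := h.simple
  ((inferInstance : (commutator G).Normal).eq_bot_or_eq_top).resolve_left fun e =>
    h.nc ⟨⟨fun a b => commutatorElement_eq_one_iff_mul_comm.1 (mem_bot.1
      (e ▸ commutator_mem_commutator (mem_top a) (mem_top b)))⟩⟩

theorem Amb.nt (h : Amb T) {k : ℕ}
    (hk : Nat.card {x : G // x ∈ (T : Subgroup G) ∧ orderOf x = 8} = 2 ^ k) {g : G}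
    (hg : ∀ x ∈ (T : Subgroup G), g * x * g⁻¹ ∈ (T : Subgroup G)) : g ∈ (T : Subgroup G) := by
  have hgN : g ∈ normalizer ((T : Subgroup G) : Set G) := mem_normalizer_fintype hg
  have hp : ∀ p : ℕ, p.Prime → p ∣ Nat.card (normalizer ((T : Subgroup G) : Set G)) → p = 2 := by
    intro p pp hd
    by_contra p2
    have := Fact.mk pp
    obtain ⟨ρ, hρ⟩ := exists_prime_orderOf_dvd_card' p hd
    have hz : ∀ a : zpowers (ρ : G), (a : G) ∈ normalizer ((T : Subgroup G) : Set G) := fun a =>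
      zpowers_le.2 ρ.2 a.2
    let act : MulAction (zpowers (ρ : G)) {x : G // x ∈ (T : Subgroup G) ∧ orderOf x = 8} :=
      { smul := fun a x => ⟨a * x * (a : G)⁻¹, (mem_normalizer_iff.1 (hz a) x).1 x.2.1,
          ((MulAut.conj (a : G)).orderOf_eq x).trans x.2.2⟩
        one_smul := fun x => Subtype.ext (by
          change ((1 : zpowers (ρ : G)) : G) * x * ((1 : zpowers (ρ : G)) : G)⁻¹ = x
          simp)
        mul_smul := fun a b x => Subtype.ext (by
          change ((a * b : zpowers (ρ : G)) : G) * x * ((a * b : zpowers (ρ : G)) : G)⁻¹ =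
            a * (b * x * (b : G)⁻¹) * (a : G)⁻¹
          simp [mul_assoc]) }
    have hP : IsPGroup p (zpowers (ρ : G)) :=
      .of_card (n := 1) (by rw [Nat.card_zpowers, orderOf_coe, hρ, pow_one])
    obtain ⟨x, hx⟩ := hP.nonempty_fixed_point_of_prime_not_dvd_card
      {x : G // x ∈ (T : Subgroup G) ∧ orderOf x = 8} (by
        rw [hk]
        exact fun e => p2 ((Nat.prime_dvd_prime_iff_eq pp Nat.prime_two).1 (pp.dvd_of_dvd_pow e)))
    have e : (ρ : G) * x * (ρ : G)⁻¹ = x := congrArg Subtype.val (hx ⟨ρ, mem_zpowers _⟩)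
    have k := h.om.mul_mem (mul_inv_eq_iff_eq_mul.1 e) ((orderOf_coe ρ).trans hρ) x.2.2
      ((Nat.coprime_primes pp Nat.prime_two).2 p2 |>.pow_right 3)
    have := pp.two_le
    rw [mem_OmS] at k
    omega
  have hN : IsPGroup 2 (normalizer ((T : Subgroup G) : Set G)) :=
    .of_card (Nat.eq_prime_pow_of_unique_prime_dvd Nat.card_pos.ne' fun {p} a b => hp p a b)
  exact T.is_maximal' hN le_normalizer ▸ hgN

theorem Amb.tr8 (h : Amb T) (h1 : B ≤ T)
    (h2 : ∀ x ∈ (T : Subgroup G), ∀ y ∈ (T : Subgroup G), x ∉ B → y ∉ B → x * y ∈ B)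
    (h3 : ∀ b ∈ B, b ^ 4 = 1) (h4 : ∀ x ∈ (T : Subgroup G), x ∉ B → orderOf x = 8) :
    (T : Subgroup G) ≤ B := fun y hy => by
  by_contra hB
  have hm : ∀ x y : G, x ∉ B → y ∈ B → x * y ∉ B ∧ y * x ∉ B := fun x y a b =>
    ⟨fun e => a ((mul_mem_cancel_right b).1 e), fun e => a ((mul_mem_cancel_left b).1 e)⟩
  have hi : ∀ x : G, x ∉ B → x⁻¹ ∉ B := fun x a e => a (inv_mem_iff.1 e)
  have ho : ∀ a x : G, orderOf (a⁻¹ * x * a) = orderOf x := fun a x => by
    simpa using (MulAut.conj a⁻¹).orderOf_eq x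
  obtain ⟨a, -, k, -⟩ := thompson_transfer_subgroup (H := (T : Subgroup G)) (T := B)
    T.not_dvd_index (fun x hx y hy => by
      rw [commutatorElement_def]
      by_cases a : x ∈ B <;> by_cases b : y ∈ B
      · exact mul_mem (mul_mem (mul_mem a b) (inv_mem a)) (inv_mem b)
      · exact h2 _ (mul_mem (mul_mem hx hy) (inv_mem hx)) _ (inv_mem hy)
          (hm _ _ (hm _ _ b a).2 (inv_mem a)).1 (hi _ b)
      · exact mul_mem (h2 _ (mul_mem hx hy) _ (inv_mem hx) (hm _ _ a b).1 (hi _ a)) (inv_mem b)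
      · rw [mul_assoc]
        exact mul_mem (h2 _ hx _ hy a b) (h2 _ (inv_mem hx) _ (inv_mem hy) (hi _ a) (hi _ b)))
    (fun x hx => ⟨1, by
      rw [pow_one, sq]
      by_cases a : x ∈ B
      exacts [mul_mem a a, h2 _ hx _ hx a a]⟩) y ⟨3, h4 y hy hB⟩
    (fun m hm m1 a ha => by
      by_contra k
      have e := h4 _ ha k
      rw [ho, orderOf_pow, h4 y hy hB] at e
      rw [h4 y hy hB] at hm
      have : m ≤ 8 := Nat.le_of_dvd (by decide) hm
      interval_cases m <;> simp_all)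
    (fun a b ha hb k l => h2 _ ha _ hb k l) (by rw [h.perf, top_sup_eq]; trivial) ⊥
    IsPGroup.of_bot (by simp)
  have e := orderOf_dvd_of_pow_eq_one (h3 _ k)
  rw [ho, h4 y hy hB] at e
  exact absurd e (by decide)

theorem Amb.ta (h : Amb T)
    (hN : ∀ g : G, (∀ x ∈ (T : Subgroup G), g * x * g⁻¹ ∈ (T : Subgroup G)) → g ∈ (T : Subgroup G))
    (h1 : A ≤ T)
    (h2 : ∀ x ∈ (T : Subgroup G), ∀ y ∈ (T : Subgroup G), x ∉ A → y ∉ A → x * y ∈ A)
    (h3 : ∃ a ∈ A, ∃ b ∈ A, ⁅a, b⁆ = z) (h4 : c ∈ A) (h5 : c * c = 1)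
    (h6 : ∀ a ∈ A, a * c = c * a)
    (h7 : ∀ x ∈ (T : Subgroup G), x * c * x⁻¹ = c ∨ x * c * x⁻¹ = c * z)
    (h8 : ∀ x ∈ (T : Subgroup G), ∀ y ∈ (T : Subgroup G), ⁅x, y⁆ ∈ D) : c ∈ D := by
  classical
  have : Fintype (G ⧸ (T : Subgroup G)) := Fintype.ofFinite _
  let φ : (T : Subgroup G) →* Abelianization (T : Subgroup G) := Abelianization.of
  have hK : KillsPowers φ c := fun m hm m1 a => by
    have e : orderOf c ∣ 2 := orderOf_dvd_of_pow_eq_one (by rw [sq, h5])
    obtain rfl := ((Nat.dvd_prime Nat.prime_two).1 (hm.trans e)).resolve_left m1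
    rw [sq, h5, mul_one, inv_mul_cancel, extOne_of_mem φ (one_mem _)]
    exact map_one φ
  have nA : ∀ s ∈ (T : Subgroup G), ∀ a ∈ A, s⁻¹ * a * s ∈ A := fun s hs a ha => by
    by_cases k : s ∈ A
    · exact mul_mem (mul_mem (inv_mem k) ha) k
    · exact h2 _ (mul_mem (inv_mem hs) (h1 ha)) _ hs
        (fun e => k (inv_mem_iff.1 ((mul_mem_cancel_right ha).1 e))) k
  have f2 : ∀ q, cosetVal φ c q ^ 2 = 1 := fun q => by
    obtain ⟨g, rfl⟩ := QuotientGroup.mk_surjective q
    rw [cosetVal_mk]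
    by_cases k : g⁻¹ * c * g ∈ (T : Subgroup G)
    · rw [extOne_of_mem φ k, ← map_pow, ← map_one φ]
      congr 1
      apply Subtype.ext
      change (g⁻¹ * c * g) ^ 2 = 1
      rw [sq, show g⁻¹ * c * g * (g⁻¹ * c * g) = g⁻¹ * (c * c) * g by group, h5]
      group
    · rw [extOne_of_not_mem φ k, one_pow]
  have fx : ∀ s ∈ (T : Subgroup G), ∀ q : G ⧸ (T : Subgroup G), (∀ p : A, p • q = q) →
      ∀ p : A, p • s • q = s • q := fun s hs q hq p => by
    have e : (s⁻¹ * p * s) • q = q := hq ⟨_, nA s hs _ p.2⟩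
    change (p : G) • s • q = s • q
    conv_rhs => rw [← e]
    rw [smul_smul, smul_smul]
    congr 1
    group
  have e1 := transfer_eq_prod_cosetVal hK
  rw [(commutator_le_ker_transfer φ (h.perf ▸ mem_top c) :),
    Fus.prod_fix (Q := A) (T.isPGroup'.to_le h1) _ f2 (fun p q => by
      change cosetVal φ c ((p : G) • q) = _
      rw [cosetVal_smul, mul_assoc, ← h6 _ p.2, inv_mul_cancel_left]),
    Fus.prod_fix (Q := (T : Subgroup G)) T.isPGroup' _ (fun q => by
      split_ifs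
      exacts [f2 q, one_pow _]) (fun s q => ?_),
    Finset.prod_eq_single ((1 : G) : G ⧸ (T : Subgroup G)) (fun q _ hq => ?_) (by simp)] at e1
  · have k : ∀ s ∈ (T : Subgroup G), s • ((1 : G) : G ⧸ (T : Subgroup G)) = (1 : G) := fun s hs =>
      (smul_mk_eq_iff_conj_mem s 1).2 (by simpa using hs)
    rw [if_pos (by exact fun p => k p p.2), if_pos (by exact fun p => k p (h1 p.2)), cosetVal_mk,
      inv_one, one_mul, mul_one, extOne_of_mem φ (h1 h4)] at e1
    have k2 : commutator (T : Subgroup G) ≤ D.subgroupOf T :=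
      commutator_le.2 fun x _ y _ => h8 _ x.2 _ y.2
    exact k2 ((QuotientGroup.eq_one_iff (⟨c, h1 h4⟩ : (T : Subgroup G))).1 e1.symm)
  · refine if_neg fun k => hq ?_
    obtain ⟨g, rfl⟩ := QuotientGroup.mk_surjective q
    rw [QuotientGroup.eq, mul_one]
    exact hN _ fun x hx => by
      simpa using (smul_mk_eq_iff_conj_mem x g).1 (k ⟨x, hx⟩)
  · change (if ∀ p : A, p • (s : G) • q = (s : G) • q then cosetVal φ c ((s : G) • q) else 1) = _
    by_cases hq : ∀ p : A, p • q = q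
    · rw [if_pos hq, if_pos (fx s s.2 q hq), cosetVal_smul]
      have k := h7 _ (inv_mem s.2)
      rw [inv_inv] at k
      rcases k with k | k <;> rw [k]
      obtain ⟨g, rfl⟩ := QuotientGroup.mk_surjective q
      have m : ∀ a ∈ A, g⁻¹ * a * g ∈ (T : Subgroup G) := fun a ha =>
        (smul_mk_eq_iff_conj_mem a g).1 (hq ⟨a, ha⟩)
      obtain ⟨a, ha, b, hb, rfl⟩ := h3
      have e : g⁻¹ * (c * ⁅a, b⁆) * g =
          ((⟨_, m c h4⟩ * ⁅(⟨_, m a ha⟩ : (T : Subgroup G)), ⟨_, m b hb⟩⁆ : (T : Subgroup G)) : G) := by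
        simp [commutatorElement_def, mul_assoc]
      rw [cosetVal_mk, cosetVal_mk, e, extOne_of_mem φ (Subtype.property _),
        extOne_of_mem φ (m c h4), Subtype.eta, map_mul, map_commutatorElement,
        commutatorElement_eq_one_iff_mul_comm.2 (mul_comm _ _), mul_one]
    · rw [if_neg hq, if_neg fun k => hq ?_]
      simpa only [inv_smul_smul] using fx _ (inv_mem s.2) _ k

theorem Amb.ext (h1 : z ∈ (T : Subgroup G)) (h2 : ∀ x ∈ (T : Subgroup G), x * z = z * x)
    (h3 : IsConj z t) : ∃ g : G, g * t * g⁻¹ = z ∧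
      ∀ r ∈ (T : Subgroup G), r * t = t * r → g * r * g⁻¹ ∈ (T : Subgroup G) := by
  obtain ⟨g, rfl⟩ := isConj_iff.1 h3
  obtain ⟨k, hk, h⟩ := (isSylowIn_of_le T (H := centralizer {z}) fun p hp =>
    mem_centralizer_singleton_iff.2 (h2 p hp)).exists_cj_le
    (isPGroup_cj (T.isPGroup'.to_le (inf_le_left (b := centralizer {g * z * g⁻¹}))) g⁻¹)
    (cj_le_iff.2 fun x hx => mem_centralizer_singleton_iff.2 (by
      calc g⁻¹ * x * g⁻¹⁻¹ * z = g⁻¹ * (x * (g * z * g⁻¹)) * g := by group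
        _ = _ := by rw [mem_centralizer_singleton_iff.1 hx.2]; group))
  rw [← cj_mul] at h
  refine ⟨k * g⁻¹, ?_, fun r hr e => cj_le_iff.1 h r ⟨hr, mem_centralizer_singleton_iff.2 e⟩⟩
  calc _ = k * z * k⁻¹ := by group
    _ = z := by rw [mem_centralizer_singleton_iff.1 hk]; group

theorem Amb.zs (h : Amb T) (h1 : z ∈ (T : Subgroup G)) (h2 : z ≠ 1) :
    ∃ t ∈ (T : Subgroup G), t ≠ z ∧ IsConj z t := by
  have := h.simple
  by_contra k
  push Not at k
  have e : oddCore G = ⊥ := Bender.oddCore_eq_bot_of_simple (even_iff_two_dvd.2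
    ((show 2 ∣ 128 by decide).trans (h.card ▸ card_subgroup_dvd_card (T : Subgroup G))))
  have hz : z ∈ center G := mem_center_iff.2 fun g => by
    have := Block.Princ.zstar_elt T h1 (fun g hg => by
      by_contra e
      exact k _ hg e (isConj_iff.2 ⟨g, rfl⟩)) g
    rwa [e, mem_bot, mul_inv_eq_one, mul_inv_eq_iff_eq_mul] at this
  rcases (inferInstance : (center G).Normal).eq_bot_or_eq_top with c | c
  · exact h2 (mem_bot.1 (c ▸ hz))
  · exact h.nc ⟨⟨fun a b => mem_center_iff.1 (c ▸ mem_top b) a⟩⟩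

end

end Cfsg.Lib.A10S
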