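import Cfsg.Agent.A10S.Defs
import Cfsg.Agent.Solv.ElemAb
import Cfsg.Agent.Solv.CardModEq
import Cfsg.Agent.Solv.MinNormal

/-! # No normal 2-subgroup -/

set_option autoImplicit false

namespace Cfsg.Lib.A10S

open Subgroup
open scoped commutatorElement

universe u

namespace LemA

variable {V : Type*} [Group V] [Finite V]

theorem fpf (hV : Nat.card V = 8) {s : MulAut V} (hs : orderOf s = 7) {p : V} (h : s p = p) :
    p = 1 := by
  by_contra hp
  have : Fact (Nat.Prime 7) := ⟨by decide⟩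
  have hP : IsPGroup 7 (zpowers s) := IsPGroup.of_card (n := 1) (by rw [Nat.card_zpowers, hs]; rfl)
  have h1 := hP.card_modEq_card_fixedPoints V
  have h2 : ∀ v, s v = v → v ∈ MulAction.fixedPoints (zpowers s) V := fun v hv g =>
    (zpowers_le (H := MulAction.stabilizer (MulAut V) v)).2 hv g.2
  have : Nontrivial (MulAction.fixedPoints (zpowers s) V) :=
    ⟨⟨p, h2 p h⟩, ⟨1, h2 1 (map_one s)⟩, fun e => hp (congrArg Subtype.val e)⟩
  have h3 : 1 < Nat.card (MulAction.fixedPoints (zpowers s) V) := Finite.one_lt_card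
  have h4 : Nat.card (MulAction.fixedPoints (zpowers s) V) ≤ Nat.card V :=
    Finite.card_subtype_le _
  have h5 : MulAction.fixedPoints (zpowers s) V = Set.univ := by
    refine Set.eq_of_subset_of_ncard_le (Set.subset_univ _) ?_
    rw [Set.ncard_univ, ← Nat.card_coe_set_eq]
    rw [hV, Nat.ModEq] at h1
    omega
  have h6 : s = 1 := MulEquiv.ext fun v => (h5 ▸ Set.mem_univ v : v ∈ MulAction.fixedPoints _ V)
    ⟨s, mem_zpowers s⟩
  rw [h6, orderOf_one] at hs
  omega

theorem two_fixed [IsMulCommutative V] (h2 : ∀ v : V, v * v = 1) (hV : Nat.card V = 8)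
    {t : MulAut V} (ht : t * t = 1) : ∃ p q : V, p ≠ 1 ∧ q ≠ 1 ∧ p ≠ q ∧ t p = p ∧ t q = q := by
  let F : Subgroup V := MonoidHom.eqLocus t.toMonoidHom (MonoidHom.id V)
  have c : ∀ a b : V, a * b = b * a := fun a b => mul_comm' a b
  let f : V →* V := ⟨⟨fun v => v * t v, by simp⟩, fun a b => by
    simp only [map_mul, mul_assoc]
    rw [← mul_assoc b, c b, mul_assoc]⟩
  have k1 : f.ker ≤ F := fun v hv => by
    have : v * t v = v * v := (h2 v).symm ▸ hv
    exact mul_left_cancel this
  have k2 : f.range ≤ F := by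
    rintro _ ⟨v, rfl⟩
    change t (v * t v) = v * t v
    rw [map_mul, ← MulAut.mul_apply, ht, MulAut.one_apply, c]
  have k3 := f.ker.card_mul_index
  rw [index_ker, hV] at k3
  have k4 := card_le_of_le k1
  have k5 := card_le_of_le k2
  have k6 : 2 < Nat.card F := by
    by_contra hh
    have := Nat.mul_le_mul (k4.trans (not_lt.1 hh)) (k5.trans (not_lt.1 hh))
    omega
  have := Fintype.ofFinite F
  rw [Nat.card_eq_fintype_card] at k6
  obtain ⟨a, b, d, hab, had, hbd⟩ := Fintype.two_lt_card_iff.1 k6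
  refine ⟨a * b, a * d, fun e => hab (Subtype.ext ?_), fun e => had (Subtype.ext ?_),
    fun e => hbd (Subtype.ext (mul_left_cancel e)), (a * b).2, (a * d).2⟩
  · exact mul_left_cancel ((h2 _).trans e.symm)
  · exact mul_left_cancel ((h2 _).trans e.symm)

theorem not_card [IsMulCommutative V] (h2 : ∀ v : V, v * v = 1) (hV : Nat.card V = 8)
    (X : Subgroup (MulAut V)) : ¬ (Nat.card X = 14 ∨ Nat.card X = 42) := fun hX => by
  have : Fact (Nat.Prime 7) := ⟨by decide⟩
  obtain ⟨P⟩ : Nonempty (Sylow 7 X) := inferInstance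
  have hP : Nat.card (P : Subgroup X) = 7 := by
    rw [P.card_eq_multiplicity]
    rcases hX with e | e <;> rw [e]
    · rw [show 14 = 7 * 2 from rfl, Nat.factorization_mul (by decide) (by decide)]
      simp [Nat.Prime.factorization (p := 7) (by decide), Nat.prime_two.factorization]
    · rw [show 42 = 7 * 6 from rfl, Nat.factorization_mul (by decide) (by decide)]
      simp [Nat.Prime.factorization (p := 7) (by decide), Nat.factorization_eq_zero_of_not_dvd]
  have hn : Nat.card (Sylow 7 X) = 1 := by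
    have k1 := card_sylow_modEq_one 7 X
    have k2 := P.card_dvd_index
    have k3 := (P : Subgroup X).card_mul_index
    have k4 := Nat.le_of_dvd (Nat.pos_of_ne_zero index_ne_zero_of_finite) k2
    rw [Nat.ModEq] at k1
    rw [hP] at k3
    omega
  have : Subsingleton (Sylow 7 X) := (Nat.card_eq_one_iff_unique.1 hn).1
  have hN := P.normal_of_subsingleton
  obtain ⟨t, ht⟩ := exists_prime_orderOf_dvd_card' (G := X) 2 (by omega)
  have ht2 : t.1 * t.1 = 1 := by
    have := pow_orderOf_eq_one t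
    rw [ht, pow_two] at this
    exact congrArg Subtype.val this
  obtain ⟨p, q, hp, hq, hpq, tp, tq⟩ := two_fixed h2 hV ht2
  let f : ↥(P : Subgroup X) → {v : V // v ≠ 1} := fun s => ⟨s.1.1 p, by simpa using hp⟩
  have hi : Function.Injective f := fun s s' e => by
    by_contra hne
    have k1 : orderOf (s⁻¹ * s') = 7 := by
      have := _root_.orderOf_dvd_natCard (s⁻¹ * s')
      rw [hP] at this
      exact ((Nat.dvd_prime (by decide)).1 this).resolve_left fun e =>
        hne (inv_mul_eq_one.1 (orderOf_eq_one_iff.1 e))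
    refine hp (fpf hV (s := (s⁻¹ * s').1.1) (by rw [orderOf_coe, orderOf_coe, k1]) ?_)
    have e' : s.1.1 p = s'.1.1 p := congrArg Subtype.val e
    change s.1.1⁻¹ (s'.1.1 p) = p
    rw [← e']
    exact s.1.1.symm_apply_apply p
  have hs : Function.Surjective f := by
    refine (hi.bijective_of_nat_card_le ?_).2
    have := Fintype.ofFinite V
    classical
    rw [hP, Nat.card_eq_fintype_card, Fintype.card_subtype_compl, ← Nat.card_eq_fintype_card, hV]
    simp
  obtain ⟨s, e⟩ := hs ⟨q, hq⟩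
  have e1 : s.1.1 p = q := congrArg Subtype.val e
  have tp' : t.1⁻¹ p = p := by
    rw [← tp]
    exact (t.1.symm_apply_apply p).trans tp.symm
  have e2 : (⟨t * s.1 * t⁻¹, hN.conj_mem _ s.2 t⟩ : (P : Subgroup X)) = s := hi (Subtype.ext (by
    change t.1 (s.1.1 (t.1⁻¹ p)) = s.1.1 p
    rw [tp', e1, tq]))
  have e3 : Commute t s.1 := mul_inv_eq_iff_eq_mul.1 (congrArg Subtype.val e2)
  have e4 : s ≠ 1 := fun h => hpq (by rw [← e1, h]; rfl)
  have e5 : t = 1 := Subtype.ext (MulEquiv.ext fun v => by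
    by_cases hv : v = 1
    · rw [hv, map_one, map_one]
    obtain ⟨s', e'⟩ := hs ⟨v, hv⟩
    obtain ⟨k, rfl⟩ := mem_zpowers_of_prime_card hP e4 (g' := s')
    have e6 : (s.1 ^ k).1 p = v := congrArg Subtype.val e'
    have e7 := congrArg (fun x : X => x.1 p) (e3.zpow_right k).eq
    change t.1 ((s.1 ^ k).1 p) = (s.1 ^ k).1 (t.1 p) at e7
    rw [tp, e6] at e7
    exact e7)
  rw [e5, orderOf_one] at ht
  omega

end LemA

variable {G : Type u} [Group G] [Finite G]

theorem a1 {r : ℕ} (hr : r.Prime) (D : Subgroup G) [D.Normal] (h7 : 7 ∣ Nat.card G)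
    (hD : ¬ 7 ∣ Nat.card D) (h : ∀ x y : G, orderOf x = 7 → orderOf y = r → x * y ≠ y * x) :
    r ^ (Nat.card D).factorization r % 7 = 1 := by
  have := Fact.mk hr
  have : Fact (Nat.Prime 7) := ⟨by decide⟩
  obtain ⟨R⟩ : Nonempty (Sylow r D) := inferInstance
  have h1 := R.normalizer_sup_eq_top
  set R' := (R : Subgroup D).map D.subtype with hR
  have h2 : 7 ∣ Nat.card (normalizer (R' : Set G)) := by
    rw [← D.card_mul_index] at h7
    have k := ((Nat.Prime.dvd_mul (by decide)).1 h7).resolve_left hD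
    rw [← relIndex_top_right, ← h1, relIndex_sup_right] at k
    exact k.trans (relIndex_dvd_card _ _)
  obtain ⟨x, hx⟩ := exists_prime_orderOf_dvd_card' 7 h2
  have hx' : orderOf x.1 = 7 := by rw [orderOf_coe, hx]
  have h3 := Solv.card_modEq_card_inf_centralizer (q := 7) (Q := zpowers x.1) (L := R')
    (IsPGroup.of_card (n := 1) (by rw [Nat.card_zpowers, hx']; rfl)) (zpowers_le.2 x.2)
  have h4 : IsPGroup r ↥(R' ⊓ centralizer (zpowers x.1 : Set G)) :=
    (R.isPGroup'.map D.subtype).to_inf_left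
  rcases h4.card_eq_or_dvd with k | k
  · rw [k, hR, card_map_of_injective D.subtype_injective, R.card_eq_multiplicity] at h3
    exact h3
  · obtain ⟨y, hy⟩ := exists_prime_orderOf_dvd_card' r k
    exact absurd (y.2.2 _ (mem_zpowers x.1)) (h _ _ hx' (by rw [orderOf_coe, hy]))

theorem Hy.o2 (h : Hy G) (N : Subgroup G) [N.Normal] (hN : IsPGroup 2 N) : N = ⊥ := by
  by_contra hb
  obtain ⟨Z, hZ, hZN⟩ := Solv.exists_isMinNormal_le N hb
  have := hZ.normal
  have hZ2 : IsPGroup 2 Z := hN.to_le hZN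
  obtain ⟨hc, he⟩ := hZ.elementary_of_isPGroup hZ2
  obtain ⟨k, hk⟩ := IsPGroup.iff_card.1 hZ2
  obtain ⟨x, hx⟩ := h.h7
  have h7 : 7 ∣ Nat.card G := hx ▸ _root_.orderOf_dvd_natCard x
  have h14 : ∀ x y : G, orderOf x = 7 → orderOf y = 2 → x * y ≠ y * x := fun x y a b c =>
    absurd (h.om.mul_mem c a b (by decide)) (by decide)
  have h1 := a1 Nat.prime_two Z h7 (by
    rw [hk]
    exact fun e => absurd (Nat.Prime.dvd_of_dvd_pow (by decide) e) (by decide)) h14
  rw [hk, Nat.prime_two.factorization_pow, Finsupp.single_eq_same] at h1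
  have hk8 : k < 8 := by
    by_contra hh
    exact h.n8 ((pow_dvd_pow 2 (not_lt.1 hh)).trans (hk ▸ Z.card_subgroup_dvd_card))
  have hk0 : k ≠ 0 := fun e => hZ.ne_bot (Z.eq_bot_of_card_eq (by rw [hk, e, pow_zero]))
  have hk' : k = 3 ∨ k = 6 := by interval_cases k <;> simp_all
  rcases hk' with rfl | rfl
  · have : Solv.ElemAb 2 Z := ⟨fun a b => mul_comm' a b, fun a => Subtype.ext (he a a.2)⟩
    have hA : Nat.card (MulAut Z) = 168 := by
      rw [Solv.Vec.card_mulAut (p := 2) hk]
      decide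
    set φ : G →* MulAut Z := MulAut.conjNormal with hφ
    have k1 := φ.ker.card_mul_index
    rw [index_ker] at k1
    have k2 : Nat.card φ.range ∣ 168 := hA ▸ φ.range.card_subgroup_dvd_card
    have k3 : ¬ 7 ∣ Nat.card φ.ker := fun e => by
      have : Fact (Nat.Prime 7) := ⟨by decide⟩
      obtain ⟨y, hy⟩ := exists_prime_orderOf_dvd_card' 7 e
      obtain ⟨z, hz⟩ := exists_prime_orderOf_dvd_card' (G := Z) 2 (by rw [hk]; decide)
      refine h14 y z (by rw [orderOf_coe, hy]) (by rw [orderOf_coe, hz]) ?_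
      have := congrArg (fun a : MulAut Z => (a z : G)) (MonoidHom.mem_ker.1 y.2)
      exact mul_inv_eq_iff_eq_mul.1 (by simpa [hφ] using this)
    have k4 := a1 Nat.prime_two φ.ker h7 k3 h14
    have k5 : 7 ∣ Nat.card φ.range :=
      ((Nat.Prime.dvd_mul (by decide)).1 (k1 ▸ h7)).resolve_left k3
    have p1 := (Nat.card_pos (α := φ.ker)).ne'
    have p2 := (Nat.card_pos (α := φ.range)).ne'
    have p3 := (Nat.card_pos (α := G)).ne'
    have k6 := congrArg (fun n => n.factorization 2) k1
    simp only [Nat.factorization_mul p1 p2, Finsupp.add_apply] at k6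
    have k7 := (Nat.prime_two.pow_dvd_iff_le_factorization p3).1 h.d7
    have k8 := mt (Nat.prime_two.pow_dvd_iff_le_factorization p3).2 h.n8
    have k9 : ∀ i, 2 ^ i ∣ Nat.card φ.range ↔ i ≤ (Nat.card φ.range).factorization 2 := fun i =>
      Nat.prime_two.pow_dvd_iff_le_factorization p2
    have k10 := mt (k9 4).2 fun e => absurd (e.trans k2) (by decide)
    have k11 : (Nat.card φ.ker).factorization 2 = 6 := by
      generalize (Nat.card φ.ker).factorization 2 = a at *
      have a1 : 4 ≤ a := by omega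
      have a2 : a ≤ 7 := by omega
      interval_cases a <;> simp_all
    have k12 := (k9 1).2 (by omega)
    have k13 := mt (k9 2).1 (by omega)
    refine LemA.not_card (fun v => Subtype.ext (by simpa [sq] using he v v.2)) hk φ.range ?_
    have k14 := Nat.le_of_dvd (by decide) k2
    generalize Nat.card φ.range = n at *
    obtain ⟨m, rfl⟩ := k5
    have k15 : m ≤ 24 := by omega
    interval_cases m <;> simp_all
  · obtain ⟨u, hu⟩ := h.h8
    have k1 : orderOf (u : G ⧸ Z) ∣ 2 ^ 3 :=
      (orderOf_map_dvd (QuotientGroup.mk' Z) u).trans hu.dvd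
    obtain ⟨j, -, hj⟩ := (Nat.dvd_prime_pow Nat.prime_two).1 k1
    have k2 : j ≤ 1 := by
      by_contra hh
      refine h.n8 ?_
      rw [← Z.card_mul_index, hk, show 2 ^ 8 = 2 ^ 6 * 2 ^ 2 from rfl]
      exact Nat.mul_dvd_mul_left _ ((pow_dvd_pow 2 (not_le.1 hh)).trans
        (hj.symm.dvd.trans (_root_.orderOf_dvd_natCard _)))
    have k3 : u ^ 2 ∈ Z := by
      rw [← QuotientGroup.eq_one_iff, QuotientGroup.mk_pow, ← orderOf_dvd_iff_pow_eq_one, hj]
      exact pow_dvd_pow 2 k2
    have k4 := he _ k3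
    rw [← pow_mul, ← orderOf_dvd_iff_pow_eq_one, hu] at k4
    omega

end Cfsg.Lib.A10S
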