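import Cfsg.Agent.A10S.Defs
import Mathlib.GroupTheory.Transfer

/-!
# Elements of order three in a simple group of order 20160 without elements of order nine
-/

set_option autoImplicit false

namespace Cfsg.Lib.A10S

open Subgroup

/-- a subset of the group `3 × 3` without inverse pairs and of size prime to three has a
non-trivial product -/
theorem o20_prod {R : Type*} [CommGroup R] [Finite R] (hc : Nat.card R = 9)
    (h3 : ∀ a : R, a ^ 3 = 1) (O : Finset R) (hO : ∀ a ∈ O, a⁻¹ ∉ O) (h : ¬ 3 ∣ O.card) :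
    ∏ a ∈ O, a ≠ 1 := by
  classical
  have := Fintype.ofFinite R
  have sq : ∀ a : R, a * a = a⁻¹ := fun a => by
    rw [eq_inv_iff_mul_eq_one, ← h3 a, pow_three']
  have h1 : (1 : R) ∉ O := fun k => hO 1 k (by simpa using k)
  have hd : Disjoint O (O.image (·⁻¹)) := by
    rw [Finset.disjoint_left]
    intro a ha hb
    obtain ⟨b, hb', rfl⟩ := Finset.mem_image.1 hb
    exact hO b hb' ha
  have hi : (O.image (·⁻¹)).card = O.card :=
    Finset.card_image_of_injective _ inv_injective
  have h1' : (1 : R) ∉ O ∪ O.image (·⁻¹) := by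
    rw [Finset.mem_union, not_or]
    refine ⟨h1, fun k => ?_⟩
    obtain ⟨b, hb, e⟩ := Finset.mem_image.1 k
    rw [inv_eq_one] at e
    exact h1 (e ▸ hb)
  have hE : (insert 1 (O ∪ O.image (·⁻¹))).card = 2 * O.card + 1 := by
    rw [Finset.card_insert_of_notMem h1', Finset.card_union_of_disjoint hd, hi]; ring
  have hle := Finset.card_le_univ (insert 1 (O ∪ O.image (·⁻¹)))
  rw [← Nat.card_eq_fintype_card, hc, hE] at hle
  have hcase : O.card = 1 ∨ O.card = 2 ∨ O.card = 4 := by omega
  intro hp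
  rcases hcase with k | k | k
  · obtain ⟨a, rfl⟩ := Finset.card_eq_one.1 k
    rw [Finset.prod_singleton] at hp
    exact h1 (hp ▸ Finset.mem_singleton_self a)
  · obtain ⟨a, b, hab, rfl⟩ := Finset.card_eq_two.1 k
    rw [Finset.prod_pair hab] at hp
    refine hO a (by simp) ?_
    rw [inv_eq_of_mul_eq_one_right hp]; simp
  · have hU : insert 1 (O ∪ O.image (·⁻¹)) = Finset.univ := by
      apply Finset.eq_univ_of_card
      rw [← Nat.card_eq_fintype_card, hc, hE, k]
    obtain ⟨a, O', ha, rfl, k'⟩ := Finset.card_eq_succ.1 k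
    obtain ⟨b, c, d, hbc, hbd, hcd, rfl⟩ := Finset.card_eq_three.1 k'
    have hab : a ≠ b := fun e => ha (by simp [e])
    rw [Finset.prod_insert ha, Finset.prod_insert (by simp [hbc, hbd]), Finset.prod_pair hcd,
      ← mul_assoc] at hp
    have a1 : a ≠ 1 := fun e => h1 (by simp [e])
    have b1 : b ≠ 1 := fun e => h1 (by simp [e])
    have c1 : c ≠ 1 := fun e => h1 (by simp [e])
    have d1 : d ≠ 1 := fun e => h1 (by simp [e])
    have tw : ∀ x y : R, x * y = x⁻¹ → x = y := fun x y e => by
      rw [← sq] at e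
      exact (mul_left_cancel e).symm
    have hm : a * b ∈ insert 1 (({a, b, c, d} : Finset R) ∪
      ({a, b, c, d} : Finset R).image (·⁻¹)) := hU ▸ Finset.mem_univ _
    simp only [Finset.mem_insert, Finset.mem_union, Finset.image_insert, Finset.image_singleton,
      Finset.mem_singleton] at hm
    rcases hm with e | (e | e | e | e) | e | e | e | e
    · refine hO a (by simp) ?_
      rw [inv_eq_of_mul_eq_one_right e]; simp
    · exact b1 (by simpa using e)
    · exact a1 (by simpa using e)
    · rw [e] at hp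
      exact hcd (tw c d (eq_inv_of_mul_eq_one_right hp))
    · rw [e, mul_comm c d] at hp
      exact hcd (tw d c (eq_inv_of_mul_eq_one_right hp)).symm
    · exact hab (tw a b e)
    · exact hab (tw b a (mul_comm a b ▸ e)).symm
    · rw [e] at hp
      exact d1 (by simpa using hp)
    · rw [e, mul_comm c d] at hp
      exact c1 (by simpa using hp)

variable {S : Type*} [Group S] [Finite S]

open scoped IsMulCommutative in
/-- the normalizer of an abelian Sylow subgroup of a simple group fixes no non-trivial element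
of it -/
theorem o20_nofix [IsSimpleGroup S] {p : ℕ} [Fact p.Prime] (P : Sylow p S)
    [IsMulCommutative (P : Subgroup S)] (hlt : Nat.card (P : Subgroup S) < Nat.card S) {r : S}
    (hr : r ∈ (P : Subgroup S))
    (hf : ∀ n ∈ normalizer ((P : Subgroup S) : Set S), n⁻¹ * r * n = r) : r = 1 := by
  by_contra hr1
  have key : ∀ (k : ℕ) (g₀ : S), g₀⁻¹ * r ^ k * g₀ ∈ (P : Subgroup S) →
      g₀⁻¹ * r ^ k * g₀ = r ^ k := by
    intro k g hg
    obtain ⟨n, hn, e⟩ := P.conj_eq_normalizer_conj_of_mem (r ^ k) g (pow_mem hr k) hg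
    rw [e]
    have := conj_pow (i := k) (a := n⁻¹) (b := r)
    rw [inv_inv, hf n hn] at this
    exact this.symm
  have ht := MonoidHom.transfer_eq_pow (MonoidHom.id (P : Subgroup S)) r key
  rcases (MonoidHom.transfer (MonoidHom.id (P : Subgroup S))).normal_ker.eq_bot_or_eq_top with
    e | e
  · have := Nat.card_le_card_of_injective _ ((MonoidHom.ker_eq_bot_iff _).1 e)
    omega
  · have h1 : MonoidHom.transfer (MonoidHom.id (P : Subgroup S)) r = 1 := by
      rw [← MonoidHom.mem_ker, e]; trivial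
    rw [ht] at h1
    have h2 : r ^ (P : Subgroup S).index = 1 := congrArg Subtype.val h1
    obtain ⟨k, hk⟩ := P.2 ⟨r, hr⟩
    have h3 : r ^ p ^ k = 1 := congrArg Subtype.val hk
    have h4 := pow_gcd_eq_one.2 ⟨h2, h3⟩
    have h5 : Nat.Coprime (P : Subgroup S).index (p ^ k) :=
      ((Fact.out : p.Prime).coprime_pow_of_not_dvd P.not_dvd_index)
    rw [h5, pow_one] at h4
    exact hr1 h4

open scoped IsMulCommutative in
/-- elements of order three are real -/
theorem o20_real [IsSimpleGroup S] (hc : Nat.card S = 20160)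
    (h9 : ∀ s : S, s ^ 9 = 1 → s ^ 3 = 1) {x : S} (hx : x ^ 3 = 1) :
    ∃ m : S, m * x * m⁻¹ = x⁻¹ := by
  classical
  by_contra hn
  have : Fact (Nat.Prime 3) := ⟨by norm_num⟩
  have hz : IsPGroup 3 (zpowers x) := by
    rintro ⟨_, k, rfl⟩
    refine ⟨1, Subtype.ext ?_⟩
    change (x ^ k) ^ 3 ^ 1 = 1
    rw [pow_one, ← zpow_natCast, ← zpow_mul, mul_comm, zpow_mul, zpow_natCast, hx, one_zpow]
  obtain ⟨P, hP⟩ := hz.exists_le_sylow
  have hxP : x ∈ (P : Subgroup S) := hP (mem_zpowers x)
  have cP : Nat.card (P : Subgroup S) = 9 := by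
    rw [P.card_eq_multiplicity, hc]
    have : (20160 : ℕ).factorization 3 = 2 := by
      rw [show (20160 : ℕ) = 3 ^ 2 * 2240 by norm_num, Nat.factorization_mul (by norm_num)
        (by norm_num), Finsupp.add_apply, Nat.Prime.factorization_pow (by norm_num),
        Nat.factorization_eq_zero_of_not_dvd (by norm_num)]
      simp
    rw [this]; norm_num
  have : IsMulCommutative (P : Subgroup S) :=
    IsPGroup.isMulCommutative_of_card_eq_prime_sq (p := 3) (by rw [cP]; norm_num)
  have h3 : ∀ a : (P : Subgroup S), a ^ 3 = 1 := fun a => by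
    apply Subtype.ext
    apply h9
    have : a ^ Nat.card (P : Subgroup S) = 1 := pow_card_eq_one'
    rw [cP] at this
    exact congrArg Subtype.val this
  set N := normalizer ((P : Subgroup S) : Set S) with hN
  let x' : (P : Subgroup S) := ⟨x, hxP⟩
  let O : Finset (P : Subgroup S) := (Set.toFinite (MulAction.orbit N x')).toFinset
  have mO : ∀ a, a ∈ O ↔ a ∈ MulAction.orbit N x' := fun a => Set.Finite.mem_toFinset _
  refine o20_prod cP h3 O ?_ ?_ ?_
  · intro a ha hb
    obtain ⟨n, rfl⟩ := (mO _).1 ha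
    obtain ⟨n', e⟩ := (mO _).1 hb
    refine hn ⟨((n⁻¹ * n' : N) : S), ?_⟩
    have e' : (n⁻¹ * n') • x' = x'⁻¹ := by
      rw [mul_smul, show n' • x' = (n • x')⁻¹ from e, smul_inv', inv_smul_smul]
    exact congrArg Subtype.val e'
  · have e : O.card = (MulAction.stabilizer N x').index := by
      rw [MulAction.index_stabilizer, Set.ncard_eq_toFinset_card _ (Set.toFinite _)]
    have hle : (P : Subgroup S).subgroupOf N ≤ MulAction.stabilizer N x' := by
      intro n hn'
      rw [MulAction.mem_stabilizer_iff]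
      apply Subtype.ext
      change (n : S) * x * (n : S)⁻¹ = x
      have : (⟨n, hn'⟩ : (P : Subgroup S)) * x' = x' * ⟨n, hn'⟩ := mul_comm _ _
      have e2 : (n : S) * x = x * n := congrArg Subtype.val this
      rw [e2, mul_inv_cancel_right]
    intro hd
    apply P.not_dvd_index
    rw [e] at hd
    exact (hd.trans (index_dvd_of_le hle)).trans (relIndex_dvd_index_of_le le_normalizer)
  · apply Subtype.ext
    refine o20_nofix P (by rw [cP, hc]; norm_num) (∏ a ∈ O, a).2 fun n hn' => ?_
    have e : (⟨n, hn'⟩ : N)⁻¹ • ∏ a ∈ O, a = ∏ a ∈ O, a := by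
      rw [Finset.smul_prod']
      refine Finset.prod_nbij' (fun a => (⟨n, hn'⟩ : N)⁻¹ • a) (fun a => (⟨n, hn'⟩ : N) • a)
        ?_ ?_ ?_ ?_ ?_
      · intro a ha
        exact (mO _).2 (MulAction.mem_orbit_of_mem_orbit _ ((mO _).1 ha))
      · intro a ha
        exact (mO _).2 (MulAction.mem_orbit_of_mem_orbit _ ((mO _).1 ha))
      · intro a _; exact smul_inv_smul _ _
      · intro a _; exact inv_smul_smul _ _
      · intro a _; rfl
    have e' : n⁻¹ * ((∏ a ∈ O, a : (P : Subgroup S)) : S) * n⁻¹⁻¹ =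
        ((∏ a ∈ O, a : (P : Subgroup S)) : S) := congrArg Subtype.val e
    rwa [inv_inv] at e'

universe u

variable {G : Type u} [Group G] [Finite G] {K : Subgroup G} [K.Normal]

/-- `Tp.no9` given an element of order seven centralising `K` above an element of `S`. -/
theorem Tp.no9_of (h : Tp G K) {S : Subgroup (G ⧸ K)} (h1 : Soc (G ⧸ K) S) (h2 : P20 S) {y : G}
    (y7 : orderOf y = 7) (yS : (y : G ⧸ K) ∈ S) (y1 : (y : G ⧸ K) ≠ 1)
    (yK : ∀ k ∈ K, y * k = k * y) : ¬ Has G 9 := by
  rintro ⟨w, hw⟩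
  have := h1.nm
  have := h1.simple
  have om := h.hy.om
  -- lifting to the centraliser
  have lift : ∀ s ∈ S, ∃ c : G, (∀ k ∈ K, c * k = k * c) ∧ (c : G ⧸ K) = s := by
    have hn : (((centralizer (K : Set G)).map (QuotientGroup.mk' K)).subgroupOf S).Normal :=
      (Subgroup.Normal.map inferInstance _ (QuotientGroup.mk'_surjective K)).subgroupOf S
    rcases hn.eq_bot_or_eq_top with e | e
    · exfalso
      have : (⟨_, yS⟩ : S) ∈ ((centralizer (K : Set G)).map (QuotientGroup.mk' K)).subgroupOf S :=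
        ⟨y, fun k hk => (yK k hk).symm, rfl⟩
      rw [e, mem_bot] at this
      exact y1 (congrArg Subtype.val this)
    · intro s hs
      have : (⟨s, hs⟩ : S) ∈ ((centralizer (K : Set G)).map (QuotientGroup.mk' K)).subgroupOf S :=
        e ▸ mem_top _
      obtain ⟨c, hc, e'⟩ := this
      exact ⟨c, fun k hk => (hc k hk).symm, e'⟩
  have k3 : ∀ k ∈ K, k ^ 3 = 1 := by
    intro k hk
    have hd : orderOf k ∣ Nat.card K := by
      rw [← orderOf_mk k hk]; exact orderOf_dvd_natCard _
    have hc : Nat.Coprime 7 (orderOf k) :=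
      ((h.cop.coprime_dvd_left hd).coprime_dvd_right (by norm_num : 7 ∣ 14)).symm
    have := mem_OmS.1 (om.mul_mem (yK k hk) y7 rfl hc)
    apply orderOf_dvd_iff_pow_eq_one.1
    have e : orderOf k = 1 ∨ orderOf k = 3 := by omega
    rcases e with e | e <;> simp [e]
  have conj1 : ∀ g : G ⧸ K, (MulAut.conjNormal g : MulAut S) = 1 → g = 1 := by
    intro g e
    refine h1.cent g fun s hs => ?_
    have := congrArg (fun α : MulAut S => ((α ⟨s, hs⟩ : S) : G ⧸ K)) e
    simp only [MulAut.conjNormal_apply, MulAut.one_apply] at this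
    exact mul_inv_eq_iff_eq_mul.1 this
  have w9 : w ^ 9 = 1 := hw ▸ pow_orderOf_eq_one w
  obtain ⟨a3, hα⟩ := h2.2 (MulAut.conjNormal (w : G ⧸ K)) (by
    rw [← map_pow, ← QuotientGroup.mk_pow, w9, QuotientGroup.mk_one, map_one])
  have w3 : (w : G ⧸ K) ^ 3 = 1 := conj1 _ (by rw [map_pow, a3])
  have w3K : w ^ 3 ∈ K := by
    rw [← QuotientGroup.eq_one_iff, QuotientGroup.mk_pow, w3]
  rcases hα with ⟨s, e⟩ | ⟨x, hx, e⟩
  · have ws : (w : G ⧸ K) = s := by
      have : (s : G ⧸ K)⁻¹ * w = 1 := by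
        apply conj1
        rw [map_mul, map_inv, e, MulAut.conjNormal_val, inv_mul_cancel]
      exact (inv_mul_eq_one.1 this).symm
    have h9 : ∀ t : S, t ^ 9 = 1 → t ^ 3 = 1 := by
      intro t ht
      have := (h2.2 (MulAut.conj t) (by rw [← map_pow, ht, map_one])).1
      rw [← map_pow, ← MulAut.conjNormal_val] at this
      exact Subtype.ext (conj1 _ this)
    obtain ⟨m', hm⟩ := o20_real h2.1 h9 (x := s) (Subtype.ext (by
      rw [SubmonoidClass.coe_pow, ← ws, w3]; rfl))
    obtain ⟨c, cK, ec⟩ := lift s s.2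
    obtain ⟨m, mK, em⟩ := lift m' m'.2
    have hk : c⁻¹ * w ∈ K := QuotientGroup.eq.1 (ec.trans ws.symm)
    have e1 : w ^ 3 = c ^ 3 := by
      have : Commute c (c⁻¹ * w) := cK _ hk
      have e2 := this.mul_pow 3
      rwa [mul_inv_cancel_left, k3 _ hk, mul_one] at e2
    have hk' : c⁻¹⁻¹ * (m * c * m⁻¹) ∈ K := by
      apply QuotientGroup.eq.1
      rw [QuotientGroup.mk_mul, QuotientGroup.mk_mul, QuotientGroup.mk_inv, QuotientGroup.mk_inv,
        ec, em]
      exact (congrArg Subtype.val hm).symm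
    have e3 : (m * c * m⁻¹) ^ 3 = c⁻¹ ^ 3 := by
      have : Commute c⁻¹ (c⁻¹⁻¹ * (m * c * m⁻¹)) := Commute.inv_left (cK _ hk')
      have e2 := this.mul_pow 3
      rwa [mul_inv_cancel_left, k3 _ hk', mul_one] at e2
    rw [conj_pow, inv_pow, ← e1, mK _ w3K, mul_inv_cancel_right] at e3
    have e4 : w ^ 6 = 1 := by
      rw [show 6 = 3 + 3 from rfl, pow_add]
      exact mul_eq_one_iff_eq_inv.2 e3
    have := orderOf_dvd_iff_pow_eq_one.2 e4
    rw [hw] at this
    exact absurd this (by norm_num)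
  · obtain ⟨c, cK, ec⟩ := lift x x.2
    have main : ∀ r n : ℕ, r.Prime → orderOf x = r → 3 ∣ n → n % r = 1 → Nat.Coprime 3 r →
        9 * r ∈ OmS := by
      intro r n hr hx h3 hn hc
      have := Fact.mk hr
      have xr : (x : G ⧸ K) ^ r = 1 := by
        rw [← SubmonoidClass.coe_pow, ← hx, pow_orderOf_eq_one]; rfl
      have crK : c ^ r ∈ K := by
        rw [← QuotientGroup.eq_one_iff, QuotientGroup.mk_pow, ec, xr]
      have e1 : (c ^ n) ^ r = 1 := by
        obtain ⟨j, rfl⟩ := h3
        rw [← pow_mul, mul_comm, ← mul_assoc, pow_mul, pow_mul, k3 _ crK, one_pow]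
      have e2 : ((c ^ n : G) : G ⧸ K) = x := by
        rw [QuotientGroup.mk_pow, ec, pow_eq_pow_mod n xr, hn, pow_one]
      have e3 : orderOf (c ^ n) = r := by
        refine orderOf_eq_prime e1 fun k => ?_
        rw [k, QuotientGroup.mk_one] at e2
        have : x = 1 := Subtype.ext e2.symm
        rw [this, orderOf_one] at hx
        exact hr.one_lt.ne hx
      have hk : (c ^ n)⁻¹ * (w * c ^ n * w⁻¹) ∈ K := by
        apply QuotientGroup.eq.1
        rw [QuotientGroup.mk_mul, QuotientGroup.mk_mul, QuotientGroup.mk_inv, e2]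
        exact (congrArg Subtype.val e).symm
      have cm : Commute (c ^ n) ((c ^ n)⁻¹ * (w * c ^ n * w⁻¹)) :=
        Commute.pow_left (cK _ hk) n
      have e4 := cm.mul_pow r
      rw [mul_inv_cancel_left, conj_pow, e1, mul_one, mul_inv_cancel, one_mul] at e4
      have e5 := pow_gcd_eq_one.2 ⟨k3 _ hk, e4.symm⟩
      rw [hc, pow_one, inv_mul_eq_one] at e5
      refine om.mul_mem (x := w) (y := c ^ n) ?_ hw e3 (Nat.Coprime.pow_left 2 hc)
      exact mul_inv_eq_iff_eq_mul.1 e5.symm
    rcases hx with hx | hx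
    · exact absurd (main 5 6 (by norm_num) hx (by norm_num) (by norm_num) (by norm_num))
        (by decide)
    · exact absurd (main 7 15 (by norm_num) hx (by norm_num) (by norm_num) (by norm_num))
        (by decide)

end Cfsg.Lib.A10S
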