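import Cfsg.Agent.A10S.F42
import Cfsg.Agent.A10S.O20a

/-!
# No element of order nine above a socle of order 20160
-/

set_option autoImplicit false

namespace Cfsg.Lib.A10S

open Subgroup

universe u

variable {G : Type u} [Group G] [Finite G] {K : Subgroup G} [K.Normal]

theorem Tp.no9 (h : Tp G K) {S : Subgroup (G ⧸ K)} (h1 : Soc (G ⧸ K) S) (h2 : P20 S) (h3 : FD S) :
    ¬ Has G 9 := by
  obtain ⟨x, hS, g, hx, hg⟩ := h3
  obtain ⟨y, y7, rfl, yK⟩ := h.f42 hx hg
  refine h.no9_of h1 h2 y7 hS (fun e => ?_) yK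
  rw [e, orderOf_one] at hx
  exact absurd hx (by norm_num)

end Cfsg.Lib.A10S
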