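import Cfsg.Agent.A10S.Fus

/-!
# The Sylow 2-subgroup has no normal elementary abelian subgroup of order 32 with cyclic quotient
-/

set_option autoImplicit false

namespace Cfsg.Lib.A10S

open Subgroup
open scoped commutatorElement

universe u

namespace OneAux

theorem pow4 {V : Type*} [Group V] (a : V) : a ^ 4 = a * a * a * a := by
  simp only [pow_succ, pow_zero, one_mul]

theorem card_eq {V : Type*} [Group V] [Finite V] (f : V →* V) (H : Subgroup V) :
    Nat.card H = Nat.card (H.map f) * Nat.card (f.ker ⊓ H : Subgroup V) := by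
  rw [← Subgroup.relIndex_ker, Subgroup.relIndex, ← Subgroup.index_mul_card (f.ker.subgroupOf H)]
  congr 1
  rw [← Subgroup.inf_subgroupOf_right]
  exact Nat.card_congr (Subgroup.subgroupOfEquivOfLe inf_le_right).toEquiv

/-- The linear algebra: a nilpotent endomorphism of length four on a group of order 32. -/
theorem lin {V : Type*} [Group V] [Finite V] (hV : Nat.card V = 32) (d : V →* V)
    (h4 : ∀ v, d (d (d (d v))) = 1) {v0 : V} (h0 : d (d (d v0)) ≠ 1) :
    (∀ v, d (d (d v)) = 1 ∨ d (d (d v)) = d (d (d v0))) ∧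
      Nat.card {v : V // d (d (d v)) = 1} = 16 ∧ ∃ k, d k = 1 ∧ ∀ v, k ≠ d v := by
  set X1 : Subgroup V := (⊤ : Subgroup V).map d with hX1
  set X2 : Subgroup V := X1.map d with hX2
  set X3 : Subgroup V := X2.map d with hX3
  have m1 : ∀ v, d v ∈ X1 := fun v => ⟨v, trivial, rfl⟩
  have m2 : ∀ v, d (d v) ∈ X2 := fun v => ⟨_, m1 v, rfl⟩
  have m3 : ∀ v, d (d (d v)) ∈ X3 := fun v => ⟨_, m2 v, rfl⟩
  have l21 : X2 ≤ X1 := Subgroup.map_mono le_top
  have l32 : X3 ≤ X2 := Subgroup.map_mono l21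
  have k3 : X3 ≤ d.ker := by
    rintro _ ⟨_, ⟨_, ⟨v, -, rfl⟩, rfl⟩, rfl⟩
    exact h4 v
  have e0 := card_eq d ⊤
  have e1 := card_eq d X1
  have e2 := card_eq d X2
  rw [Subgroup.card_top, hV, ← hX1] at e0
  rw [← hX2] at e1
  rw [← hX3] at e2
  have c3 : 2 ≤ Nat.card X3 := by
    have : Nontrivial X3 := ⟨⟨_, m3 v0⟩, 1, fun e => h0 (congrArg Subtype.val e)⟩
    exact Finite.one_lt_card
  have c32 : Nat.card X3 ≤ Nat.card (d.ker ⊓ X2 : Subgroup V) :=
    Subgroup.card_le_of_le (le_inf k3 l32)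
  have c21 : Nat.card (d.ker ⊓ X2 : Subgroup V) ≤ Nat.card (d.ker ⊓ X1 : Subgroup V) :=
    Subgroup.card_le_of_le (inf_le_inf_left _ l21)
  have c10 : Nat.card (d.ker ⊓ X1 : Subgroup V) ≤ Nat.card (d.ker ⊓ ⊤ : Subgroup V) :=
    Subgroup.card_le_of_le (inf_le_inf_left _ le_top)
  have key : ∀ a b c e : ℕ, 2 ≤ a → a ≤ b → b ≤ c → c ≤ e → 32 = a * b * c * e →
      a = 2 ∧ c ≠ e := by
    intro a b c e h1 h2 h3 h4 h5
    have ha : a ≤ 2 := by
      by_contra hh
      have : 3 * 3 * 3 * 3 ≤ a * b * c * e := by gcongr <;> omega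
      omega
    have ha2 : a = 2 := by omega
    subst ha2
    refine ⟨rfl, fun hce => ?_⟩
    subst hce
    have hc : c ≤ 2 := by
      by_contra hh
      have : 2 * 2 * 3 * 3 ≤ 2 * b * c * c := by gcongr <;> omega
      omega
    have : c = 2 := by omega
    have : b = 2 := by omega
    subst_vars
    omega
  obtain ⟨a2, ne⟩ := key _ _ _ _ c3 c32 c21 c10 (by rw [e0, e1, e2])
  refine ⟨fun v => ?_, ?_, ?_⟩
  · by_contra hh
    push Not at hh
    have : Fintype X3 := Fintype.ofFinite _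
    rw [Nat.card_eq_fintype_card] at a2
    have : 2 < Fintype.card X3 := by
      rw [Fintype.two_lt_card_iff]
      exact ⟨1, ⟨_, m3 v⟩, ⟨_, m3 v0⟩, fun e => hh.1 (congrArg Subtype.val e).symm,
        fun e => h0 (congrArg Subtype.val e).symm, fun e => hh.2 (congrArg Subtype.val e)⟩
    omega
  · have e := card_eq (d.comp (d.comp d)) ⊤
    have r : (⊤ : Subgroup V).map (d.comp (d.comp d)) = X3 := by
      rw [hX3, hX2, hX1, Subgroup.map_map, Subgroup.map_map]
      rfl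
    rw [Subgroup.card_top, hV, r, a2, inf_top_eq] at e
    have : Nat.card {v : V // d (d (d v)) = 1} = Nat.card (d.comp (d.comp d)).ker := rfl
    omega
  · by_contra hh
    push Not at hh
    apply ne
    congr 2
    ext x
    simp only [Subgroup.mem_inf, Subgroup.mem_top, and_true]
    refine ⟨fun h => h.1, fun h => ⟨h, ?_⟩⟩
    obtain ⟨v, rfl⟩ := hh x h
    exact m1 v

end OneAux

variable {G : Type u} [Group G] [Finite G]

section
variable {T X : Subgroup G} {u : G}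

omit [Finite G] in
theorem One.comm (h : One T X u) {x y : G} (hx : x ∈ X) (hy : y ∈ X) : x * y = y * x := by
  have e1 := h.sq x hx
  have e2 := h.sq y hy
  have e3 := h.sq _ (X.mul_mem hx hy)
  calc x * y = (y * y) * (x * y) * (x * x) := by rw [e1, e2]; simp
    _ = y * (y * x * y * x) * x := by group
    _ = y * (x * y * (x * y))⁻¹ * x := by
      rw [mul_inv_rev, mul_inv_rev, inv_eq_of_mul_eq_one_right e1, inv_eq_of_mul_eq_one_right e2]
      group
    _ = y * x := by rw [e3]; simp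

omit [Finite G] in
theorem One.u8 (h : One T X u) : u ^ 8 = 1 := h.o8 ▸ pow_orderOf_eq_one u

omit [Finite G] in
theorem One.not_mem (h : One T X u) {k : ℕ} (hk : u ^ k ∈ X) : 4 ∣ k := by
  have e := h.sq _ hk
  rw [← pow_add, ← orderOf_dvd_iff_pow_eq_one, h.o8] at e
  omega

omit [Finite G] in
theorem One.uniq (h : One T X u) {x y : G} (hx : x ∈ X) (hy : y ∈ X) {i j : ℕ} (hi : i < 4)
    (hj : j < 4) (e : x * u ^ i = y * u ^ j) : i = j := by
  wlog hij : i ≤ j generalizing x y i j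
  · exact (this hy hx hj hi e.symm (by omega)).symm
  obtain ⟨k, rfl⟩ := Nat.exists_eq_add_of_le hij
  have : u ^ k ∈ X := by
    have : u ^ k = y⁻¹ * x := by
      rw [add_comm, pow_add, ← mul_assoc] at e
      rw [mul_right_cancel e]
      group
    rw [this]
    exact X.mul_mem (X.inv_mem hy) hx
  have := h.not_mem this
  omega

theorem One.dec (h : One T X u) {t : G} (ht : t ∈ T) : ∃ x ∈ X, ∃ i < 4, t = x * u ^ i := by
  let f : X × Fin 4 → T := fun p => ⟨p.1 * u ^ (p.2 : ℕ), T.mul_mem (h.le p.1.2) (T.pow_mem h.uT _)⟩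
  have hf : Function.Injective f := by
    rintro ⟨x, i⟩ ⟨y, j⟩ e
    have e' : (x : G) * u ^ (i : ℕ) = y * u ^ (j : ℕ) := congrArg Subtype.val e
    have hij : i = j := Fin.ext (h.uniq x.2 y.2 i.2 j.2 e')
    subst hij
    exact Prod.ext (Subtype.ext (mul_right_cancel e')) rfl
  have hb : Function.Bijective f := by
    rw [Nat.bijective_iff_injective_and_card]
    refine ⟨hf, ?_⟩
    rw [Nat.card_prod, h.cX, h.cT]
    simp
  obtain ⟨⟨x, i⟩, e⟩ := hb.2 ⟨t, ht⟩
  exact ⟨x, x.2, i, i.2, (congrArg Subtype.val e).symm⟩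

theorem One.u4 (h : One T X u) : u ^ 4 ∈ X := by
  obtain ⟨x, hx, i, hi, e⟩ := h.dec (T.pow_mem h.uT 4)
  obtain ⟨k, hk⟩ := Nat.exists_eq_add_of_le hi.le
  have : u ^ k = x := by
    rw [hk, add_comm, pow_add] at e
    exact mul_right_cancel e
  have h4 := h.not_mem (this ▸ hx)
  have : k = 4 := by omega
  subst this
  exact this ▸ hx

omit [Finite G] in
theorem One.cj (h : One T X u) {x : G} (hx : x ∈ X) (i : ℕ) : u ^ i * x * (u ^ i)⁻¹ ∈ X :=
  h.nm _ (T.pow_mem h.uT i) x hx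

/-- The endomorphism `x ↦ x * x ^ u` of `X`. -/
def One.d (h : One T X u) : X →* X where
  toFun x := ⟨x * (u * x * u⁻¹), X.mul_mem x.2 (h.nm u h.uT x x.2)⟩
  map_one' := Subtype.ext (by simp)
  map_mul' x y := Subtype.ext (by
    have := h.comm y.2 (h.nm u h.uT x x.2)
    show (x : G) * y * (u * (x * y) * u⁻¹) = x * (u * x * u⁻¹) * (y * (u * y * u⁻¹))
    calc (x : G) * y * (u * (x * y) * u⁻¹) = x * (y * (u * x * u⁻¹)) * (u * y * u⁻¹) := by group
      _ = _ := by rw [this]; group)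

omit [Finite G] in
theorem One.d_val (h : One T X u) (x : X) : (h.d x : G) = x * (u * x * u⁻¹) := rfl

omit [Finite G] in
theorem One.d2 (h : One T X u) (x : X) : (h.d (h.d x) : G) = x * (u ^ 2 * x * (u ^ 2)⁻¹) := by
  have e := h.sq _ (h.nm u h.uT x x.2)
  rw [h.d_val, h.d_val]
  calc _ = x * ((u * x * u⁻¹) * (u * x * u⁻¹)) * (u ^ 2 * x * (u ^ 2)⁻¹) := by
        simp only [pow_two]; group
    _ = _ := by rw [e, mul_one]

theorem One.d4 (h : One T X u) (x : X) : h.d (h.d (h.d (h.d x))) = 1 := by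
  apply Subtype.ext
  have e := h.sq _ (h.cj x.2 2)
  have c := h.comm h.u4 x.2
  rw [h.d2, h.d2]
  calc _ = x * ((u ^ 2 * x * (u ^ 2)⁻¹) * (u ^ 2 * x * (u ^ 2)⁻¹)) * ((u ^ 4 * x) * (u ^ 4)⁻¹) := by
        group
    _ = _ := by rw [e, c, mul_one, mul_inv_cancel_right, h.sq _ x.2]; rfl

omit [Finite G] in
theorem One.p1 (h : One T X u) (x : X) : ((x : G) * u ^ 1) ^ 4 = h.d (h.d (h.d x)) * u ^ 4 := by
  have c := h.comm (h.cj x.2 1) (h.cj x.2 2)
  rw [h.d_val, h.d2]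
  calc _ = x * ((u ^ 1 * x * (u ^ 1)⁻¹) * (u ^ 2 * x * (u ^ 2)⁻¹)) * (u ^ 3 * x * (u ^ 3)⁻¹) *
        u ^ 4 := by
        simp only [pow_succ, pow_zero]; group
    _ = _ := by rw [c]; group

theorem One.p3 (h : One T X u) (x : X) : ((x : G) * u ^ 3) ^ 4 = h.d (h.d (h.d x)) * u ^ 4 := by
  have c := h.comm (h.cj x.2 3) (X.mul_mem (h.cj x.2 2) (h.cj x.2 1))
  have c4 := h.comm h.u4 x.2
  have e8 := h.u8
  rw [h.d_val, h.d2]
  calc _ = x * (u ^ 3 * x * (u ^ 3)⁻¹) * (u ^ 2 * (u ^ 4 * x) * (u ^ 4)⁻¹ * (u ^ 2)⁻¹) *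
        (u * u ^ 8 * x * (u ^ 8)⁻¹ * u⁻¹) * u ^ 8 * u ^ 4 := by
        rw [OneAux.pow4 ((x : G) * u ^ 3)]; group
    _ = x * ((u ^ 3 * x * (u ^ 3)⁻¹) * ((u ^ 2 * x * (u ^ 2)⁻¹) * (u ^ 1 * x * (u ^ 1)⁻¹))) *
        u ^ 4 := by
        rw [c4, e8]; group
    _ = _ := by rw [c]; group

theorem One.p0 (h : One T X u) {x : G} (hx : x ∈ X) : (x * u ^ 0) ^ 4 = 1 := by
  rw [pow_zero, mul_one, show 4 = 2 * 2 from rfl, pow_mul, pow_two x, h.sq x hx, one_pow]

theorem One.p2 (h : One T X u) {x : G} (hx : x ∈ X) : (x * u ^ 2) ^ 4 = 1 := by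
  have e := h.sq _ (X.mul_mem (X.mul_mem hx (h.cj hx 2)) h.u4)
  rw [← e, OneAux.pow4 (x * u ^ 2)]
  group

theorem One.ord (h : One T X u) {t : G} {y : X} (e : t ^ 4 = y * u ^ 4) :
    orderOf t = 8 ↔ (y : G) ≠ u ^ 4 := by
  have e4 := h.sq _ h.u4
  constructor
  · intro ho hy
    rw [hy, e4, ← orderOf_dvd_iff_pow_eq_one, ho] at e
    omega
  · intro hy
    have := Fact.mk Nat.prime_two
    refine orderOf_eq_prime_pow (p := 2) (n := 2) (fun k => hy ?_) ?_
    · have k' : t ^ 4 = 1 := k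
      rw [e, ← e4] at k'
      exact mul_right_cancel k'
    · show t ^ 8 = 1
      rw [show 8 = 4 * 2 from rfl, pow_mul, pow_two, e]
      exact h.sq _ (X.mul_mem y.2 h.u4)

/-- The subgroup of index two containing `X`. -/
def One.B (h : One T X u) : Subgroup G where
  carrier := {t | ∃ x ∈ X, t = x * u ^ 0 ∨ t = x * u ^ 2}
  one_mem' := ⟨1, X.one_mem, .inl (by simp)⟩
  mul_mem' := by
    rintro _ _ ⟨x, hx, rfl | rfl⟩ ⟨y, hy, rfl | rfl⟩
    · exact ⟨_, X.mul_mem hx hy, .inl (by group)⟩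
    · exact ⟨_, X.mul_mem hx hy, .inr (by group)⟩
    · exact ⟨_, X.mul_mem hx (h.cj hy 2), .inr (by group)⟩
    · exact ⟨_, X.mul_mem (X.mul_mem hx (h.cj hy 2)) h.u4, .inl (by group)⟩
  inv_mem' := by
    rintro _ ⟨x, hx, rfl | rfl⟩
    · exact ⟨_, X.inv_mem hx, .inl (by group)⟩
    · refine ⟨_, X.mul_mem (X.inv_mem h.u4) (h.cj (X.inv_mem hx) 2), .inr (by group)⟩

theorem One.out (h : One T X u) {t : G} (ht : t ∈ T) (hB : t ∉ h.B) :
    ∃ x ∈ X, t = x * u ^ 1 ∨ t = x * u ^ 3 := by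
  obtain ⟨x, hx, i, hi, e⟩ := h.dec ht
  have : i = 0 ∨ i = 1 ∨ i = 2 ∨ i = 3 := by omega
  rcases this with rfl | rfl | rfl | rfl
  · exact (hB ⟨x, hx, .inl e⟩).elim
  · exact ⟨x, hx, .inl e⟩
  · exact (hB ⟨x, hx, .inr e⟩).elim
  · exact ⟨x, hx, .inr e⟩

omit [Finite G] in
theorem One.memD (h : One T X u) {x : G} (hx : x ∈ X) (j : ℕ) :
    x * (u ^ j * x * (u ^ j)⁻¹) ∈ h.d.range.map X.subtype := by
  induction j with
  | zero => 
    rw [pow_zero, one_mul, inv_one, mul_one, h.sq x hx]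
    exact one_mem _
  | succ j ih =>
    have e := h.sq _ (h.cj hx j)
    have m : (h.d ⟨_, h.cj hx j⟩ : G) ∈ h.d.range.map X.subtype := ⟨_, ⟨_, rfl⟩, rfl⟩
    have := mul_mem ih m
    rw [h.d_val] at this
    convert this using 1
    calc _ = x * ((u ^ j * x * (u ^ j)⁻¹) * (u ^ j * x * (u ^ j)⁻¹)) *
          (u * (u ^ j * x * (u ^ j)⁻¹) * u⁻¹) := by rw [e]; group
      _ = _ := by group

theorem One.cmD (h : One T X u) {s t : G} (hs : s ∈ T) (ht : t ∈ T) :
    ⁅s, t⁆ ∈ h.d.range.map X.subtype := by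
  obtain ⟨x, hx, i, -, rfl⟩ := h.dec hs
  obtain ⟨y, hy, j, -, rfl⟩ := h.dec ht
  have := mul_mem (h.memD hx j) (h.memD hy i)
  convert this using 1
  have ix := inv_eq_of_mul_eq_one_right (h.sq x hx)
  have iy := inv_eq_of_mul_eq_one_right (h.sq y hy)
  have c1 := h.comm (h.cj hy i) (X.mul_mem (h.cj hx j) hy)
  calc _ = x * ((u ^ i * y * (u ^ i)⁻¹) * ((u ^ j * x⁻¹ * (u ^ j)⁻¹) * y⁻¹)) := by
        rw [commutatorElement_def]; group
    _ = _ := by rw [ix, iy, c1]; group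

end

section
variable {T : Sylow 2 G} {X : Subgroup G} {u : G}

theorem Amb.not_one (h : Amb T) (h1 : One (T : Subgroup G) X u) : False := by
  by_cases hN : ∃ x : X, (h1.d (h1.d (h1.d x)) : G) = u ^ 4
  swap
  · push Not at hN
    have := h.tr8 (B := h1.B) ?_ ?_ ?_ ?_ h1.uT
    · obtain ⟨x, hx, e | e⟩ := this
      · have := h1.uniq X.one_mem hx (i := 1) (j := 0) (by omega) (by omega) (by rw [← e]; simp)
        omega
      · have := h1.uniq X.one_mem hx (i := 1) (j := 2) (by omega) (by omega) (by rw [← e]; simp)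
        omega
    · rintro _ ⟨x, hx, rfl | rfl⟩ <;> exact mul_mem (h1.le hx) (pow_mem h1.uT _)
    · intro s hs t ht hs' ht'
      obtain ⟨x, hx, rfl | rfl⟩ := h1.out hs hs' <;> obtain ⟨y, hy, rfl | rfl⟩ := h1.out ht ht'
      · exact ⟨_, X.mul_mem hx (h1.cj hy 1), .inr (by group)⟩
      · exact ⟨_, X.mul_mem (X.mul_mem hx (h1.cj hy 1)) h1.u4, .inl (by group)⟩
      · exact ⟨_, X.mul_mem (X.mul_mem hx (h1.cj hy 3)) h1.u4, .inl (by group)⟩
      · exact ⟨_, X.mul_mem (X.mul_mem hx (h1.cj hy 3)) h1.u4, .inr (by group)⟩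
    · rintro _ ⟨x, hx, rfl | rfl⟩
      · exact h1.p0 hx
      · exact h1.p2 hx
    · intro t ht ht'
      obtain ⟨x, hx, rfl | rfl⟩ := h1.out ht ht'
      · exact (h1.ord (h1.p1 ⟨x, hx⟩)).2 (hN _)
      · exact (h1.ord (h1.p3 ⟨x, hx⟩)).2 (hN _)
  obtain ⟨x0, e0⟩ := hN
  have u41 : u ^ 4 ≠ 1 := fun e => by
    rw [← orderOf_dvd_iff_pow_eq_one, h1.o8] at e
    omega
  obtain ⟨a1, a2, k, a3, a4⟩ := OneAux.lin h1.cX h1.d h1.d4 (v0 := x0)
    (fun e => u41 (by rw [← e0, e]; rfl))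
  have iff : ∀ x : X, (h1.d (h1.d (h1.d x)) : G) ≠ u ^ 4 ↔ h1.d (h1.d (h1.d x)) = 1 := by
    intro x
    constructor
    · intro e
      exact (a1 x).resolve_right fun e' => e (by rw [e', e0])
    · intro e
      rw [e]
      exact fun e' => u41 e'.symm
  have cnt : Nat.card {x : G // x ∈ (T : Subgroup G) ∧ orderOf x = 8} = 2 ^ 5 := by
    let f : {x : X // h1.d (h1.d (h1.d x)) = 1} ⊕ {x : X // h1.d (h1.d (h1.d x)) = 1} →
        {x : G // x ∈ (T : Subgroup G) ∧ orderOf x = 8} := fun p =>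
      match p with
      | .inl x => ⟨x.1 * u ^ 1, mul_mem (h1.le x.1.2) (pow_mem h1.uT _),
          (h1.ord (h1.p1 x.1)).2 ((iff _).2 x.2)⟩
      | .inr x => ⟨x.1 * u ^ 3, mul_mem (h1.le x.1.2) (pow_mem h1.uT _),
          (h1.ord (h1.p3 x.1)).2 ((iff _).2 x.2)⟩
    have hf : Function.Bijective f := by
      constructor
      · rintro (x | x) (y | y) e
        · have e' : (x.1 : G) * u ^ 1 = y.1 * u ^ 1 := congrArg Subtype.val e
          exact congrArg _ (Subtype.ext (Subtype.ext (mul_right_cancel e')))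
        · have e' : (x.1 : G) * u ^ 1 = y.1 * u ^ 3 := congrArg Subtype.val e
          have := h1.uniq x.1.2 y.1.2 (by omega) (by omega) e'
          omega
        · have e' : (x.1 : G) * u ^ 3 = y.1 * u ^ 1 := congrArg Subtype.val e
          have := h1.uniq x.1.2 y.1.2 (by omega) (by omega) e'
          omega
        · have e' : (x.1 : G) * u ^ 3 = y.1 * u ^ 3 := congrArg Subtype.val e
          exact congrArg _ (Subtype.ext (Subtype.ext (mul_right_cancel e')))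
      · rintro ⟨t, ht, ho⟩
        have hB : t ∉ h1.B := by
          rintro ⟨x, hx, rfl | rfl⟩
          · have := h1.p0 hx
            rw [← orderOf_dvd_iff_pow_eq_one, ho] at this
            omega
          · have := h1.p2 hx
            rw [← orderOf_dvd_iff_pow_eq_one, ho] at this
            omega
        obtain ⟨x, hx, rfl | rfl⟩ := h1.out ht hB
        · exact ⟨.inl ⟨⟨x, hx⟩, (iff _).1 ((h1.ord (h1.p1 ⟨x, hx⟩)).1 ho)⟩, rfl⟩
        · exact ⟨.inr ⟨⟨x, hx⟩, (iff _).1 ((h1.ord (h1.p3 ⟨x, hx⟩)).1 ho)⟩, rfl⟩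
    rw [← Nat.card_eq_of_bijective f hf, Nat.card_sum, a2]
    rfl
  have kk := h1.sq k k.2
  have ku : u * k = k * u := by
    have e : (k : G) * (u * k * u⁻¹) = 1 := congrArg Subtype.val a3
    rw [← kk] at e
    rw [← mul_left_cancel e]
    have := mul_left_cancel e
    rw [this, ← mul_inv_eq_iff_eq_mul]
    exact this
  have cm : ∀ a ∈ (T : Subgroup G), a * k = k * a := by
    intro a ha
    obtain ⟨x, hx, i, -, rfl⟩ := h1.dec ha
    exact (Commute.mul_left (h1.comm hx k.2) (Commute.pow_left ku i)).eq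
  obtain ⟨_, ⟨v, rfl⟩, e⟩ := h.ta (A := T) (D := h1.d.range.map X.subtype) (c := k) (z := 1)
    (fun g hg => h.nt cnt hg) le_rfl (fun x hx _ _ hx' => (hx' hx).elim)
    ⟨1, one_mem _, 1, one_mem _, by simp⟩ (h1.le k.2) kk cm
    (fun x hx => .inl (by rw [cm x hx]; group)) (fun x hx y hy => h1.cmD hx hy)
  exact a4 v (Subtype.ext e.symm)

end

end Cfsg.Lib.A10S
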