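import Cfsg.Agent.A10S.Defs
import Cfsg.Agent.S2119
import Cfsg.Agent.Perm.SpecAlt
import Cfsg.Agent.AutL34.Aut
import Cfsg.Agent.Recog.CITGraph

/-!
# Automorphisms of 3-power order of the two simple groups of order 20160
-/

set_option autoImplicit false

namespace Cfsg.Lib.A10S

open Subgroup
open scoped commutatorElement

universe u

namespace P20x

open Cfsg.Lib.Class Matrix Cfsg.Lib.Known

/-- The conclusion of `P20` for one automorphism. -/
def Gd {S : Type*} [Group S] (α : MulAut S) : Prop :=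
  α ^ 3 = 1 ∧ ((∃ s, α = MulAut.conj s) ∨ ∃ h : S, (orderOf h = 5 ∨ orderOf h = 7) ∧ α h = h)

theorem Gd.congr {H : Type*} {H' : Type*} [Group H] [Group H'] (e : H' ≃* H) {α : MulAut H'}
    (h : Gd (MulAut.congr e α)) : Gd α := by
  obtain ⟨h1, h2⟩ := h
  refine ⟨?_, ?_⟩
  · apply (MulAut.congr e).injective
    rw [map_pow, h1, map_one]
  · rcases h2 with ⟨s, hs⟩ | ⟨x, hx, hs⟩
    · refine .inl ⟨e.symm s, ?_⟩
      ext y
      apply e.injective
      have := DFunLike.congr_fun hs (e y)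
      simpa using this
    · refine .inr ⟨e.symm x, by rwa [MulEquiv.orderOf_eq], ?_⟩
      apply e.injective
      simpa using hs

theorem Gd.conj {S : Type*} [Group S] {α : MulAut S} (β : MulAut S) (h : Gd (β * α * β⁻¹)) :
    Gd α := Gd.congr β (by convert h using 1; ext y; simp)

/-- A primitive cube root of unity. -/
def w : GF4 := ⟨0, 1⟩

/-- Index set of the monomial matrices. -/
abbrev T3 : Type := Fin 3 × Fin 3 × Fin 3

/-- Exponents of the nonzero entries. -/
def ex (t : T3) (i : Fin 3) : Fin 3 := if i = 0 then 0 else if i = 1 then t.2.1 else t.2.2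

/-- Powers of the cube root of unity. -/
def wp (k : Fin 3) : GF4 := if k = 0 then 1 else if k = 1 then w else w * w

/-- The monomial matrices. -/
def mm (t : T3) : Matrix (Fin 3) (Fin 3) GF4 :=
  Matrix.of fun i j => if j = i + t.1 then wp (ex t i) else 0

/-- Their inverses. -/
def mi (t : T3) : Matrix (Fin 3) (Fin 3) GF4 :=
  Matrix.of fun i j => if i = j + t.1 then wp (-ex t j) else 0

theorem mm_mi : ∀ t, mm t * mi t = 1 ∧ mi t * mm t = 1 := by decide +kernel

/-- The monomial matrices as invertible matrices. -/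
def gg (t : T3) : GL (Fin 3) GF4 := ⟨mm t, mi t, (mm_mi t).1, (mm_mi t).2⟩

/-- The multiplication of indices. -/
def op (s t : T3) : T3 :=
  (s.1 + t.1, ex s 1 + ex t (1 + s.1) - ex t s.1, ex s 2 + ex t (2 + s.1) - ex t s.1)

theorem mm_mul : ∀ s t, mm s * mm t = wp (ex t s.1) • mm (op s t) := by decide +kernel

theorem mm_inj : ∀ s t, ∀ c : GF4, mm t = c • mm s → s = t := by decide +kernel

theorem mm_cube : ∀ t, ∃ k, mm t * mm t * mm t = wp k • 1 := by decide +kernel

theorem wp_ne : ∀ k, wp k ≠ 0 := by decide +kernel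

/-- The centralised element. -/
def hh (t : T3) : Matrix (Fin 3) (Fin 3) GF4 :=
  if t.1 = 0 then
    (if t.2.1 = 0 then !![0, 1, 0; 1, w, 0; 0, 0, 1] else
      if t.2.2 = 0 then !![0, 0, 1; 0, 1, 0; 1, 0, w] else !![1, 0, 0; 0, 0, 1; 0, 1, w])
  else mm t + wp (-(t.2.1 + t.2.2)) • (mm t * mm t)

/-- The determinant. -/
def dt (A : Matrix (Fin 3) (Fin 3) GF4) : GF4 :=
  A 0 0 * A 1 1 * A 2 2 - A 0 0 * A 1 2 * A 2 1 - A 0 1 * A 1 0 * A 2 2 + A 0 1 * A 1 2 * A 2 0 +
    A 0 2 * A 1 0 * A 2 1 - A 0 2 * A 1 1 * A 2 0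

theorem dt_eq (A : Matrix (Fin 3) (Fin 3) GF4) : A.det = dt A := det_fin_three A

theorem hh_spec : ∀ t, dt (mm t) = 1 ∨ (dt (hh t) = 1 ∧ mm t * hh t = hh t * mm t ∧
    (∀ c : GF4, hh t ≠ c • 1) ∧ ∃ p ∈ [((5 : ℕ), w * w, w * w), (7, 0, 1), (7, 1, 0)],
      hh t * (hh t * hh t) = p.2.1 • (hh t * hh t) - p.2.2 • hh t + 1) := by decide +kernel

theorem step_spec : ∀ p ∈ [((5 : ℕ), w * w, w * w), (7, 0, 1), (7, 1, 0)],
    (Agent.S0819.step p.2.1 p.2.2)^[p.1] (0, 0, 1) = (0, 0, 1) ∧ (p.1 = 5 ∨ p.1 = 7) := by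
  decide +kernel

theorem innD_smul {g h : GL (Fin 3) GF4} {c : GF4} (hc : c ≠ 0)
    (e : (g : Matrix (Fin 3) (Fin 3) GF4) = c • (h : Matrix (Fin 3) (Fin 3) GF4)) :
    innD (Fin 3) GF4 g = innD (Fin 3) GF4 h := by
  symm
  rw [innD_eq_iff]
  refine ⟨Units.mk0 c hc, Units.ext ?_⟩
  rw [e]
  simp [GeneralLinearGroup.scalar, smul_eq_mul_diagonal]

/-- The automorphisms induced by the monomial matrices. -/
def aa (t : T3) : MulAut (ProjectiveSpecialLinearGroup (Fin 3) GF4) := innD (Fin 3) GF4 (gg t)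

theorem aa_mul (s t : T3) : aa s * aa t = aa (op s t) := by
  rw [aa, aa, ← map_mul]
  exact innD_smul (wp_ne _) (mm_mul s t)

theorem aa_cube (t : T3) : aa t * aa t * aa t = 1 := by
  obtain ⟨k, hk⟩ := mm_cube t
  rw [aa, ← map_mul, ← map_mul, ← map_one (innD (Fin 3) GF4)]
  exact innD_smul (wp_ne k) hk

theorem aa_inj : Function.Injective aa := by
  intro s t e
  obtain ⟨c, hc⟩ := innD_eq_iff.1 e
  refine mm_inj s t c ?_
  have := congrArg Units.val hc
  simpa [GeneralLinearGroup.scalar, gg, smul_eq_mul_diagonal] using this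

/-- A Sylow 3-subgroup of the automorphism group. -/
def PP : Subgroup (MulAut (ProjectiveSpecialLinearGroup (Fin 3) GF4)) where
  carrier := Set.range aa
  mul_mem' := by
    rintro _ _ ⟨s, rfl⟩ ⟨t, rfl⟩
    exact ⟨_, (aa_mul s t).symm⟩
  one_mem' := ⟨op (op (0, 0, 0) (0, 0, 0)) (0, 0, 0), by rw [← aa_mul, ← aa_mul, aa_cube]⟩
  inv_mem' := by
    rintro _ ⟨s, rfl⟩
    exact ⟨op s s, by rw [← aa_mul]; exact eq_inv_of_mul_eq_one_left (aa_cube s)⟩

theorem card_PP : Nat.card PP = 27 := by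
  change Nat.card (Set.range aa) = 27
  rw [Nat.card_range_of_injective aa_inj]
  simp

theorem gd_aa (t : T3) : Gd (aa t) := by
  refine ⟨by rw [pow_succ, pow_two, aa_cube], ?_⟩
  rcases hh_spec t with h | ⟨h1, h2, h3, p, hp, h4⟩
  · let s : SpecialLinearGroup (Fin 3) GF4 := ⟨mm t, (dt_eq _).trans h⟩
    refine .inl ⟨QuotientGroup.mk s, ?_⟩
    rw [← innD_toGL, aa]
    congr 1
    exact Units.ext rfl
  · obtain ⟨h5, h6⟩ := step_spec p hp
    let s : SpecialLinearGroup (Fin 3) GF4 := ⟨hh t, (dt_eq _).trans h1⟩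
    have h7 : s ^ p.1 = 1 := by
      apply Subtype.ext
      change hh t ^ p.1 = 1
      rw [Agent.S0819.pow_eq _ _ _ h4, h5]
      simp
    have h8 : (QuotientGroup.mk s : ProjectiveSpecialLinearGroup (Fin 3) GF4) ≠ 1 := by
      intro e
      obtain ⟨c, hc⟩ := (PSL_mk_eq_mk_iff (s := 1) (t := s)).1 e.symm
      exact h3 c hc
    have h9 : (QuotientGroup.mk s : ProjectiveSpecialLinearGroup (Fin 3) GF4) ^ p.1 = 1 := by
      rw [← QuotientGroup.mk_pow, h7, QuotientGroup.mk_one]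
    refine .inr ⟨QuotientGroup.mk s, ?_, ?_⟩
    · have : Fact (Nat.Prime 5) := ⟨by norm_num⟩
      have : Fact (Nat.Prime 7) := ⟨by norm_num⟩
      rcases h6 with h6 | h6 <;> rw [h6] at h9
      · exact .inl (orderOf_eq_prime h9 h8)
      · exact .inr (orderOf_eq_prime h9 h8)
    · rw [aa, innD_mk]
      congr 1
      apply Subtype.ext
      rw [coe_conjSL]
      change mm t * hh t * mi t = hh t
      rw [h2, mul_assoc, (mm_mi t).1, mul_one]

theorem gd_psl (α : MulAut (ProjectiveSpecialLinearGroup (Fin 3) GF4)) (h : α ^ 9 = 1) :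
    Gd α := by
  have hc := AutL34.card_aut card_GF4
  have : Finite (MulAut (ProjectiveSpecialLinearGroup (Fin 3) GF4)) :=
    Nat.finite_of_card_ne_zero (by omega)
  let P : Sylow 3 (MulAut (ProjectiveSpecialLinearGroup (Fin 3) GF4)) := Sylow.ofCard PP (by
    rw [card_PP, hc]
    have : (241920 : ℕ).factorization 3 = 3 := by
      rw [Nat.factorization_eq_of_coprime_left (a := 27) (b := 8960) (by norm_num) (by simp),
        show (27 : ℕ) = 3 ^ 3 from rfl, Nat.prime_three.factorization_pow]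
      simp
    rw [this]
    rfl)
  have hz : IsPGroup 3 (zpowers α) := by
    rw [IsPGroup.iff_card, Nat.card_zpowers]
    obtain ⟨i, -, hi⟩ := (Nat.dvd_prime_pow Nat.prime_three (m := 2)).1
      (orderOf_dvd_of_pow_eq_one h)
    exact ⟨i, hi⟩
  obtain ⟨Q, hQ⟩ := hz.exists_le_sylow
  obtain ⟨β, hβ⟩ := MulAction.exists_smul_eq (MulAut (ProjectiveSpecialLinearGroup (Fin 3) GF4)) Q P
  have : β * α * β⁻¹ ∈ PP := by
    change β * α * β⁻¹ ∈ (P : Subgroup _)
    rw [← hβ, Sylow.coe_subgroup_smul]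
    exact smul_mem_pointwise_smul α (MulAut.conj β) _ (hQ (mem_zpowers α))
  obtain ⟨t, ht⟩ := this
  exact Gd.conj β (ht ▸ gd_aa t)

end P20x

theorem P20.of_equiv {H : Type*} {H' : Type*} [Group H] [Group H'] (h : P20 H) (e : H' ≃* H) :
    P20 H' :=
  ⟨(Nat.card_congr e.toEquiv).trans h.1, fun α hα =>
    P20x.Gd.congr e (h.2 _ (by rw [← map_pow, hα, map_one]))⟩

theorem p20_alt : P20 (alternatingGroup (Fin 8)) := by
  refine ⟨?_, fun α hα => ?_⟩
  · have := two_mul_nat_card_alternatingGroup (α := Fin 8)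
    rw [Nat.card_perm, Nat.card_fin, show Nat.factorial 8 = 40320 from rfl] at this
    omega
  have hb := Agent.S2119.result 8 (by omega) (by omega)
  obtain ⟨σ, rfl⟩ := hb.2 α
  have h9 : σ ^ 9 = 1 := hb.1 (by rw [map_pow, hα, map_one])
  have h3 : σ ^ 3 = 1 := by
    have h1 : orderOf σ ∈ Set.range (orderOf : Equiv.Perm (Fin 8) → ℕ) := ⟨σ, rfl⟩
    rw [Perm.range_orderOf_perm_eight] at h1
    have h2 := orderOf_dvd_of_pow_eq_one h9
    rw [← orderOf_dvd_iff_pow_eq_one]
    simp only [Set.mem_ofPred_eq, List.mem_cons, List.not_mem_nil, or_false] at h1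
    generalize orderOf σ = n at h1 h2
    rcases h1 with h | h | h | h | h | h | h | h | h | h | h <;> subst h <;> omega
  have hs : σ ∈ alternatingGroup (Fin 8) := by
    rw [Equiv.Perm.mem_alternatingGroup]
    have := congrArg Equiv.Perm.sign h3
    rw [map_pow, map_one] at this
    rcases Int.units_eq_one_or (Equiv.Perm.sign σ) with h | h
    · exact h
    · rw [h] at this
      exact absurd this (by decide)
  exact ⟨by rw [← map_pow, h3, map_one], .inl ⟨⟨σ, hs⟩, by ext y; simp⟩⟩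

theorem p20_psl {F : Type} [Field F] [Fintype F] (hF : Fintype.card F = 4) :
    P20 (Matrix.ProjectiveSpecialLinearGroup (Fin 3) F) := by
  obtain ⟨e⟩ := Class.nonempty_ringEquiv_GF4 hF
  exact P20.of_equiv ⟨Recog.card_psl3_four Class.card_GF4, P20x.gd_psl⟩ (Class.pslEquiv (Fin 3) e)

end Cfsg.Lib.A10S
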