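import Cfsg.Agent.A10S.Defs
import Cfsg.Agent.A10S.LemA
import Cfsg.Agent.Solv.Hall
import Cfsg.Agent.Perm.QuatAut
import Cfsg.Agent.Known.AltPA

/-!
# The solvable radical has order prime to fourteen
-/

set_option autoImplicit false

namespace Cfsg.Lib.A10S

open Subgroup
open scoped commutatorElement

universe u

variable {G : Type u} [Group G] [Finite G]

theorem Hy.rad_card_sylow (h : Hy G) (T : Sylow 2 G) : Nat.card (T : Subgroup G) = 128 := by
  have : Fact (Nat.Prime 2) := ⟨Nat.prime_two⟩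
  have h0 : Nat.card G ≠ 0 := Nat.card_pos.ne'
  rw [T.card_eq_multiplicity]
  have h1 : 7 ≤ (Nat.card G).factorization 2 := (Nat.prime_two.pow_dvd_iff_le_factorization h0).1 h.d7
  have h2 : ¬ 8 ≤ (Nat.card G).factorization 2 := fun e =>
    h.n8 ((Nat.prime_two.pow_dvd_iff_le_factorization h0).2 e)
  have h3 : (Nat.card G).factorization 2 = 7 := by omega
  rw [h3]
  norm_num

theorem Hy.rad_exists_eight (h : Hy G) (T : Sylow 2 G) : ∃ u ∈ (T : Subgroup G), orderOf u = 8 := by
  have : Fact (Nat.Prime 2) := ⟨Nat.prime_two⟩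
  obtain ⟨u, hu⟩ := h.h8
  have hp : IsPGroup 2 (zpowers u) := IsPGroup.of_card (n := 3) (by rw [Nat.card_zpowers, hu]; norm_num)
  obtain ⟨S, hS⟩ := hp.exists_le_sylow
  obtain ⟨g, rfl⟩ := MulAction.exists_smul_eq G S T
  refine ⟨g * u * g⁻¹, ?_, ?_⟩
  · rw [Sylow.coe_subgroup_smul]
    exact smul_mem_pointwise_smul u (MulAut.conj g) _ (hS (mem_zpowers u))
  · rw [← hu]
    exact (orderOf_injective (MulAut.conj g).toMonoidHom (MulAut.conj g).injective u)

/-- A subgroup containing a Sylow 2-subgroup, of order divisible by seven. -/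
theorem Hy.rad_sub (h : Hy G) (M : Subgroup G) (T : Sylow 2 G) (hT : (T : Subgroup G) ≤ M)
    (h7 : 7 ∣ Nat.card M) : Hy M where
  om := h.om.subgroup M
  d7 := by
    have := card_dvd_of_le hT
    rw [h.rad_card_sylow T] at this
    exact this
  n8 := fun e => h.n8 (e.trans (card_subgroup_dvd_card M))
  h7 := by
    have : Fact (Nat.Prime 7) := ⟨by norm_num⟩
    exact exists_prime_orderOf_dvd_card' 7 h7
  h8 := by
    obtain ⟨u, hu, e⟩ := h.rad_exists_eight T
    exact ⟨⟨u, hT hu⟩, by rw [← e, orderOf_mk]⟩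

/-- A Sylow 2-subgroup contains two different commuting involutions. -/
theorem Hy.rad_four (h : Hy G) : ∃ s t : G, s ≠ 1 ∧ t ≠ 1 ∧ s ≠ t ∧ s * s = 1 ∧ t * t = 1 ∧
    s * t = t * s := by
  have : Fact (Nat.Prime 2) := ⟨Nat.prime_two⟩
  obtain ⟨T⟩ : Nonempty (Sylow 2 G) := inferInstance
  have hc := h.rad_card_sylow T
  have hom : Om (T : Subgroup G) := h.om.subgroup _
  have hnt : Nontrivial (T : Subgroup G) := Finite.one_lt_card_iff_nontrivial.1 (by omega)
  have hz := T.isPGroup'.center_nontrivial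
  obtain ⟨n, hn, e⟩ := (T.isPGroup'.to_subgroup (center (T : Subgroup G))).nontrivial_iff_card.1 hz
  obtain ⟨z, hz2⟩ := exists_prime_orderOf_dvd_card' (G := center (T : Subgroup G)) 2
    (by rw [e]; exact dvd_pow_self 2 hn.ne')
  have hz1 : z.1 ≠ 1 := fun e1 => by
    have : z = 1 := Subtype.ext e1
    rw [this, orderOf_one] at hz2
    omega
  have hzz : z.1 * z.1 = 1 := by
    have := pow_orderOf_eq_one z
    rw [hz2, pow_two] at this
    exact congrArg Subtype.val this
  by_contra hno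
  have key : ∀ x : (T : Subgroup G), x ≠ 1 → x ^ 2 = 1 → x = z.1 := by
    intro x hx hx2
    by_contra hne
    refine hno ⟨x.1, z.1.1, fun e1 => hx (Subtype.ext e1), fun e1 => hz1 (Subtype.ext e1),
      fun e1 => hne (Subtype.ext e1), ?_, congrArg Subtype.val hzz,
      congrArg Subtype.val (mem_center_iff.1 z.2 x)⟩
    rw [pow_two] at hx2
    exact congrArg Subtype.val hx2
  rcases Cfsg.Lib.Perm.isCyclic_or_quaternion_of_unique T.isPGroup'
    (fun x y hx hy hx2 hy2 => (key x hx hx2).trans (key y hy hy2).symm) with h1 | ⟨k, ⟨f⟩⟩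
  · obtain ⟨g, hg⟩ := isCyclic_iff_exists_orderOf_eq_natCard.1 h1
    have := hom g
    rw [hg, hc] at this
    revert this
    decide
  · have h1 := hom.of_equiv f (QuaternionGroup.a 1)
    have h2 : Nat.card (QuaternionGroup (2 ^ (k + 1))) = 128 := by
      rw [← hc]; exact (Nat.card_congr f.toEquiv).symm
    rw [QuaternionGroup.orderOf_a_one] at h1
    rw [Nat.card_eq_fintype_card, QuaternionGroup.card] at h2
    have h3 : 2 * 2 ^ (k + 1) = 64 := by omega
    rw [h3] at h1
    revert h1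
    decide

/-- There is no solvable `{2, 7}`-group satisfying the hypothesis. -/
theorem Hy.rad_not27 (h : Hy G) (hs : Group.IsSolvable G)
    (hπ : ∀ p : ℕ, p.Prime → p ∣ Nat.card G → p ∈ ({2, 7} : Set ℕ)) : False := by
  obtain ⟨s, t, hs1, ht1, hst, hss, htt, hc⟩ := h.rad_four
  have htop : (⊤ : Subgroup G) ≠ ⊥ := fun e => hs1 (mem_bot.1 (e ▸ mem_top s))
  obtain ⟨A, hA, hcm, hn⟩ := Cfsg.Lib.Known.AltP.exists_abelian_normal
    (H := (⊤ : Subgroup G)) inferInstance htop
  -- no involutions in `A`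
  let B : Subgroup G :=
    { carrier := {a | a ∈ A ∧ a * a = 1}
      one_mem' := ⟨A.one_mem, one_mul 1⟩
      mul_mem' := by
        rintro a b ⟨ha, ha2⟩ ⟨hb, hb2⟩
        refine ⟨A.mul_mem ha hb, ?_⟩
        calc a * b * (a * b) = a * (b * a) * b := by group
          _ = (a * a) * (b * b) := by rw [hcm b hb a ha]; group
          _ = 1 := by rw [ha2, hb2, one_mul]
      inv_mem' := by
        rintro a ⟨ha, ha2⟩
        exact ⟨A.inv_mem ha, by rw [← mul_inv_rev, ha2, inv_one]⟩ }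
  have hBn : B.Normal := ⟨by
    rintro a ⟨ha, ha2⟩ g
    refine ⟨hn g (mem_top g) a ha, ?_⟩
    calc g * a * g⁻¹ * (g * a * g⁻¹) = g * (a * a) * g⁻¹ := by group
      _ = 1 := by rw [ha2]; group⟩
  have hB : B = ⊥ := h.o2 B (fun b => ⟨1, Subtype.ext (by
    have := b.2.2
    simpa [pow_two] using this)⟩)
  have hinv : ∀ a ∈ A, a * a = 1 → a = 1 := fun a ha e =>
    mem_bot.1 (hB ▸ (⟨ha, e⟩ : a ∈ B))
  have h7 : ∀ a ∈ A, a ≠ 1 → orderOf a = 7 := by
    intro a ha ha1
    have hodd : ¬ 2 ∣ orderOf a := by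
      rintro ⟨m, hm⟩
      have h0 : 0 < orderOf a := orderOf_pos a
      have h1 : a ^ m = 1 := hinv _ (A.pow_mem ha m) (by
        rw [← pow_add, ← two_mul, ← hm, pow_orderOf_eq_one])
      have := Nat.le_of_dvd (by omega) (orderOf_dvd_of_pow_eq_one h1)
      omega
    have h3 : ¬ 3 ∣ orderOf a := fun e => by
      have := hπ 3 (by norm_num) (e.trans (orderOf_dvd_natCard a))
      simp at this
    have h5 : ¬ 5 ∣ orderOf a := fun e => by
      have := hπ 5 (by norm_num) (e.trans (orderOf_dvd_natCard a))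
      simp at this
    have h1 : orderOf a ≠ 1 := fun e => ha1 (orderOf_eq_one_iff.1 e)
    have := mem_OmS.1 (h.om a)
    omega
  have hneg : ∀ r : G, r ≠ 1 → r * r = 1 → ∀ a ∈ A, r * a * r⁻¹ = a⁻¹ := by
    intro r hr1 hrr a ha
    have hb := hn r (mem_top r) a ha
    by_contra hne
    have h1 : a * (r * a * r⁻¹) ≠ 1 := fun e => hne (eq_inv_of_mul_eq_one_right e)
    have h2 := h7 _ (A.mul_mem ha hb) h1
    have : Fact (Nat.Prime 2) := ⟨Nat.prime_two⟩
    have h3 : orderOf r = 2 := orderOf_eq_prime (by rw [pow_two, hrr]) hr1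
    have hri : r⁻¹ = r := inv_eq_of_mul_eq_one_right hrr
    have h4 : r * (a * (r * a * r⁻¹)) = a * (r * a * r⁻¹) * r := by
      rw [hcm a ha _ hb]
      calc r * (r * a * r⁻¹ * a) = (r * r) * a * r⁻¹ * a := by group
        _ = a * r * a := by rw [hrr, hri, one_mul]
        _ = a * (r * a * r⁻¹) * r := by group
        _ = r * a * r⁻¹ * a * r := by rw [hcm a ha _ hb]
    have := h.om.mul_mem h4 h3 h2 (by norm_num)
    revert this
    decide
  obtain ⟨⟨a, ha⟩, ha1⟩ := ne_bot_iff_exists_ne_one.1 hA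
  have hst1 : s * t ≠ 1 := fun e => hst (by
    calc s = s * (t * t) := by rw [htt, mul_one]
      _ = t := by rw [← mul_assoc, e, one_mul])
  have hst2 : s * t * (s * t) = 1 := by
    calc s * t * (s * t) = s * (t * s) * t := by group
      _ = (s * s) * (t * t) := by rw [← hc]; group
      _ = 1 := by rw [hss, htt, one_mul]
  have h1 := hneg _ hst1 hst2 a ha
  have h2 : s * t * a * (s * t)⁻¹ = a := by
    calc s * t * a * (s * t)⁻¹ = s * (t * a * t⁻¹) * s⁻¹ := by group
      _ = s * a⁻¹ * s⁻¹ := by rw [hneg t ht1 htt a ha]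
      _ = a := by rw [hneg s hs1 hss _ (A.inv_mem ha), inv_inv]
  apply ha1
  apply Subtype.ext
  apply hinv a ha
  rw [h2] at h1
  nth_rewrite 2 [h1]
  exact mul_inv_cancel a

theorem rad_solvable_comap {H : Type*} [Group H] (f : G →* H) (hk : Group.IsSolvable f.ker)
    {N : Subgroup H} (hN : Group.IsSolvable N) : Group.IsSolvable (N.comap f) := by
  refine Group.isSolvable_of_ker_le_range (inclusion (ker_le_comap f N)) (f.subgroupComap N) ?_
  rintro ⟨x, hx⟩ h1
  refine ⟨⟨x, ?_⟩, rfl⟩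
  exact congrArg Subtype.val (MonoidHom.mem_ker.1 h1)

theorem Hy.rad_seven (h : Hy G) (K : Subgroup G) [K.Normal] (hK : Group.IsSolvable K) :
    ¬ 7 ∣ Nat.card K := by
  intro h7
  have : Fact (Nat.Prime 2) := ⟨Nat.prime_two⟩
  obtain ⟨T⟩ : Nonempty (Sylow 2 G) := inferInstance
  have hq : IsPGroup 2 ((T : Subgroup G).map (QuotientGroup.mk' K)) := T.isPGroup'.map _
  have hnil := hq.isNilpotent
  have hM := rad_solvable_comap (QuotientGroup.mk' K) (by rwa [QuotientGroup.ker_mk'])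
    (N := (T : Subgroup G).map (QuotientGroup.mk' K)) inferInstance
  have hTM : (T : Subgroup G) ≤ ((T : Subgroup G).map (QuotientGroup.mk' K)).comap
    (QuotientGroup.mk' K) := le_comap_map _ _
  have hKM : K ≤ ((T : Subgroup G).map (QuotientGroup.mk' K)).comap (QuotientGroup.mk' K) := by
    have := ker_le_comap (QuotientGroup.mk' K) ((T : Subgroup G).map (QuotientGroup.mk' K))
    rwa [QuotientGroup.ker_mk'] at this
  generalize ((T : Subgroup G).map (QuotientGroup.mk' K)).comap (QuotientGroup.mk' K) = M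
    at hM hTM hKM
  obtain ⟨H, hH, hTH⟩ := Cfsg.Lib.Solv.exists_isPiHallOf_ge (π := ({2, 7} : Set ℕ)) (M := M)
    (K := (T : Subgroup G)) (by
      intro p hp hd
      rw [h.rad_card_sylow T, show 128 = 2 ^ 7 by norm_num] at hd
      exact .inl ((Nat.prime_dvd_prime_iff_eq hp Nat.prime_two).1 (hp.dvd_of_dvd_pow hd))) hTM
  have h7H : 7 ∣ Nat.card H := by
    have h1 : 7 ∣ Nat.card M := h7.trans (card_dvd_of_le hKM)
    have h2 : Nat.card H * H.relIndex M = Nat.card M := by
      rw [relIndex, ← card_mul_index (H.subgroupOf M),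
        Nat.card_congr (subgroupOfEquivOfLe hH.1).toEquiv]
    rw [← h2] at h1
    exact ((Nat.Prime.dvd_mul (by norm_num)).1 h1).resolve_right
      (hH.2.2 7 (by norm_num) (.inr rfl))
  have hsol : Group.IsSolvable H := Group.isSolvable_of_isSolvable_injective (f := inclusion hH.1)
    (inclusion_injective _)
  exact (h.rad_sub H T hTH h7H).rad_not27 hsol hH.2.1

theorem Hy.rad_two (h : Hy G) (K : Subgroup G) [K.Normal] (h7 : ¬ 7 ∣ Nat.card K) :
    ¬ 2 ∣ Nat.card K := by
  intro h2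
  have : Fact (Nat.Prime 2) := ⟨Nat.prime_two⟩
  obtain ⟨Q⟩ : Nonempty (Sylow 2 K) := inferInstance
  have hfr := Sylow.normalizer_sup_eq_top Q
  obtain ⟨T, hT⟩ := Q.exists_comap_subtype_eq
  set R : Subgroup G := (Q : Subgroup K).map K.subtype with hR
  have hRe : R = (T : Subgroup G) ⊓ K := by
    rw [hR, ← hT]
    exact subgroupOf_map_subtype _ _
  have hTM : (T : Subgroup G) ≤ normalizer (R : Set G) := by
    intro t ht
    rw [mem_normalizer_iff, hRe]
    intro x
    constructor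
    · rintro ⟨h1, h2⟩
      exact ⟨(T : Subgroup G).mul_mem ((T : Subgroup G).mul_mem ht h1) ((T : Subgroup G).inv_mem ht),
        ‹K.Normal›.conj_mem x h2 t⟩
    · rintro ⟨h1, h2⟩
      have e : x = t⁻¹ * (t * x * t⁻¹) * t⁻¹⁻¹ := by group
      rw [e]
      exact ⟨(T : Subgroup G).mul_mem ((T : Subgroup G).mul_mem ((T : Subgroup G).inv_mem ht) h1)
        ((T : Subgroup G).inv_mem ((T : Subgroup G).inv_mem ht)),
        ‹K.Normal›.conj_mem _ h2 _⟩
  have h7M : 7 ∣ Nat.card (normalizer (R : Set G)) := by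
    obtain ⟨x, hx⟩ := h.h7
    have h1 : 7 ∣ Nat.card G := hx ▸ orderOf_dvd_natCard x
    rw [← card_mul_index K] at h1
    have h3 : 7 ∣ K.index := ((Nat.Prime.dvd_mul (by norm_num)).1 h1).resolve_left h7
    rw [← relIndex_top_right, ← hfr, relIndex_sup_right] at h3
    exact h3.trans (index_dvd_card _)
  have hM := h.rad_sub _ T hTM h7M
  have hb := hM.o2 (R.subgroupOf (normalizer (R : Set G)))
    ((Q.isPGroup'.map K.subtype).comap_subtype)
  rw [subgroupOf_eq_bot, disjoint_iff, inf_eq_left.2 le_normalizer, hR,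
    map_eq_bot_iff_of_injective _ K.subtype_injective] at hb
  exact Q.ne_bot_of_dvd_card h2 hb

theorem Hy.rad (h : Hy G) (K : Subgroup G) [K.Normal] (hK : Group.IsSolvable K) :
    Nat.Coprime (Nat.card K) 14 := by
  have h7 := h.rad_seven K hK
  have h2 := h.rad_two K h7
  rw [show 14 = 2 * 7 by norm_num]
  exact Nat.Coprime.mul_right ((Nat.prime_two.coprime_iff_not_dvd.2 h2).symm)
    (((by norm_num : Nat.Prime 7).coprime_iff_not_dvd.2 h7).symm)

theorem rad_has_quot (K : Subgroup G) [K.Normal] {n : ℕ} (hn : Nat.Coprime (Nat.card K) n)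
    (h : Has G n) : Has (G ⧸ K) n := by
  obtain ⟨g, rfl⟩ := h
  refine ⟨(g : G ⧸ K), Nat.dvd_antisymm (orderOf_map_dvd (QuotientGroup.mk' K) g) ?_⟩
  have h1 : g ^ orderOf (g : G ⧸ K) ∈ K := by
    rw [← QuotientGroup.eq_one_iff, QuotientGroup.mk_pow, pow_orderOf_eq_one]
  have h2 : orderOf (g ^ orderOf (g : G ⧸ K)) ∣ Nat.card K := K.orderOf_dvd_natCard h1
  have h3 : orderOf (g ^ orderOf (g : G ⧸ K)) ∣ orderOf g := orderOf_pow_dvd _
  exact orderOf_dvd_of_pow_eq_one (orderOf_eq_one_iff.1 (Nat.eq_one_of_dvd_coprimes hn h2 h3))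

theorem Hy.quot (h : Hy G) (K : Subgroup G) [K.Normal] (hK : Nat.Coprime (Nat.card K) 14) :
    Hy (G ⧸ K) := by
  have h2 : Nat.Coprime (Nat.card K) 2 := hK.coprime_dvd_right (by norm_num)
  have h7 : Nat.Coprime (Nat.card K) 7 := hK.coprime_dvd_right (by norm_num)
  have hc := card_eq_card_quotient_mul_card_subgroup K
  refine ⟨h.om.quotient K, ?_, fun e => h.n8 (hc ▸ e.mul_right _), rad_has_quot K h7 h.h7,
    rad_has_quot K (h2.pow_right 3) h.h8⟩
  have := h.d7
  rw [hc] at this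
  exact (h2.pow_right 7).symm.dvd_of_dvd_mul_right this

theorem exists_rad : ∃ (K : Subgroup G) (_ : K.Normal), Group.IsSolvable K ∧
    ∀ N : Subgroup (G ⧸ K), N.Normal → Group.IsSolvable N → N = ⊥ := by
  obtain ⟨K, ⟨hn, hs⟩, hmax⟩ := Set.exists_max_image
    {K : Subgroup G | K.Normal ∧ Group.IsSolvable K} (fun K => Nat.card K) (Set.toFinite _)
    ⟨⊥, inferInstance, inferInstance⟩
  refine ⟨K, hn, hs, fun N hN hNs => ?_⟩
  have h1 := hmax (N.comap (QuotientGroup.mk' K)) ⟨inferInstance,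
    rad_solvable_comap _ (by rwa [QuotientGroup.ker_mk']) hNs⟩
  have h2 : K ≤ N.comap (QuotientGroup.mk' K) := by
    have := ker_le_comap (QuotientGroup.mk' K) N
    rwa [QuotientGroup.ker_mk'] at this
  have h3 := eq_of_le_of_card_ge h2 h1
  rw [eq_bot_iff]
  intro x hx
  obtain ⟨g, rfl⟩ := QuotientGroup.mk'_surjective K x
  have : g ∈ K := h3 ▸ hx
  exact mem_bot.2 ((QuotientGroup.eq_one_iff g).2 this)

end Cfsg.Lib.A10S
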