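import Cfsg.Agent.A10S.Defs
import Cfsg.Agent.Solv.SecRank
import Cfsg.Agent.Trans.SylowIn

/-! # Groups of order at most 128 with a large elementary abelian section -/

set_option autoImplicit false
set_option linter.unusedSectionVars false

namespace Cfsg.Lib.A10S

open Subgroup
open scoped commutatorElement

universe u

variable {G : Type u} [Group G] [Finite G]

namespace Red

variable {A H K T : Subgroup G} {a b s u w x y z : G}

/-- Index at most two. -/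
def Ix (A T : Subgroup G) : Prop := ∀ x ∈ T, ∀ y ∈ T, x ∉ A → y ∉ A → x * y ∈ A

theorem ix_of_card (h : A ≤ T) (hc : Nat.card T ≤ 2 * Nat.card A) : Ix A T := by
  intro x hx y hy h1 h2
  have e := Trans.card_mul_relIndex h
  have h3 : A.relIndex T ≠ 1 := fun e => h1 (relIndex_eq_one.1 e hx)
  have h4 : 0 < Nat.card A := Nat.card_pos
  have h5 : 0 < Nat.card T := Nat.card_pos
  have h6 : A.relIndex T = 2 := by
    have : A.relIndex T ≤ 2 := by nlinarith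
    have : A.relIndex T ≠ 0 := fun e' => by rw [e'] at e; omega
    omega
  exact (mul_mem_iff_of_index_two h6 (a := ⟨x, hx⟩) (b := ⟨y, hy⟩)).2 (iff_of_false h1 h2)

theorem Ix.card (h : Ix A T) (hA : A ≤ T) : Nat.card T ≤ 2 * Nat.card A := by
  have e := Trans.card_mul_relIndex hA
  by_cases h1 : T ≤ A
  · have := Trans.card_le_of_le h1
    omega
  obtain ⟨s, hs, hs'⟩ := SetLike.not_le_iff_exists.1 h1
  have : A.relIndex T = 2 := relIndex_eq_two_iff.2 ⟨s, hs, fun b hb => by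
    by_cases hb' : b ∈ A
    · exact Or.inr ⟨hb', fun e => hs' ((A.mul_mem_cancel_left hb').1 e)⟩
    · exact Or.inl ⟨h b hb s hs hb' hs', hb'⟩⟩
  rw [this] at e
  omega

theorem Ix.conj (h : Ix A T) (hA : A ≤ T) (hs : s ∈ T) (ha : a ∈ A) : s * a * s⁻¹ ∈ A := by
  by_cases h1 : s ∈ A
  · exact mul_mem (mul_mem h1 ha) (inv_mem h1)
  · exact h _ (mul_mem hs (hA ha)) _ (inv_mem hs) (fun e => h1 ((A.mul_mem_cancel_right ha).1 e))
      fun e => h1 (inv_mem_iff.1 e)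

theorem Ix.cases (h : Ix A T) (hs : s ∈ T) (hs' : s ∉ A) (hx : x ∈ T) :
    x ∈ A ∨ ∃ a ∈ A, x = s * a := by
  by_cases h1 : x ∈ A
  · exact Or.inl h1
  · exact Or.inr ⟨_, h _ (inv_mem hs) _ hx (fun e => hs' (inv_mem_iff.1 e)) h1, by group⟩

/-- Central in `T`. -/
def Ce (T : Subgroup G) (w : G) : Prop := ∀ c ∈ T, w * c = c * w

theorem Ce.comm_mul (hx : x ∈ T) (h : Ce T ⁅x, b⁆) (h' : Ce T ⁅y, b⁆) : Ce T ⁅x * y, b⁆ := by
  have e : ⁅x * y, b⁆ = ⁅y, b⁆ * ⁅x, b⁆ := by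
    calc ⁅x * y, b⁆ = x * ⁅y, b⁆ * x⁻¹ * ⁅x, b⁆ := by simp only [commutatorElement_def]; group
      _ = _ := by rw [← h' x hx]; group
  intro c hc
  rw [e, mul_assoc, h c hc, ← mul_assoc, h' c hc, mul_assoc]

theorem Ce.comm_symm (h : Ce T ⁅a, b⁆) : Ce T ⁅b, a⁆ := fun c hc => by
  rw [← commutatorElement_inv]
  exact (show Commute ⁅a, b⁆ c from h c hc).inv_left

theorem ce_one : Ce T 1 := fun c _ => by simp

theorem cl2_ab (h : Ix A T) (hA : A ≤ T) (hab : ∀ a ∈ A, ∀ b ∈ A, a * b = b * a) (hs : s ∈ T)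
    (hs' : s ∉ A) (h2 : ∀ a ∈ A, ⁅s, a⁆ * ⁅s, a⁆ = 1) : Cl2 T := by
  have h3 : ∀ a ∈ A, Ce T ⁅s, a⁆ := fun a ha => by
    have h4 : ⁅s, a⁆ ∈ A := mul_mem (h.conj hA hs ha) (inv_mem ha)
    have h5 : ⁅s, a⁆ * s = s * ⁅s, a⁆ := by
      have h6 := hab _ (h s hs s hs hs' hs') a ha
      calc ⁅s, a⁆ * s = ⁅s, a⁆⁻¹ * s := by rw [inv_eq_of_mul_eq_one_right (h2 a ha)]
        _ = (a * (s * s)) * s⁻¹ * a⁻¹ := by simp only [commutatorElement_def]; group
        _ = _ := by rw [← h6]; simp only [commutatorElement_def]; group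
    intro c hc
    rcases h.cases hs hs' hc with h6 | ⟨b, hb, rfl⟩
    · exact hab _ h4 _ h6
    · rw [← mul_assoc, h5, mul_assoc, hab _ h4 _ hb, mul_assoc]
  have h4 : ∀ x ∈ T, ∀ b ∈ A, Ce T ⁅x, b⁆ := fun x hx b hb => by
    have h5 : ∀ a ∈ A, Ce T ⁅a, b⁆ := fun a ha => by
      rw [commutatorElement_eq_one_iff_mul_comm.2 (hab a ha b hb)]; exact ce_one
    rcases h.cases hs hs' hx with h6 | ⟨a, ha, rfl⟩
    · exact h5 x h6
    · exact Ce.comm_mul hs (h3 b hb) (h5 a ha)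
  have h5 : ∀ x ∈ T, Ce T ⁅s, x⁆ := fun x hx => by
    rcases h.cases hs hs' hx with h6 | ⟨a, ha, rfl⟩
    · exact h3 x h6
    · exact (Ce.comm_mul hs (by rw [commutatorElement_self]; exact ce_one)
        (h3 a ha).comm_symm).comm_symm
  intro x hx y hy
  rcases h.cases hs hs' hx with h6 | ⟨a, ha, rfl⟩
  · exact (h4 y hy x h6).comm_symm
  · exact Ce.comm_mul hs (h5 y hy) (h4 y hy a ha).comm_symm

theorem comm_of_sq (h : ∀ a ∈ H, a * a = 1) : ∀ a ∈ H, ∀ b ∈ H, a * b = b * a := fun a ha b hb => by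
  have := h _ (mul_mem ha hb)
  calc a * b = (a * b)⁻¹ := (inv_eq_of_mul_eq_one_right this).symm
    _ = b * a := by rw [mul_inv_rev, inv_eq_of_mul_eq_one_right (h a ha),
      inv_eq_of_mul_eq_one_right (h b hb)]

theorem idx2 (h : Ix H T) (hH : H ≤ T) (h2 : ∀ a ∈ H, a * a = 1) : Cl2 T := by
  by_cases h1 : T ≤ H
  · intro a ha b hb
    rw [commutatorElement_eq_one_iff_mul_comm.2 (comm_of_sq h2 a (h1 ha) b (h1 hb))]
    exact ce_one
  obtain ⟨s, hs, hs'⟩ := SetLike.not_le_iff_exists.1 h1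
  exact cl2_ab h hH (comm_of_sq h2) hs hs' fun a ha =>
    h2 _ (mul_mem (h.conj hH hs ha) (inv_mem ha))

theorem or_mul (hz : z * z = 1) (ha : a = 1 ∨ a = z) (hb : b = 1 ∨ b = z) :
    a * b = 1 ∨ a * b = z := by
  rcases ha with rfl | rfl <;> rcases hb with rfl | rfl <;> simp [hz]

theorem or_inv (hz : z * z = 1) (ha : a = 1 ∨ a = z) : a⁻¹ = 1 ∨ a⁻¹ = z := by
  rcases ha with rfl | rfl
  · simp
  · exact Or.inr (inv_eq_of_mul_eq_one_right hz)

theorem comm_or (hz : z * z = 1) (h : ∀ a ∈ A, a * a = 1 ∨ a * a = z) :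
    ∀ a ∈ A, ∀ b ∈ A, ⁅a, b⁆ = 1 ∨ ⁅a, b⁆ = z := fun a ha b hb => by
  have e : ⁅a, b⁆ = a * b * (a * b) * (b⁻¹ * a⁻¹ * b * (b⁻¹ * a⁻¹ * b)) * (b⁻¹ * b⁻¹) := by
    simp only [commutatorElement_def]; group
  rw [e]
  exact or_mul hz (or_mul hz (h _ (mul_mem ha hb))
    (h _ (mul_mem (mul_mem (inv_mem hb) (inv_mem ha)) hb))) (h _ (inv_mem hb))

theorem cl2_of_sq (hz : z * z = 1) (h : ∀ a ∈ T, a * a = 1 ∨ a * a = z) : Cl2 T := by
  intro a ha b hb c hc
  have h1 := comm_or hz h _ (mul_mem (mul_mem hc ha) (inv_mem hc)) _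
    (mul_mem (mul_mem hc hb) (inv_mem hc))
  rw [← conjugate_commutatorElement] at h1
  rcases comm_or hz h a ha b hb with h2 | h2
  · rw [h2]; simp
  · rcases h1 with h1 | h1
    · rw [show ⁅a, b⁆ = 1 by simpa using h1]; simp
    · rw [← h2] at h1
      exact (mul_inv_eq_iff_eq_mul.1 h1).symm

theorem exists_z (h : Nat.card K ≤ 2) : ∃ z : G, z * z = 1 ∧ ∀ k ∈ K, k = 1 ∨ k = z := by
  by_cases h1 : ∀ k ∈ K, k = 1
  · exact ⟨1, mul_one _, fun k hk => Or.inl (h1 k hk)⟩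
  push Not at h1
  obtain ⟨z, hz, hz1⟩ := h1
  have h2 : Nat.card K = 2 := by
    have : 1 < Nat.card K := (one_lt_card_iff_ne_bot K).2 fun e => hz1 (by simpa [e] using hz)
    omega
  obtain ⟨y, -, hy⟩ := (Nat.card_eq_two_iff' (1 : K)).1 h2
  have h3 : ∀ k ∈ K, k = 1 ∨ k = z := fun k hk => or_iff_not_imp_left.2 fun h4 =>
    congrArg Subtype.val ((hy ⟨k, hk⟩ fun e => h4 (congrArg Subtype.val e)).trans
      (hy ⟨z, hz⟩ fun e => hz1 (congrArg Subtype.val e)).symm)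
  exact ⟨z, (h3 _ (mul_mem hz hz)).resolve_right fun e => hz1 (by simpa using e), h3⟩

theorem l64 (hT : Nat.card T = 128) (hu : u ∈ T) (h8 : orderOf u = 8) (hA : A ≤ T)
    (hc : 64 ≤ Nat.card A) (hz : z * z = 1) (h : ∀ a ∈ A, a * a = 1 ∨ a * a = z) :
    Cl2 T ∨ ∃ A z, Two T A z := by
  have hi : Ix A T := ix_of_card hA (by omega)
  have h4 : u * u * (u * u) ≠ 1 := fun e => by
    have : orderOf u ∣ 4 := orderOf_dvd_of_pow_eq_one (by rw [← e]; simp [pow_succ, mul_assoc])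
    rw [h8] at this
    omega
  have hu' : u ∉ A := fun e => h4 (by rcases h u e with e' | e' <;> simp [e', hz])
  by_cases h1 : ∀ a ∈ A, ∀ b ∈ A, a * b = b * a
  · refine Or.inl (cl2_ab hi hA h1 hu hu' fun a ha => ?_)
    have h2 := (h _ (hi u hu u hu hu' hu')).resolve_left h4
    have h3 := h1 _ (hi.conj hA hu ha) _ (inv_mem ha)
    have h5 : u * (a * a) = a * a * u := by
      rcases h a ha with e | e <;> rw [e]
      · simp
      · rw [← h2]; group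
    calc ⁅u, a⁆ * ⁅u, a⁆ = u * a * u⁻¹ * (a⁻¹ * (u * a * u⁻¹)) * a⁻¹ := by
          simp only [commutatorElement_def]; group
      _ = u * (a * a) * u⁻¹ * a⁻¹ * a⁻¹ := by rw [← h3]; group
      _ = 1 := by rw [h5]; group
  · push Not at h1
    obtain ⟨a, ha, b, hb, h1⟩ := h1
    have h2 : ⁅a, b⁆ ≠ 1 := fun e => h1 (commutatorElement_eq_one_iff_mul_comm.1 e)
    have h3 := (comm_or hz h a ha b hb).resolve_left h2
    have h5 : Nat.card A = 64 := by
      have h6 := Trans.card_lt_of_lt (lt_of_le_of_ne hA fun e => hu' (e ▸ hu))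
      obtain ⟨k, hk⟩ := card_dvd_of_le hA
      rw [hT] at h6 hk
      rcases k with _ | _ | _ | k <;> nlinarith
    exact Or.inr ⟨A, z, hA, hT, h5, hz, h3 ▸ h2,
      h3 ▸ mul_mem (mul_mem (mul_mem ha hb) (inv_mem ha)) (inv_mem hb), h, comm_or hz h,
      a, ha, b, hb, h3⟩

theorem exists_sec (hT : Nat.card T ∣ 2 ^ 7) (h : ¬ SectionalPRankLE 2 4 T) :
    ∃ H K : Subgroup G, H ≤ T ∧ 32 * Nat.card K ≤ Nat.card H ∧ (∀ a ∈ H, a * a ∈ K) ∧
      ∀ a ∈ H, ∀ b ∈ H, ⁅a, b⁆ ∈ K := by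
  rw [Solv.PG.secRank_subgroup_iff] at h
  push Not at h
  obtain ⟨H, K, h1, h2, h3, h4⟩ := h
  have e := Trans.card_mul_relIndex (inf_le_right : K ⊓ H ≤ H)
  rw [inf_relIndex_right] at e
  obtain ⟨j, -, hj⟩ := (Nat.dvd_prime_pow Nat.prime_two).1
    ((Dvd.intro_left _ e).trans ((card_dvd_of_le h1).trans hT))
  have h5 : 2 ^ 5 ≤ K.relIndex H := by
    rw [hj] at h4 ⊢
    exact Nat.pow_le_pow_right two_pos ((Nat.pow_lt_pow_iff_right one_lt_two).1 h4)
  refine ⟨H, K ⊓ H, h1, by nlinarith, fun a ha => ⟨by rw [← pow_two]; exact h3 a ha, mul_mem ha ha⟩,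
    fun a ha b hb => mem_inf.2 ⟨h2 (commutator_mem_commutator ha hb),
      mul_mem (mul_mem (mul_mem ha hb) (inv_mem ha)) (inv_mem hb)⟩⟩

theorem case_top (hT : Nat.card T = 128) (hu : u ∈ T) (h8 : orderOf u = 8) (hK : Nat.card K ≤ 4)
    (h1 : ∀ a ∈ T, a * a ∈ K) (h2 : ∀ a ∈ T, ∀ b ∈ T, ⁅a, b⁆ ∈ K) :
    Cl2 T ∨ ∃ A z, Two T A z := by
  obtain ⟨w, hw⟩ : ∃ w, w = u * u := ⟨_, rfl⟩
  have ho : orderOf w = 4 := by rw [hw, ← pow_two, orderOf_pow, h8]; rfl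
  have hw4 : w ^ 4 = 1 := ho ▸ pow_orderOf_eq_one w
  have hz : w * w * (w * w) = 1 := by rw [← hw4]; simp [pow_succ, mul_assoc]
  have hz1 : w * w ≠ 1 := fun e => by
    have : orderOf w ∣ 2 := orderOf_dvd_of_pow_eq_one (by rw [pow_two, e])
    rw [ho] at this
    omega
  have hzi : w⁻¹ * w⁻¹ = w * w := by rw [← mul_inv_rev]; exact inv_eq_of_mul_eq_one_right hz
  have hKw : zpowers w = K := eq_of_le_of_card_ge (zpowers_le.2 (hw ▸ h1 u hu))
    (by rw [Nat.card_zpowers, ho]; exact hK)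
  have hc : ∀ k ∈ K, (k = 1 ∨ k = w * w) ∨ k = w ∨ k = w⁻¹ := fun k hk => by
    classical
    rw [← hKw, mem_zpowers_iff_mem_range_orderOf, ho, Finset.mem_image] at hk
    obtain ⟨n, hn, rfl⟩ := hk
    rw [Finset.mem_range] at hn
    interval_cases n
    · simp
    · simp
    · simp [pow_two]
    · exact Or.inr (Or.inr (eq_inv_of_mul_eq_one_left (by rw [← pow_succ, hw4])))
  have hcw : ∀ t ∈ T, t * w * t⁻¹ = w ∨ t * w * t⁻¹ = w⁻¹ := fun t ht => by
    have h3 := h1 _ (mul_mem (mul_mem ht hu) (inv_mem ht))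
    rw [show t * u * t⁻¹ * (t * u * t⁻¹) = t * w * t⁻¹ by rw [hw]; group] at h3
    refine (hc _ h3).resolve_left fun h4 => hz1 ?_
    have h5 : t * w * t⁻¹ * (t * w * t⁻¹) = 1 := by rcases h4 with e | e <;> simp [e, hz]
    rw [show t * w * t⁻¹ * (t * w * t⁻¹) = t * (w * w) * t⁻¹ by group] at h5
    simpa using h5
  have hcz : ∀ t ∈ T, t * (w * w) * t⁻¹ = w * w := fun t ht => by
    rw [show t * (w * w) * t⁻¹ = t * w * t⁻¹ * (t * w * t⁻¹) by group]
    rcases hcw t ht with e | e <;> rw [e]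
    exact hzi
  have hco : ∀ t ∈ T, ∀ k, k = 1 ∨ k = w * w → t * k * t⁻¹ = k := by
    rintro t ht k (rfl | rfl)
    · simp
    · exact hcz t ht
  by_cases h3 : ∀ t ∈ T, t * w * t⁻¹ = w
  · refine Or.inl fun a ha b hb c hc' => ?_
    obtain ⟨n, hn⟩ := mem_zpowers_iff.1 (hKw.ge (h2 a ha b hb))
    rw [← hn]
    exact (show Commute c w from mul_inv_eq_iff_eq_mul.1 (h3 c hc')).symm.zpow_left n
  push Not at h3
  obtain ⟨x, hx, hx'⟩ := h3
  have hne : w⁻¹ ≠ w := fun e => hz1 (by rw [← mul_inv_cancel w, e])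
  have hsq : ∀ y ∈ T, y * w * y⁻¹ ≠ w → y * y = 1 ∨ y * y = w * w := fun y hy hy' => by
    refine (hc _ (h1 y hy)).resolve_right ?_
    rintro (e | e)
    · exact hy' (by rw [← e]; group)
    · exact hy' (by rw [← inv_inv w, ← e]; group)
  have hm : ∀ a b : G, ⁅a * b, x⁆ = a * ⁅b, x⁆ * a⁻¹ * ⁅a, x⁆ := fun a b => by
    simp only [commutatorElement_def]; group
  let A : Subgroup G :=
    { carrier := {a | a ∈ T ∧ (⁅a, x⁆ = 1 ∨ ⁅a, x⁆ = w * w)}
      one_mem' := ⟨one_mem _, by simp⟩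
      mul_mem' := fun {a b} ha hb => ⟨mul_mem ha.1 hb.1, by
        rw [hm, hco a ha.1 _ hb.2]; exact or_mul hz hb.2 ha.2⟩
      inv_mem' := fun {a} ha => ⟨inv_mem ha.1, by
        rw [show ⁅a⁻¹, x⁆ = a⁻¹ * ⁅a, x⁆⁻¹ * a⁻¹⁻¹ by simp only [commutatorElement_def]; group,
          hco _ (inv_mem ha.1) _ (or_inv hz ha.2)]
        exact or_inv hz ha.2⟩ }
  have hA : A ≤ T := fun a ha => ha.1
  have hi : Ix A T := fun a ha b hb ha' hb' => ⟨mul_mem ha hb, by
    have h4 := (hc _ (h2 a ha x hx)).resolve_left fun e => ha' ⟨ha, e⟩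
    have h5 := (hc _ (h2 b hb x hx)).resolve_left fun e => hb' ⟨hb, e⟩
    have h6 : a * ⁅b, x⁆ * a⁻¹ = w ∨ a * ⁅b, x⁆ * a⁻¹ = w⁻¹ := by
      rcases h5 with e | e <;> rw [e]
      · exact hcw a ha
      · rw [show a * w⁻¹ * a⁻¹ = (a * w * a⁻¹)⁻¹ by group]
        rcases hcw a ha with e' | e' <;> simp [e']
    rw [hm]
    rcases h4 with e | e <;> rcases h6 with e' | e' <;> simp [e, e', hzi]⟩
  have h4 := hi.card hA
  refine l64 hT hu h8 hA (by omega) hz fun a ha => ?_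
  by_cases h5 : a * w * a⁻¹ = w
  · have h6 := hsq _ (mul_mem ha.1 hx) (by
      rw [show a * x * w * (a * x)⁻¹ = a * (x * w * x⁻¹) * a⁻¹ by group,
        (hcw x hx).resolve_left hx', show a * w⁻¹ * a⁻¹ = (a * w * a⁻¹)⁻¹ by group, h5]
      exact hne)
    have h7 : a * a = a * ⁅a, x⁆ * a⁻¹ * (a * x * (a * x)) * (x * x)⁻¹ := by
      simp only [commutatorElement_def]; group
    rw [h7, hco a ha.1 _ ha.2]
    exact or_mul hz (or_mul hz ha.2 h6) (or_inv hz (hsq x hx hx'))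
  · exact hsq a ha.1 h5

theorem case_32 (hT : Nat.card T = 128) (hu : u ∈ T) (h8 : orderOf u = 8) (hH : H ≤ T)
    (hc : Nat.card H = 32) (h2 : ∀ a ∈ H, a * a = 1) :
    Cl2 T ∨ (∃ X, One T X u) ∨ ∃ A z, Two T A z := by
  by_cases h1 : T ≤ normalizer (H : Set G)
  · exact Or.inr (Or.inl ⟨H, hH, hT, hc, h2, fun t ht x hx => Trans.mem_normalizer_conj (h1 ht) hx,
      hu, h8⟩)
  obtain ⟨s, hs, hs'⟩ := SetLike.not_le_iff_exists.1 h1
  have hP : IsPGroup 2 T := IsPGroup.of_card (n := 7) hT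
  have h3 := Trans.lt_inf_normalizer hP (lt_of_le_of_ne hH fun e => by rw [e] at hc; omega)
  obtain ⟨X, hX⟩ : ∃ X, X = T ⊓ normalizer (H : Set G) := ⟨_, rfl⟩
  rw [← hX] at h3
  have hXT : X ≤ T := hX ▸ inf_le_left
  have h4 : Nat.card X = 64 := by
    have h5 := Trans.card_lt_of_lt h3
    have h6 := Trans.card_lt_of_lt (lt_of_le_of_ne hXT
      fun e => h1 ((e.symm.trans hX).le.trans inf_le_right))
    obtain ⟨k, hk⟩ := card_dvd_of_le h3.le
    obtain ⟨l, hl⟩ := card_dvd_of_le hXT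
    rw [hc] at hk h5
    rw [hT] at h6 hl
    have : k = 2 ∨ k = 3 := by omega
    rcases this with rfl | rfl
    · omega
    · rw [hk] at hl
      omega
  have hi : Ix X T := ix_of_card hXT (by omega)
  have hH' : Trans.cj s H ≤ X := Trans.cj_le_iff.2 fun a ha => hi.conj hXT hs (h3.le ha)
  have hc' : Nat.card (Trans.cj s H) = 32 := by rw [Trans.card_cj, hc]
  have h2' : ∀ a ∈ Trans.cj s H, a * a = 1 := fun a ha => by
    have := h2 _ (Trans.mem_cj.1 ha)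
    rw [show s⁻¹ * a * s * (s⁻¹ * a * s) = s⁻¹ * (a * a) * s⁻¹⁻¹ by group] at this
    exact conj_eq_one_iff.1 this
  obtain ⟨y, hy, hy'⟩ := SetLike.not_le_iff_exists.1 fun e : Trans.cj s H ≤ H =>
    hs' (Trans.mem_normalizer_of_cj_le e)
  obtain ⟨x, hx, hx'⟩ := SetLike.not_le_iff_exists.1 fun e : H ≤ Trans.cj s H =>
    hy' ((eq_of_le_of_card_ge e (by omega)).ge hy)
  have i1 : Ix H X := ix_of_card h3.le (by omega)
  have i2 : Ix (Trans.cj s H) X := ix_of_card hH' (by omega)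
  have hz : y * x * (y * x) ∈ H := by
    have := mul_mem (i1.conj h3.le (hH' hy) hx) hx
    rwa [inv_eq_of_mul_eq_one_right (h2' y hy), mul_assoc (y * x)] at this
  refine (l64 hT hu h8 hXT h4.ge (h2 _ hz) fun a ha => ?_).imp_right Or.inr
  rcases i1.cases (hH' hy) hy' ha with h5 | ⟨b, hb, rfl⟩
  · exact Or.inl (h2 a h5)
  rcases i2.cases (h3.le hx) hx' (h3.le hb) with h5 | ⟨c, hc1, rfl⟩
  · exact Or.inl (h2' _ (mul_mem hy h5))
  have hc2 : c ∈ H := (H.mul_mem_cancel_left hx).1 hb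
  have e1 := comm_of_sq h2 c hc2 x hx
  have e2 := comm_of_sq h2' c hc1 y hy
  refine Or.inr ?_
  calc y * (x * c) * (y * (x * c)) = y * x * (c * y) * (x * c) := by group
    _ = y * x * y * (c * x) * c := by rw [e2]; group
    _ = y * x * (y * x) * (c * c) := by rw [e1]; group
    _ = _ := by rw [h2 c hc2, mul_one]

end Red

open Red

theorem red64 {T : Subgroup G} (hT : IsPGroup 2 T) (h : Nat.card T ≤ 64) :
    SectionalPRankLE 2 4 T ∨ Cl2 T := by
  refine or_iff_not_imp_left.2 fun h1 => ?_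
  obtain ⟨n, hn⟩ := hT.exists_card_eq
  have h7 : Nat.card T ∣ 2 ^ 7 := by
    rw [hn] at h ⊢
    exact pow_dvd_pow 2 ((Nat.pow_le_pow_iff_right one_lt_two).1 (h.trans (by norm_num)))
  obtain ⟨H, K, h2, h3, h4, -⟩ := exists_sec h7 h1
  have h5 := Trans.card_le_of_le h2
  have h6 : 0 < Nat.card K := Nat.card_pos
  by_cases h8 : Nat.card K = 1
  · rw [card_eq_one] at h8
    exact idx2 (ix_of_card h2 (by omega)) h2 fun a ha => by simpa [h8] using h4 a ha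
  · obtain rfl : H = T := eq_of_le_of_card_ge h2 (by omega)
    obtain ⟨z, hz, hz'⟩ := exists_z (K := K) (by omega)
    exact cl2_of_sq hz fun a ha => hz' _ (h4 a ha)

theorem red128 {T : Subgroup G} (h : Nat.card T = 128) {u : G} (hu : u ∈ T) (h8 : orderOf u = 8) :
    SectionalPRankLE 2 4 T ∨ Cl2 T ∨ (∃ X, One T X u) ∨ ∃ A z, Two T A z := by
  refine or_iff_not_imp_left.2 fun h1 => ?_
  obtain ⟨H, K, h2, h3, h4, h5⟩ := exists_sec (by rw [h]; norm_num) h1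
  have h6 : 0 < Nat.card K := Nat.card_pos
  obtain ⟨k, hk⟩ := card_dvd_of_le h2
  rw [h] at hk
  have h7 : Nat.card H = 128 ∨ Nat.card H = 64 ∨ Nat.card H = 32 := by
    rcases k with _ | _ | _ | _ | _ | k
    · omega
    · omega
    · omega
    · omega
    · omega
    · nlinarith
  rcases h7 with h7 | h7 | h7
  · obtain rfl : H = T := eq_of_le_of_card_ge h2 (by omega)
    exact (case_top (K := K) h hu h8 (by omega) h4 h5).imp_right Or.inr
  · obtain ⟨z, hz, hz'⟩ := exists_z (K := K) (by omega)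
    exact (l64 h hu h8 h2 h7.ge hz fun a ha => hz' _ (h4 a ha)).imp_right Or.inr
  · have h9 : K = ⊥ := card_eq_one.1 (by omega)
    exact case_32 h hu h8 h2 h7 fun a ha => by simpa [h9] using h4 a ha

end Cfsg.Lib.A10S
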