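import Cfsg.Agent.A10S.LemA
import Cfsg.Agent.S0721
import Cfsg.Agent.S0204
import Cfsg.Agent.FT.Final
import Cfsg.Agent.Char.Burnside
import Cfsg.Agent.Solv.Fitting

/-! # The socle modulo the solvable radical -/

set_option autoImplicit false

namespace Cfsg.Lib.A10S

open Subgroup

universe u

variable {G : Type u} [Group G] [Finite G]

namespace SocAux

theorem dvd23 {n : ℕ} (h0 : n ≠ 0) (h : ∀ p, p.Prime → p ∣ n → p = 2 ∨ p = 3) : n ∣ 2 ^ n * 3 ^ n := by
  refine (Nat.dvd_iff_prime_pow_dvd_dvd _ _).2 fun p k hp hk => ?_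
  rcases k.eq_zero_or_pos with rfl | k0
  · simp
  have e : p ^ k ∣ p ^ n := pow_dvd_pow p
    ((Nat.lt_pow_self hp.one_lt).le.trans (Nat.le_of_dvd h0.bot_lt hk))
  rcases h p hp ((dvd_pow_self p k0.ne').trans hk) with rfl | rfl
  exacts [e.mul_right _, e.mul_left _]

theorem odd_cent (h : Om G) {P C : Subgroup G} (h7 : 7 ∣ Nat.card P)
    (hC : C ≤ centralizer (P : Set G)) : Odd (Nat.card C) := by
  have := Fact.mk (by decide : Nat.Prime 7)
  by_contra k
  obtain ⟨x, hx⟩ := exists_prime_orderOf_dvd_card' 7 h7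
  obtain ⟨y, hy⟩ := exists_prime_orderOf_dvd_card' 2 (Nat.not_odd_iff_even.1 k).two_dvd
  exact absurd (h.mul_mem (hC y.2 x x.2) ((orderOf_coe x).trans hx) ((orderOf_coe y).trans hy)
    (by decide)) (by decide)

theorem not_four (h : Om G) (L : Subgroup G) [L.Normal] (h7 : 7 ∣ Nat.card L)
    (h49 : ¬ 49 ∣ Nat.card L) : ¬ 4 ∣ L.index := fun k => by
  have := Fact.mk (by decide : Nat.Prime 7)
  obtain ⟨Q⟩ : Nonempty (Sylow 7 L) := inferInstance
  have c : Nat.card ((Q : Subgroup L).map L.subtype) = 7 := by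
    have p := fun k => this.out.pow_dvd_iff_le_factorization (k := k) (Nat.card_pos (α := L)).ne'
    have p1 := (p 1).1 h7
    have p2 := (p 2).not.1 h49
    rw [card_subtype, Q.card_eq_multiplicity, show (Nat.card L).factorization 7 = 1 by omega, pow_one]
  have e := Q.normalizer_sup_eq_top
  generalize (Q : Subgroup L).map L.subtype = P at c e
  have := isCyclic_of_prime_card c
  rw [← relIndex_top_right, ← e, relIndex_sup_right] at k
  replace k := k.trans (relIndex_dvd_card _ _)
  rw [← P.normalizerMonoidHom.ker.card_mul_index, index_ker] at k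
  have k1 := (Nat.Coprime.dvd_of_dvd_mul_left ?_ k).trans (card_subgroup_dvd_card _)
  · rw [IsCyclic.card_mulAut, c] at k1
    exact absurd k1 (by decide)
  · rw [← card_subtype]
    exact (Nat.coprime_two_left.2 (odd_cent h c.symm.dvd (by
      rw [normalizerMonoidHom_ker]; exact map_le_iff_le_comap.2 le_rfl))).pow_left 2

end SocAux

open SocAux

theorem Hy.exists_soc (hL : Lis.{u}) (h : Hy G)
    (hs : ∀ N : Subgroup G, N.Normal → Group.IsSolvable N → N = ⊥) : ∃ S, Soc G S := by
  have := Fact.mk (by decide : Nat.Prime 7)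
  have : Nontrivial G := Finite.one_lt_card_iff_nontrivial.1
    (lt_of_lt_of_le (by decide) (Nat.le_of_dvd Nat.card_pos h.d7))
  obtain ⟨L, hn, h0, -, hm⟩ := Solv.exists_minimal_normal_le (⊤ : Subgroup G) top_ne_bot
  have ns : ¬ Group.IsSolvable L := fun k => h0 (hs L hn k)
  obtain ⟨T, _, m, hT, m0, ⟨e⟩⟩ := Cfsg.Agent.S0721.result L h0 hm
  have i1 : Function.Injective (MonoidHom.mulSingle (fun _ : Fin m => T) ⟨0, m0⟩) :=
    Pi.mulSingle_injective (M := fun _ : Fin m => T) _
  have : Finite (Fin m → T) := Finite.of_equiv _ e.toEquiv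
  have : Finite T := Finite.of_injective _ i1
  have oL := (h.om.subgroup L).of_equiv e
  have cL : Nat.card L = Nat.card T ^ m := by
    rw [Nat.card_congr e.toEquiv, Nat.card_fun, Nat.card_fin]
  have nc : ¬ ∀ a b : T, a * b = b * a := fun k => ns (Group.isSolvable_of_comm fun a b =>
    e.injective (by rw [map_mul, map_mul]; exact funext fun i => k _ _))
  obtain ⟨E, hE⟩ := Cfsg.Agent.S0204.result (G := T) fun _ => nc IsCyclic.commGroup.mul_comm
  have d4 : 4 ∣ Nat.card T := hE.card_four ▸ E.card_subgroup_dvd_card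
  have dT : Nat.card T ∣ Nat.card L := cL ▸ dvd_pow_self _ m0.ne'
  have n8 : ¬ 2 ^ 8 ∣ Nat.card L := fun k => h.n8 (k.trans L.card_subgroup_dvd_card)
  by_cases h7 : 7 ∣ Nat.card L
  swap
  · obtain ⟨x, hx⟩ := h.h7
    have g7 : 7 ∣ Nat.card G := hx ▸ orderOf_dvd_natCard x
    have a2 := a1 Nat.prime_two L g7 h7 fun x y a b c => absurd (h.om.mul_mem c a b (by decide)) (by decide)
    have a5 := a1 Nat.prime_five L g7 h7 fun x y a b c => absurd (h.om.mul_mem c a b (by decide)) (by decide)
    have p := fun p k hp => (Nat.Prime.pow_dvd_iff_le_factorization (p := p) (k := k) hp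
      (Nat.card_pos (α := L)).ne')
    have b7 : ¬ 2 ^ 7 ∣ Nat.card L := fun k => by
      rw [p _ _ Nat.prime_two] at k n8
      rw [show (Nat.card L).factorization 2 = 7 by omega] at a2
      exact absurd a2 (by decide)
    have m3 : m ≤ 3 := by_contra fun k => b7 (by
      rw [cL]
      exact (pow_dvd_pow 2 (by omega : 7 ≤ 2 * m)).trans (by rw [pow_mul]; exact pow_dvd_pow_of_dvd d4 m))
    have := (MulEquiv.ulift (α := T)).isSimpleGroup
    have s := (hL (ULift.{u} T) (fun k => nc fun a b => congrArg ULift.down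
      (k.1.1 (.up a) (.up b))) ((oL.of_injective _ i1).of_equiv MulEquiv.ulift.symm)
      (by rw [Nat.card_ulift]; exact fun k => n8 (k.trans dT))
      (by rw [Nat.card_ulift]; exact fun k => absurd (k.trans dT) b7)).1
    rw [Nat.card_ulift] at s
    have s1 := (Nat.prime_five.pow_dvd_iff_le_factorization (k := 2) (Nat.card_pos (α := T)).ne').not.1
      (s fun k => h7 (k.trans dT))
    have s2 : (Nat.card L).factorization 5 ≤ 3 := by
      rw [cL, Nat.factorization_pow, Finsupp.smul_apply, smul_eq_mul]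
      exact (Nat.mul_le_mul m3 (Nat.le_of_lt_succ (not_le.1 s1))).trans_eq rfl
    refine absurd (Char.isSolvable_of_card_dvd Nat.prime_two Nat.prime_three L
      (dvd23 Nat.card_pos.ne' fun q hq k => ?_)) ns
    refine or_assoc.2 ((h.om.subgroup L).prime hq k) |>.resolve_right ?_
    rintro (rfl | rfl)
    swap
    · exact h7 k
    have s3 := (p 5 1 hq).1 (by rwa [pow_one])
    generalize (Nat.card L).factorization 5 = n at *
    interval_cases n <;> exact absurd a5 (by decide)
  obtain rfl : m = 1 := by_contra fun k => by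
    obtain ⟨x, hx⟩ := exists_prime_orderOf_dvd_card' (G := T) 7
      ((by decide : Nat.Prime 7).dvd_of_dvd_pow (cL ▸ h7))
    obtain ⟨y, hy⟩ := exists_prime_orderOf_dvd_card' (G := T) 2 ((by decide : 2 ∣ 4).trans d4)
    let f : Fin m → T := fun i => if i.1 = 0 then x else y
    refine oL.not_dvd f (m := 7 * 2) (by decide) (Nat.Coprime.mul_dvd_of_dvd_of_dvd (by decide) ?_ ?_)
    exacts [hx ▸ orderOf_apply_dvd_orderOf (x := f) ⟨0, m0⟩,
      hy ▸ orderOf_apply_dvd_orderOf (x := f) ⟨1, by omega⟩]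
  have := (e.trans (MulEquiv.funUnique _ T)).isSimpleGroup
  have s := hL L (fun k => ns (Group.isSolvable_of_comm k.1.1)) (h.om.subgroup L) n8 fun k => by
    obtain ⟨u, hu⟩ := h.h8
    refine ⟨⟨_, L.pow_index_mem u⟩, ?_⟩
    rw [orderOf_mk, Nat.Coprime.orderOf_pow, hu]
    rw [hu]
    refine (Nat.coprime_two_left.2 (Nat.odd_iff.2 (Nat.two_dvd_ne_zero.1 fun l => h.n8 ?_))).pow_left 3
    rw [← L.card_mul_index, pow_succ]
    exact mul_dvd_mul k l
  refine ⟨L, h, hn, this, fun g hg => ?_, s.2.2 h7 ?_⟩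
  · exact (hs (centralizer (L : Set G)) inferInstance
      (FT.odd_order_solvable (odd_cent h.om h7 le_rfl))).le fun x hx => (hg x hx).symm
  · have k := not_four h.om L h7 s.2.1
    have d := h.d7
    rw [← L.card_mul_index] at d
    by_cases l : 2 ∣ L.index
    · obtain ⟨c, l⟩ := l
      rw [l] at k d
      rw [mul_left_comm, pow_succ', Nat.mul_dvd_mul_iff_left two_pos] at d
      exact Nat.Coprime.dvd_of_dvd_mul_right ((Nat.coprime_two_left.2 (Nat.odd_iff.2 (by omega))).pow_left 6) d
    · exact (by decide : 64 ∣ 2 ^ 7).trans (Nat.Coprime.dvd_of_dvd_mul_right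
        ((Nat.coprime_two_left.2 (Nat.odd_iff.2 (by omega))).pow_left 7) d)

end Cfsg.Lib.A10S
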