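import Cfsg.Agent.A10S.Defs

/-!
# Groups of order 128 with a maximal subgroup whose Frattini subgroup has order two
-/

set_option autoImplicit false
set_option linter.unusedSectionVars false

namespace Cfsg.Lib.A10S

open Subgroup
open scoped commutatorElement

universe u

variable {G : Type u} [Group G] [Finite G]

section
variable {T A C D : Subgroup G} {a b c e s s' t u x y z : G}

namespace Two

variable (h : Two T A z)
include h

theorem memZ : e ∈ zpowers z ↔ e = 1 ∨ e = z := by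
  refine ⟨fun ⟨k, hk⟩ => ?_, fun k => k.elim (fun l => l ▸ one_mem _) fun l => l ▸ mem_zpowers _⟩
  obtain ⟨m, rfl | rfl⟩ := Int.even_or_odd' k <;> simp [← hk, zpow_add, zpow_mul, zpow_two, h.z2, zpow_one, -zpow_ofNat]

theorem cardZ : Nat.card (zpowers z) = 2 := by
  rw [Nat.card_zpowers, orderOf_eq_prime (by rw [pow_two, h.z2]) h.z1]

theorem out' (hx : x ∈ T) (hy : y ∈ T) (h1 : x ∉ A) (h2 : y ∉ A) : x * y ∈ A := by
  have i := (A.subgroupOf T).card_mul_index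
  rw [Nat.card_congr (subgroupOfEquivOfLe h.le).toEquiv, h.cA, h.cT] at i
  exact (mul_mem_iff_of_index_two (H := A.subgroupOf T) (by omega) (a := ⟨x, hx⟩) (b := ⟨y, hy⟩)).2
    (iff_of_false h1 h2)

theorem nm (hx : x ∈ T) (ha : a ∈ A) : x * a * x⁻¹ ∈ A := by
  by_cases k : x ∈ A
  · exact mul_mem (mul_mem k ha) (inv_mem k)
  · exact h.out' (mul_mem hx (h.le ha)) (inv_mem hx) (by rwa [mul_mem_cancel_right ha]) (by rwa [inv_mem_iff])

theorem wA (hx : x ∈ T) (ha : a ∈ A) : ⁅x, a⁆ ∈ A := mul_mem (h.nm hx ha) (inv_mem ha)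

theorem zT' (hx : x ∈ T) : x * z = z * x := by
  obtain ⟨a, ha, b, hb, e⟩ := h.na
  have := h.cm _ (h.nm hx ha) _ (h.nm hx hb)
  rw [← conjugate_commutatorElement, e] at this
  exact mul_inv_eq_iff_eq_mul.1 (this.resolve_left fun k => h.z1 (conj_eq_one_iff.1 k))

theorem cen (he : e ∈ zpowers z) (hx : x ∈ T) : Commute x e :=
  he.elim fun k hk => hk ▸ (show Commute x z from h.zT' hx).zpow_right k

theorem sqZ (ha : a ∈ A) : a * a ∈ zpowers z := h.memZ.2 (h.sq a ha)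

theorem cmZ (ha : a ∈ A) (hb : b ∈ A) : ⁅a, b⁆ ∈ zpowers z := h.memZ.2 (h.cm a ha b hb)

theorem zz (he : e ∈ zpowers z) : e * e = 1 := (h.memZ.1 he).elim (fun k => by rw [k, one_mul]) fun k => k ▸ h.z2

theorem four (ha : a ∈ A) : a ^ 4 = 1 := by
  rw [← h.zz (h.sqZ ha)]; simp only [pow_succ, pow_zero, one_mul, mul_assoc]

theorem inv_w (hs : s ∈ T) (ha : a ∈ A) : a * ⁅s, a⁆ * a = ⁅s, a⁆⁻¹ * (a * a) := by
  rw [← mul_inv_eq_iff_eq_mul.2 (h.cen (h.sqZ ha) hs).eq, commutatorElement_def]; group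

theorem aw' (hs : s ∈ T) (ha : a ∈ A) : ⁅a, ⁅s, a⁆⁆ = ⁅s, a⁆ * ⁅s, a⁆ := by
  rw [commutatorElement_def a, mul_right_cancel ((h.inv_w hs ha).trans (mul_assoc _ _ _).symm),
    mul_inv_cancel_right, ← mul_inv_rev, inv_eq_of_mul_eq_one_right (h.zz (h.sqZ (h.wA hs ha)))]

theorem indep (hs : s ∈ T) (h1 : s ∉ A) (hs' : s' ∈ T) (h2 : s' ∉ A) (ha : a ∈ A) :
    ⁅s, a⁆⁻¹ * ⁅s', a⁆ ∈ zpowers z := by
  have hb := h.out' hs' (inv_mem hs) h2 (by rwa [inv_mem_iff])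
  convert mul_mem (h.cmZ (inv_mem (h.wA hs ha)) hb) (h.cmZ hb ha) using 1
  simp only [commutatorElement_def]; group

theorem w_mul (hs : s ∈ T) (ha : a ∈ A) (hb : b ∈ A) : ⁅s, a * b⁆⁻¹ * (⁅s, a⁆ * ⁅s, b⁆) ∈ zpowers z := by
  convert h.cmZ ha (inv_mem (h.wA hs hb)) using 1
  simp only [commutatorElement_def]; group

theorem ww (hs : s ∈ T) (h1 : s ∉ A) (ha : a ∈ A) : ⁅s, ⁅s, a⁆⁆ ∈ zpowers z := by
  convert mul_mem (h.cmZ (h.out' hs hs h1 h1) ha) (inv_mem (h.sqZ (h.wA hs ha))) using 1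
  simp only [commutatorElement_def]; group

theorem cd (hs : s ∈ T) (ha : a ∈ A) (hc : c ∈ A) (k : ⁅s, c⁆ ∈ zpowers z) : Commute ⁅s, a⁆ c := by
  have w := h.wA hs ha
  refine commutatorElement_eq_one_iff_commute.1 (mul_left_cancel (a := ⁅a, c⁆) ?_)
  calc _ = ⁅s, a⁆ * ⁅a, c⁆ * ⁅s, a⁆⁻¹ * ⁅⁅s, a⁆, c⁆ := by
        rw [(h.cen (h.cmZ ha hc) (h.le w)).eq, mul_inv_cancel_right]
    _ = ⁅⁅s, a⁆ * a, c⁆ := by simp only [commutatorElement_def]; group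
    _ = ⁅s, c⁆ * ⁅⁅s, a⁆ * a, c⁆ * ⁅s, c⁆⁻¹ := by
        rw [← (h.cen k (h.le (h.wA (h.le (mul_mem w ha)) hc))).eq, mul_inv_cancel_right]
    _ = ⁅s, c⁆ * (⁅s, a⁆ * a) * c * (⁅s, a⁆ * a)⁻¹ * (⁅s, c⁆ * c)⁻¹ := by
        rw [commutatorElement_def (_ * a)]; group
    _ = s * ⁅a, c⁆ * s⁻¹ := by
        rw [← (h.cen k (h.le (mul_mem w ha))).eq]; simp only [commutatorElement_def]; group
    _ = _ := by rw [(h.cen (h.cmZ ha hc) hs).eq, mul_inv_cancel_right, mul_one]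

theorem pow4 (hs : s ∈ T) (h1 : s ∉ A) (ha : a ∈ A) : (a * s) ^ 4 = ⁅s, a⁆ * ⁅s, a⁆ * s ^ 4 := by
  have f := h.out' hs hs h1 h1
  have w := h.wA hs ha
  have c1 := (h.cd hs ha f (commutatorElement_eq_one_iff_commute.2 ((Commute.refl s).mul_right
    (Commute.refl s)) ▸ one_mem _)).inv_left
  calc _ = (a * ⁅s, a⁆ * a * (s * s)) ^ 2 := by
        simp only [commutatorElement_def, pow_succ, pow_zero, one_mul, mul_assoc, inv_mul_cancel_left]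
    _ = _ := by
        rw [h.inv_w hs ha, (c1.mul_left (h.cen (h.sqZ ha) (h.le f)).symm).mul_pow,
          (h.cen (h.sqZ ha) (h.le (inv_mem w))).mul_pow, pow_two (a * a), h.zz (h.sqZ ha), mul_one, pow_two,
          ← mul_inv_rev, inv_eq_of_mul_eq_one_right (h.zz (h.sqZ w)), ← pow_two s, ← pow_mul]

theorem not_mem (h8 : orderOf u = 8) : u ∉ A := fun k =>
  absurd (h8 ▸ orderOf_dvd_of_pow_eq_one (h.four k)) (by decide)

theorem ord8 (hx : x ∈ T) (h1 : x ∉ A) : orderOf x = 8 ↔ x ^ 4 ≠ 1 :=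
  ⟨fun k l => absurd (k ▸ orderOf_dvd_of_pow_eq_one l) (by decide), fun k =>
    orderOf_eq_prime_pow (p := 2) (n := 2) k (by
      rw [← h.four (h.out' hx hx h1 h1), ← pow_two, ← pow_mul]; rfl)⟩

theorem cm_iff (ha : a ∈ T) : ⁅x, a⁆ ∈ zpowers z ↔ x * a * x⁻¹ = a ∨ x * a * x⁻¹ = a * z := by
  rw [h.memZ, commutatorElement_def, mul_inv_eq_one, mul_inv_eq_iff_eq_mul (b := a), h.zT' ha]

theorem exists_CD (hs : s ∈ T) : ∃ C D : Subgroup G, (∀ a, a ∈ C ↔ a ∈ A ∧ ⁅s, a⁆ ∈ zpowers z) ∧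
    (∀ d, d ∈ D ↔ ∃ a ∈ A, ⁅s, a⁆⁻¹ * d ∈ zpowers z) ∧ Nat.card D * Nat.card C = 128 := by
  have zA := zpowers_le.2 h.zA
  have : ((zpowers z).subgroupOf A).Normal := ⟨fun n hn g => by
    rwa [show g * n * g⁻¹ = n from Subtype.ext (mul_inv_eq_iff_eq_mul.2 (h.cen hn (h.le g.2)).eq)]⟩
  let f : A →* A ⧸ (zpowers z).subgroupOf A := MonoidHom.mk' (fun a => (⟨_, h.wA hs a.2⟩ : A)) fun a b =>
    QuotientGroup.eq.2 (h.w_mul hs a.2 b.2)
  refine ⟨f.ker.map A.subtype, (f.range.comap (QuotientGroup.mk' _)).map A.subtype, fun a =>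
    ⟨fun ⟨b, hb, e⟩ => e ▸ ⟨b.2, (QuotientGroup.eq_one_iff (N := (zpowers z).subgroupOf A) ⟨_, h.wA hs b.2⟩).1 hb⟩,
      fun k => ⟨⟨a, k.1⟩, (QuotientGroup.eq_one_iff _).2 k.2, rfl⟩⟩, fun d =>
    ⟨fun ⟨b, ⟨a, ha⟩, e⟩ => ⟨a, a.2,
      e ▸ (QuotientGroup.eq (s := (zpowers z).subgroupOf A) (a := ⟨_, h.wA hs a.2⟩) (b := b)).1 ha⟩, fun ⟨a, ha, k⟩ =>
      ⟨⟨d, (mul_mem_cancel_left (inv_mem (h.wA hs ha))).1 (zA k)⟩, ⟨⟨a, ha⟩, QuotientGroup.eq.2 k⟩, rfl⟩⟩, ?_⟩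
  have e1 := (f.range.comap (QuotientGroup.mk' _)).card_mul_index
  have e2 := f.ker.card_mul_index
  have e3 := f.range.card_mul_index
  have e4 := card_eq_card_quotient_mul_card_subgroup ((zpowers z).subgroupOf A)
  rw [Nat.card_congr (subgroupOfEquivOfLe zA).toEquiv, h.cardZ, h.cA, ← e3] at e4
  rw [index_comap_of_surjective _ (QuotientGroup.mk'_surjective _), h.cA, e4, mul_right_comm] at e1
  rw [index_ker, h.cA] at e2
  rw [card_subtype, card_subtype, Nat.eq_of_mul_eq_mul_right (Nat.pos_of_ne_zero index_ne_zero_of_finite) e1,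
    mul_right_comm, mul_comm (Nat.card f.range), e2]
  rfl

end Two

theorem Two.tw (h : Two T A z) (hu : u ∈ T) (h8 : orderOf u = 8) :
    ((∀ x ∈ T, ∀ y ∈ T, x ∉ A → y ∉ A → x * y ∈ A) ∧ ∀ x ∈ T, x ∉ A → orderOf x = 8) ∨
      ∃ C D, Tw T A C D z := by
  have uA := h.not_mem h8
  by_cases k : ∀ a ∈ A, ⁅u, a⁆ * ⁅u, a⁆ = 1
  · refine Or.inl ⟨fun x hx y hy => h.out' hx hy, fun x hx l => (h.ord8 hx l).2 ?_⟩
    have := h.out' hx (inv_mem hu) l (by rwa [inv_mem_iff])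
    rw [← inv_mul_cancel_right x u, h.pow4 hu uA this, k _ this, one_mul]
    exact (h.ord8 hu uA).1 h8
  push Not at k
  obtain ⟨a₀, ha₀, k⟩ := k
  replace k := (h.sq _ (h.wA hu ha₀)).resolve_left k
  obtain ⟨C, D, hC, hD, e⟩ := h.exists_CD hu
  have ZD : zpowers z ≤ D := fun x hx => (hD x).2 ⟨1, one_mem _, by simpa using hx⟩
  have wD : ∀ s ∈ T, s ∉ A → ∀ a ∈ A, ⁅s, a⁆ ∈ D := fun s hs l a ha => (hD _).2 ⟨a, ha, h.indep hu uA hs l ha⟩
  have DC : D ≤ C := fun d hd => by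
    obtain ⟨a, ha, l⟩ := (hD d).1 hd
    refine (mul_mem_cancel_left (inv_mem ((hC _).2 ⟨h.wA hu ha, h.ww hu uA ha⟩))).1
      ((hC _).2 ⟨zpowers_le.2 h.zA l, ?_⟩)
    rw [commutatorElement_eq_one_iff_commute.2 (h.cen l hu)]; exact one_mem _
  refine Or.inr ⟨C, D, h, fun _ => h.zT', fun x hx y hy => h.out' hx hy, fun a => (hC a).trans
    (and_congr_right fun ha => ⟨fun l x hx => (h.cm_iff (h.le ha)).1 ?_,
      fun l => (h.cm_iff (h.le ha)).2 (l u hu)⟩), DC, ZD (mem_zpowers z), fun x hx y hy => ?_,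
    fun s hs l d hd => ?_, fun c hc d hd => ?_, ?_, ⟨_, wD u hu uA a₀ ha₀, k⟩, fun s hs _ a ha => h.aw' hs ha,
    u, hu, h8⟩
  · by_cases m : x ∈ A
    exacts [h.cmZ m ha, (mul_mem_cancel_left (inv_mem l)).1 (h.indep hu uA hx m ha)]
  · by_cases m : x ∈ A <;> by_cases m' : y ∈ A
    · exact ZD (h.cmZ m m')
    · exact commutatorElement_inv y x ▸ inv_mem (wD y hy m' x m)
    · exact wD x hx m y m'
    · convert wD x hx m _ (h.out' hy (inv_mem hx) m' (by rwa [inv_mem_iff])) using 1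
      simp only [commutatorElement_def]; group
  · obtain ⟨a, ha, m⟩ := (hD d).1 hd
    have := mul_mem (h.indep hs l hu uA ha) m
    rw [mul_assoc, mul_inv_cancel_left, h.memZ, inv_mul_eq_iff_eq_mul, inv_mul_eq_iff_eq_mul, mul_one] at this
    exact ⟨a, ha, this⟩
  · obtain ⟨a, ha, m⟩ := (hD d).1 hd
    obtain ⟨c1, c2⟩ := (hC c).1 hc
    have := (h.cd hu ha c1 c2).symm.mul_right (h.cen m (h.le c1))
    rwa [mul_inv_cancel_left] at this
  · have o : orderOf ⁅u, a₀⁆ = 4 := orderOf_eq_prime_pow (p := 2) (n := 1) (by rw [pow_one, pow_two, k]; exact h.z1)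
      (h.four (h.wA hu ha₀))
    obtain ⟨m, hm⟩ := o ▸ D.orderOf_dvd_natCard (wD u hu uA a₀ ha₀)
    have := card_le_of_le DC
    have : m < 3 := by nlinarith
    rw [hm] at e ⊢
    interval_cases m <;> omega

theorem Tw.n8 (h : Tw T A C D z) : Nat.card {x : G // x ∈ T ∧ orderOf x = 8} = 2 ^ 5 := by
  obtain ⟨u, hu, h8⟩ := h.u8
  have k := h.toTwo
  have uA := k.not_mem h8
  let θ : A →* G := MonoidHom.mk' (fun a => ⁅u, a.1⁆ * ⁅u, a.1⁆) fun a b => by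
    have c := k.cd hu a.2 (k.wA hu b.2) (k.ww hu uA b.2)
    have l := k.w_mul hu a.2 b.2
    rw [← c.symm.mul_mul_mul_comm, ← mul_inv_cancel_left ⁅u, a.1 * b.1⁆ (⁅u, a.1⁆ * ⁅u, b.1⁆),
      (k.cen l (k.le (k.wA hu (mul_mem a.2 b.2)))).symm.mul_mul_mul_comm, k.zz l, mul_one, coe_mul]
  have r : θ.range = zpowers z := le_antisymm (by rintro _ ⟨a, rfl⟩; exact k.sqZ (k.wA hu a.2)) (by
    obtain ⟨w, hw, e⟩ := h.w4
    obtain ⟨a, ha, rfl | rfl⟩ := h.Dw u hu uA w hw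
    · exact zpowers_le.2 ⟨⟨a, ha⟩, e⟩
    · rw [(show Commute _ z from k.zT' (k.le (k.wA hu ha))).symm.mul_mul_mul_comm, k.z2, mul_one] at e
      exact zpowers_le.2 ⟨⟨a, ha⟩, e⟩)
  have e := θ.ker.card_mul_index
  rw [index_ker, r, k.cardZ, k.cA] at e
  have u4 : u ^ 4 = z := by
    have := k.sq _ (k.out' hu hu uA uA)
    rw [← pow_two, ← pow_two, ← pow_mul] at this
    exact this.resolve_left ((k.ord8 hu uA).1 h8)
  have key : ∀ a ∈ A, orderOf (a * u) = 8 ↔ ⁅u, a⁆ * ⁅u, a⁆ = 1 := fun a ha => by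
    rw [k.ord8 (mul_mem (k.le ha) hu) (by rwa [mul_mem_cancel_left ha]), k.pow4 hu uA ha, u4]
    rcases k.sq _ (k.wA hu ha) with l | l <;> simp [l, k.z1, k.z2]
  rw [show 2 ^ 5 = Nat.card θ.ker by omega]
  refine (Nat.card_eq_of_bijective (fun a : θ.ker => (⟨a.1.1 * u, mul_mem (k.le a.1.2) hu,
    (key _ a.1.2).2 a.2⟩ : {x : G // x ∈ T ∧ orderOf x = 8})) ⟨fun a b l =>
      Subtype.ext (Subtype.ext (mul_right_cancel (congrArg Subtype.val l))), fun ⟨x, hx, l⟩ => ?_⟩).symm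
  have := k.out' hx (inv_mem hu) (k.not_mem l) (by rwa [inv_mem_iff])
  exact ⟨⟨⟨_, this⟩, (key _ this).1 (by rwa [inv_mul_cancel_right])⟩, Subtype.ext (inv_mul_cancel_right x u)⟩

end

end Cfsg.Lib.A10S
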