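import Cfsg.Agent.A10S.Defs

/-!
# The second case: large abelian and elementary abelian subgroups of `A`
-/

set_option autoImplicit false

namespace Cfsg.Lib.A10S

open Subgroup
open scoped commutatorElement

universe u

variable {G : Type u} [Group G] [Finite G]

namespace TwB

variable {T A B C D H K : Subgroup G} {a b c x y z : G}

omit [Finite G] in
theorem card_rel (K H : Subgroup G) : Nat.card ↥(K ⊓ H) * K.relIndex H = Nat.card H := by
  rw [← inf_relIndex_right, ← relIndex_bot_left, ← relIndex_bot_left]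
  exact relIndex_mul_relIndex ⊥ _ _ bot_le inf_le_right

theorem dbl (h : K ≤ H) (h1 : y ∈ H) (h2 : y ∉ K) : 2 * Nat.card K ≤ Nat.card H := by
  obtain ⟨m, hm⟩ := card_dvd_of_le h
  have h3 := Nat.card_pos (α := H)
  have h4 : m ≠ 1 := fun e => h2 (eq_of_le_of_card_ge h (by rw [hm, e, mul_one]) ▸ h1)
  have h5 : m ≠ 0 := fun e => by simp [hm, e] at h3
  rw [hm, mul_comm]
  exact Nat.mul_le_mul_left _ (by omega)

omit [Finite G] in
theorem half (h : ∀ a ∈ H, ∀ b ∈ H, a ∉ K → b ∉ K → a * b ∈ K) :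
    Nat.card H ≤ 2 * Nat.card ↥(K ⊓ H) := by
  have h1 : K.relIndex H ∣ 2 := by
    refine index_dvd_two_iff.2 ?_
    by_cases e : ∃ a ∈ H, a ∉ K
    · obtain ⟨a, h1, h2⟩ := e
      exact ⟨⟨a, h1⟩, fun b => or_iff_not_imp_right.2 fun e => h _ b.2 a h1 e h2⟩
    · push Not at e
      exact ⟨1, fun b => .inr (e _ b.2)⟩
  rw [← card_rel K H, mul_comm]
  exact Nat.mul_le_mul_right _ (Nat.le_of_dvd two_pos h1)

theorem mul_mem_of_card (h : K ≤ H) (h1 : Nat.card H = 2 * Nat.card K) (ha : a ∈ H) (hb : b ∈ H)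
    (h2 : a ∉ K) (h3 : b ∉ K) : a * b ∈ K := by
  have h4 := card_rel K H
  rw [inf_eq_left.2 h, h1, mul_comm] at h4
  have h5 : (K.subgroupOf H).index = 2 := Nat.eq_of_mul_eq_mul_right Nat.card_pos h4
  exact (mul_mem_iff_of_index_two h5 (a := ⟨a, ha⟩) (b := ⟨b, hb⟩)).2 (iff_of_false h2 h3)

theorem card_sup (K H : Subgroup G) :
    Nat.card K * Nat.card H ≤ Nat.card ↥(K ⊓ H) * Nat.card ↥(K ⊔ H) := by
  have h1 := card_rel K (K ⊔ H)
  rw [inf_eq_left.2 le_sup_left] at h1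
  have h2 : K.relIndex H ≤ K.relIndex (K ⊔ H) :=
    relIndex_le_of_le_right le_sup_right index_ne_zero_of_finite
  rw [← h1, ← card_rel K H, mul_left_comm]
  exact Nat.mul_le_mul_left _ (Nat.mul_le_mul_left _ h2)

/-- The centre of `A`. -/
def Zn (A : Subgroup G) : Subgroup G := centralizer A ⊓ A

theorem Zn_eq_1' : type_of% @Zn.eq_1 := @Zn.eq_1

omit [Finite G] in
theorem mem_Zn : c ∈ Zn A ↔ (∀ a ∈ A, a * c = c * a) ∧ c ∈ A := Iff.rfl

omit [Finite G] in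
theorem mem_c : c ∈ centralizer ({a} : Set G) ↔ c * a = a * c := mem_centralizer_singleton_iff

omit [Finite G] in
theorem comm_iff : ⁅a, b⁆ = 1 ↔ a * b = b * a := commutatorElement_eq_one_iff_mul_comm

variable (h : Tw T A C D z)
include h

omit [Finite G] in
theorem zc (ha : a ∈ A) : a * z = z * a := h.zT a (h.le ha)

omit [Finite G] in
theorem CA : C ≤ A := fun c hc => ((h.memC c).1 hc).1

omit [Finite G] in
theorem eq_z (ha : a ∈ A) (hb : b ∈ A) (e : a * b ≠ b * a) : ⁅a, b⁆ = z :=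
  (h.cm a ha b hb).resolve_left fun e' => e (comm_iff.1 e')

omit [Finite G] in
theorem ne_of_z (e : ⁅a, b⁆ = z) : a * b ≠ b * a := fun e' => h.z1 (e.symm.trans (comm_iff.2 e'))

omit [Finite G] in
theorem nc (ha : a ∈ A) (hx : x ∈ A) (hy : y ∈ A) (h1 : x * a ≠ a * x) (h2 : y * a ≠ a * y) :
    x * y * a = a * (x * y) := by
  have e1 : x * a = z * (a * x) := by rw [← eq_z h hx ha h1, commutatorElement_def]; group
  have e2 : y * a = z * (a * y) := by rw [← eq_z h hy ha h2, commutatorElement_def]; group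
  rw [mul_assoc, e2, ← mul_assoc, zc h hx, mul_assoc, ← mul_assoc x, e1, ← mul_assoc, ← mul_assoc,
    ← mul_assoc, h.z2, one_mul, mul_assoc]

omit [Finite G] in
theorem halfc (hH : H ≤ A) (ha : a ∈ A) :
    Nat.card H ≤ 2 * Nat.card ↥(centralizer ({a} : Set G) ⊓ H) :=
  half fun _ hx _ hy h1 h2 => mem_c.2 (nc h ha (hH hx) (hH hy) (mt mem_c.2 h1) (mt mem_c.2 h2))

theorem ab (hB : B ≤ A) (h1 : 32 ≤ Nat.card B) (h2 : ∀ a ∈ B, ∀ b ∈ B, a * b = b * a) :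
    16 ≤ Nat.card ↥(Zn A ⊓ B) := by
  obtain ⟨x, hx, h3⟩ : ∃ x ∈ A, x ∉ B := by
    by_contra e
    push Not at e
    obtain ⟨a, ha, b, hb, e1⟩ := h.na
    exact ne_of_z h e1 (h2 a (e a ha) b (e b hb))
  have h4 := halfc h hB hx
  refine le_trans (by omega) (card_le_of_le (H := centralizer ({x} : Set G) ⊓ B) fun c hc =>
    ⟨⟨fun a ha => ?_, hB hc.2⟩, hc.2⟩)
  have h5 : B ⊔ zpowers x = A := eq_of_le_of_card_ge (sup_le hB (zpowers_le.2 hx)) (by
    have := dbl (le_sup_left : B ≤ B ⊔ zpowers x) (mem_sup_right (mem_zpowers x)) h3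
    have := h.cA
    omega)
  have h6 : B ⊔ zpowers x ≤ centralizer ({c} : Set G) :=
    sup_le (fun b hb => mem_c.2 (h2 b hb c hc.2)) (zpowers_le.2 (mem_c.2 (mem_c.1 hc.1).symm))
  exact mem_c.1 (h6 (h5 ▸ ha))

theorem step (hH : H ≤ A) (hz : z ∈ H) (e : ∃ a ∈ H, ∃ b ∈ H, a * b ≠ b * a) :
    ∃ K ≤ H, z ∈ K ∧ Nat.card H = 4 * Nat.card K ∧
      ∀ c ∈ K, (∀ x ∈ K, x * c = c * x) → ∀ x ∈ H, x * c = c * x := by
  obtain ⟨a, ha, b, hb, e⟩ := e
  refine ⟨centralizer ({b} : Set G) ⊓ (centralizer ({a} : Set G) ⊓ H), inf_le_right.trans inf_le_right,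
    ⟨mem_c.2 (zc h (hH hb)).symm, mem_c.2 (zc h (hH ha)).symm, hz⟩, ?_, fun c hc h1 => ?_⟩
  · have h1 := halfc h hH (hH ha)
    have h2 := halfc h (inf_le_right.trans hH : centralizer ({a} : Set G) ⊓ H ≤ A) (hH hb)
    have h3 := dbl (inf_le_right : centralizer ({a} : Set G) ⊓ H ≤ H) hb fun k => e (mem_c.1 k.1).symm
    have h4 := dbl (inf_le_right : centralizer ({b} : Set G) ⊓ (centralizer ({a} : Set G) ⊓ H) ≤ _)
      (y := a) ⟨mem_c.2 rfl, ha⟩ fun k => e (mem_c.1 k.1)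
    omega
  have ca : a ∈ centralizer ({c} : Set G) := mem_c.2 (mem_c.1 hc.2.1).symm
  have cb : b ∈ centralizer ({c} : Set G) := mem_c.2 (mem_c.1 hc.1).symm
  have h2 : ∀ x ∈ H, x * a = a * x → x ∈ centralizer ({c} : Set G) := fun x hx e1 => by
    by_cases e2 : x * b = b * x
    · exact mem_c.2 (h1 x ⟨mem_c.2 e2, mem_c.2 e1, hx⟩)
    · exact (mul_mem_cancel_right ca).1 (mem_c.2 (h1 _ ⟨mem_c.2 (nc h (hH hb) (hH hx) (hH ha) e2 e),
        mul_mem (mem_c.2 e1) (mem_c.2 rfl), mul_mem hx ha⟩))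
  intro x hx
  by_cases e1 : x * a = a * x
  · exact mem_c.1 (h2 x hx e1)
  · exact mem_c.1 ((mul_mem_cancel_right cb).1 (h2 _ (mul_mem hx hb)
      (nc h (hH ha) (hH hx) (hH hb) e1 e.symm)))

omit [Finite G] in
theorem sq_mul (ha : a ∈ A) (hb : b ∈ A) (e : a * b = b * a) (h1 : a * a ≠ 1) (h2 : b * b ≠ 1) :
    a * b * (a * b) = 1 := by
  rw [mul_assoc, ← mul_assoc b, ← e, mul_assoc, ← mul_assoc, (h.sq a ha).resolve_left h1,
    (h.sq b hb).resolve_left h2, h.z2]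

/-- The elements of order at most two of `D`. -/
theorem exists_U : ∃ U : Subgroup G, (∀ d, d ∈ U ↔ d ∈ D ∧ d * d = 1) ∧
    Nat.card D = 2 * Nat.card U := by
  have hD : ∀ a ∈ D, ∀ b ∈ D, a * b = b * a := fun a ha => h.CD a (h.DC ha)
  let U : Subgroup G :=
    { carrier := {d | d ∈ D ∧ d * d = 1}
      one_mem' := ⟨one_mem _, one_mul _⟩
      mul_mem' := fun {a b} ha hb => ⟨mul_mem ha.1 hb.1, by
        rw [mul_assoc, ← mul_assoc b, ← hD a ha.1 b hb.1, mul_assoc, ← mul_assoc, ha.2, hb.2, one_mul]⟩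
      inv_mem' := fun {a} ha => ⟨inv_mem ha.1, by rw [← mul_inv_rev, ha.2, inv_one]⟩ }
  have h1 : U ≤ D := fun _ k => k.1
  obtain ⟨w, hw, e⟩ := h.w4
  have h2 := dbl h1 hw fun k => h.z1 (e.symm.trans k.2)
  have h3 := half (H := D) (K := U) fun a ha b hb k1 k2 => ⟨mul_mem ha hb,
    sq_mul h (CA h (h.DC ha)) (CA h (h.DC hb)) (hD a ha b hb) (fun e => k1 ⟨ha, e⟩) fun e => k2 ⟨hb, e⟩⟩
  rw [inf_eq_left.2 h1] at h3
  exact ⟨U, fun _ => Iff.rfl, le_antisymm h3 h2⟩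

end TwB

section
variable {T A C D : Subgroup G} {a t u z : G}

open TwB

omit [Finite G] in
theorem TwB.conj_A (h : Tw T A C D z) {y : G} (hy : y ∈ A) (h3 : a ∈ A) :
    y * a * y⁻¹ = a ∨ y * a * y⁻¹ = a * z := by
  refine (h.cm y hy a h3).imp (fun e => ?_) fun e => ?_
  · rw [comm_iff.1 e, mul_inv_cancel_right]
  · rw [zc h h3, ← e, commutatorElement_def, inv_mul_cancel_right]

set_option linter.unusedSectionVars false in
theorem Tw.centA (h : Tw T A C D z) (h1 : t ∈ T) (h2 : t ∉ A) (h3 : a ∈ A) (h4 : a * t = t * a) :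
    a ∈ C := by
  refine (h.memC a).2 ⟨h3, fun x hx => ?_⟩
  by_cases e : x ∈ A
  · exact conj_A h e h3
  have := conj_A h (h.out x hx t h1 e h2) h3
  rwa [mul_assoc x, ← h4, mul_inv_rev, ← mul_assoc, ← mul_assoc, mul_inv_cancel_right] at this

theorem Tw.Ccomm (h : Tw T A C D z) (h1 : Nat.card C = 16) : ∀ a ∈ C, ∀ b ∈ C, a * b = b * a := by
  intro a ha b hb
  by_cases e1 : a ∈ D
  · exact (h.CD b hb a e1).symm
  by_cases e2 : b ∈ D
  · exact h.CD a ha b e2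
  have h2 := h.card
  have h3 := h.CD a ha _ (mul_mem_of_card h.DC (by omega) ha hb e1 e2)
  rw [mul_assoc] at h3
  exact mul_left_cancel h3

theorem Tw.r1 (h : Tw T A C D z) (hc : ∀ c ∈ C, c * c = 1 → (∀ a ∈ A, a * c = c * a) → c ∈ D)
    (h1 : Nat.card C = 32) :
    (∀ B ≤ A, 32 ≤ Nat.card B → ∃ a ∈ B, ∃ b ∈ B, ⁅a, b⁆ = z) ∧
      ∀ E ≤ A, (∀ e ∈ E, e * e = 1) → Nat.card E ≤ 8 := by
  obtain ⟨U, hU, c1⟩ := exists_U h
  have c2 := h.card
  have c3 : Nat.card U = 2 := by omega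
  have zU : z ∈ U := (hU z).2 ⟨h.zD, h.z2⟩
  have h2 : ∀ d ∈ U, d = 1 ∨ d = z := fun d hd => by
    have e := eq_of_le_of_card_ge (zpowers_le.2 zU) (by
      have := dbl (bot_le : ⊥ ≤ zpowers z) (mem_zpowers z) h.z1
      rw [card_bot] at this
      omega)
    rw [← e] at hd
    obtain ⟨k, rfl⟩ := hd
    have h3 : z ^ (2 : ℤ) = 1 := by rw [zpow_two, h.z2]
    rcases Int.even_or_odd' k with ⟨m, rfl | rfl⟩
    · exact .inl (by simp only [zpow_mul, h3, one_zpow])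
    · exact .inr (by simp only [zpow_add, zpow_mul, h3, one_zpow, one_mul, zpow_one])
  have h3 : ∀ c ∈ Zn A, c ∈ C := fun c ⟨k1, k2⟩ => (h.memC c).2 ⟨k2, fun x hx => by
    by_cases e : x ∈ A
    · exact conj_A h e k2
    have k3 := h.cmD x hx c (h.le k2)
    have k4 := h.aw x hx e c k2
    rw [comm_iff.2 (k1 _ (CA h (h.DC k3))).symm] at k4
    refine (h2 _ ((hU _).2 ⟨k3, k4.symm⟩)).imp (fun e => ?_) fun e => ?_
    · rw [comm_iff.1 e, mul_inv_cancel_right]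
    · rw [zc h k2, ← e, commutatorElement_def, inv_mul_cancel_right]⟩
  have h4 : ∀ c ∈ Zn A, c * c = 1 → c ∈ U := fun c k e => (hU c).2 ⟨hc c (h3 c k) e k.1, e⟩
  have h5 : Nat.card (Zn A) ≤ 4 := by
    have k1 := half (H := Zn A) (K := U) fun a ha b hb k1 k2 => h4 _ (mul_mem ha hb)
      (sq_mul h ha.2 hb.2 (hb.1 a ha.2) (fun e => k1 (h4 a ha e)) fun e => k2 (h4 b hb e))
    have k2 := card_le_of_le (inf_le_left : U ⊓ Zn A ≤ U)
    omega
  have h6 : ∀ B ≤ A, 32 ≤ Nat.card B → ∃ a ∈ B, ∃ b ∈ B, a * b ≠ b * a := fun B hB k => by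
    by_contra e
    push Not at e
    have k1 := ab h hB k e
    have k2 := card_le_of_le (inf_le_left : Zn A ⊓ B ≤ Zn A)
    omega
  refine ⟨fun B hB k => ?_, fun E hE k => ?_⟩
  · obtain ⟨a, ha, b, hb, e⟩ := h6 B hB k
    exact ⟨a, ha, b, hb, eq_z h (hB ha) (hB hb) e⟩
  have cA := h.cA
  obtain ⟨A1, l1, z1, d1, e1⟩ := step h le_rfl h.zA (h6 A le_rfl (by omega))
  obtain ⟨A2, l2, z2, d2, e2⟩ := step h l1 z1 (by
    by_contra e
    push Not at e
    have := card_le_of_le (H := A1) (K := Zn A) fun c k => ⟨e1 c k fun x hx => e x hx c k, l1 k⟩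
    omega)
  have h7 : A2 ≤ Zn A := by
    by_contra e
    obtain ⟨A3, -, z3, d3, -⟩ := step h (l2.trans l1) z2 (by
      by_contra e'
      push Not at e'
      exact e fun c k => ⟨e1 c (l2 k) (e2 c k fun x hx => e' x hx c k), l1 (l2 k)⟩)
    have := dbl (bot_le : ⊥ ≤ A3) z3 h.z1
    rw [card_bot] at this
    omega
  obtain ⟨r, r1, r2⟩ : ∃ r ∈ A2, r ∉ U := by
    by_contra e
    push Not at e
    have := card_le_of_le (H := A2) (K := U) e
    omega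
  have r3 := h7 r1
  have h8 : ∀ a ∈ E, ∀ b ∈ E, a * b = b * a := fun a ha b hb => by
    rw [← inv_inj, mul_inv_rev, inv_eq_of_mul_eq_one_right (k a ha),
      inv_eq_of_mul_eq_one_right (k b hb), inv_eq_of_mul_eq_one_right (k _ (mul_mem hb ha))]
  by_contra e
  have h9 : 16 ≤ Nat.card E := by
    have k1 : Nat.card E ∣ 2 ^ 6 := (card_dvd_of_le hE).trans cA.dvd
    obtain ⟨i, hi, e'⟩ := (Nat.dvd_prime_pow Nat.prime_two).1 k1
    rw [e'] at e ⊢
    interval_cases i <;> omega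
  have k1 := dbl (le_sup_left : E ≤ E ⊔ zpowers r) (mem_sup_right (mem_zpowers r))
    fun k' => r2 (h4 r r3 (k r k'))
  have k2 : E ⊔ zpowers r ≤ A := sup_le hE (zpowers_le.2 r3.2)
  obtain ⟨a, ha, b, hb, e'⟩ := h6 _ k2 (by omega)
  have k3 : E ⊔ zpowers r ≤ centralizer ({b} : Set G) := by
    refine sup_le (fun x hx => mem_c.2 (mem_c.1 ?_).symm) (zpowers_le.2 (mem_c.2 (r3.1 b (k2 hb)).symm))
    exact (sup_le (fun y hy => mem_c.2 (h8 y hy x hx)) (zpowers_le.2 (mem_c.2 (r3.1 x (hE hx)).symm)) :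
      E ⊔ zpowers r ≤ _) hb
  exact e' (mem_c.1 (k3 ha))

theorem Tw.r2 (h : Tw T A C D z) (hc : ∀ c ∈ C, c * c = 1 → (∀ a ∈ A, a * c = c * a) → c ∈ D)
    (h1 : Nat.card C = 16) :
    (∃ c ∈ C, c * c = z ∧ ∀ a ∈ A, a * c = c * a) ∨
      ((∀ d ∈ D, d * d = 1 → ∀ a ∈ A, a * d = d * a) ∧
        ∀ B ≤ A, 32 ≤ Nat.card B → ∃ a ∈ B, ∃ b ∈ B, ⁅a, b⁆ = z) := by
  refine or_iff_not_imp_left.2 fun hn => ?_
  obtain ⟨U, hU, c1⟩ := exists_U h
  have c2 := h.card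
  have cA := h.cA
  have hC := h.Ccomm h1
  have h2 : Zn A ⊓ C ≤ U := fun c k => by
    have e : c * c = 1 := (h.sq c k.1.2).resolve_right fun e => hn ⟨c, k.2, e, k.1.1⟩
    exact (hU c).2 ⟨hc c k.2 e k.1.1, e⟩
  obtain ⟨a1, m1, n1⟩ : ∃ a ∈ A, a ∉ C := by
    by_contra e
    push Not at e
    have := card_le_of_le (H := A) (K := C) e
    omega
  have l1 : C ⊔ zpowers a1 ≤ A := sup_le (CA h) (zpowers_le.2 m1)
  have d1 := dbl (le_sup_left : C ≤ C ⊔ zpowers a1) (mem_sup_right (mem_zpowers a1)) n1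
  obtain ⟨a2, m2, n2⟩ : ∃ a ∈ A, A ≤ C ⊔ zpowers a1 ⊔ zpowers a := by
    by_cases e : A ≤ C ⊔ zpowers a1
    · exact ⟨1, one_mem _, e.trans le_sup_left⟩
    obtain ⟨a, m, n⟩ := SetLike.not_le_iff_exists.1 e
    have := dbl (le_sup_left : _ ≤ C ⊔ zpowers a1 ⊔ zpowers a) (mem_sup_right (mem_zpowers a)) n
    exact ⟨a, m, (eq_of_le_of_card_ge (sup_le l1 (zpowers_le.2 m)) (by omega)).ge⟩
  have h3 : centralizer ({a2} : Set G) ⊓ (centralizer ({a1} : Set G) ⊓ C) ≤ Zn A ⊓ C := fun c k =>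
    ⟨⟨fun a ha => mem_c.1 ((sup_le (sup_le (fun x hx => mem_c.2 (hC x hx c k.2.2))
      (zpowers_le.2 (mem_c.2 (mem_c.1 k.2.1).symm))) (zpowers_le.2 (mem_c.2 (mem_c.1 k.1).symm)) :
        C ⊔ zpowers a1 ⊔ zpowers a2 ≤ _) (n2 ha)), CA h k.2.2⟩, k.2.2⟩
  have h4 : Zn A ⊓ C = U := eq_of_le_of_card_ge h2 (by
    have k1 := halfc h (CA h) m1
    have k2 := halfc h (inf_le_right.trans (CA h) : centralizer ({a1} : Set G) ⊓ C ≤ A) m2
    have k3 := card_le_of_le h3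
    omega)
  refine ⟨fun d hd e => (h4.ge ((hU d).2 ⟨hd, e⟩)).1.1, fun B hB k => ?_⟩
  by_contra e
  have k1 := ab h hB k fun a ha b hb => by_contra fun e' =>
    e ⟨a, ha, b, hb, eq_z h (hB ha) (hB hb) e'⟩
  have k2 := card_le_of_le (inf_le_left : Zn A ⊓ B ≤ Zn A)
  have k3 := card_sup (Zn A) C
  rw [h4, h1, show Nat.card U = 4 by omega] at k3
  have k4 : Zn A ⊔ C = A := eq_of_le_of_card_ge (sup_le inf_le_right (CA h)) (by omega)
  have k5 : C ≤ Zn A := fun c hc' => ⟨fun a ha => mem_c.1 ((sup_le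
    (fun x hx => mem_c.2 (hx.1 c (CA h hc')).symm) fun x hx => mem_c.2 (hC x hx c hc') :
      Zn A ⊔ C ≤ _) (k4.ge ha)), CA h hc'⟩
  rw [sup_eq_left.2 k5] at k4
  obtain ⟨a, ha, b, hb, e1⟩ := h.na
  exact ne_of_z h e1 ((k4.ge hb).1 a ha)

end

end Cfsg.Lib.A10S
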