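import Cfsg.Agent.A10S.TwB
import Cfsg.Agent.Local.InvCent

/-!
# The conjugates of `z` in the maximal subgroup `A`
-/

set_option autoImplicit false

namespace Cfsg.Lib.A10S

open Subgroup Cfsg.Lib.Trans Cfsg.Lib.Local
open scoped commutatorElement

universe u

variable {G : Type u} [Group G] [Finite G]

omit [Finite G] in
theorem card_idx {M X : Subgroup G} (h : IdxLeTwo M X) : Nat.card X ≤ 2 * Nat.card ↥(M ⊓ X) := by
  rw [← card_mul_relIndex (inf_le_right : M ⊓ X ≤ X), inf_relIndex_right, mul_comm]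
  by_cases k : X ≤ M
  · rw [relIndex_eq_one.2 k]; omega
  obtain ⟨v, hv, vM⟩ := SetLike.not_le_iff_exists.1 k
  rw [show M.relIndex X = 2 from index_eq_two_iff.2 ⟨⟨v, hv⟩, fun b => by
    have := h.mul_mem_iff b.2 hv
    simp only [mem_subgroupOf, coe_mul, this, vM, iff_false]
    tauto⟩]

theorem ext' (T : Sylow 2 G) {z t : G} (h2 : ∀ x ∈ (T : Subgroup G), x * z = z * x)
    (h3 : IsConj z t) : ∃ g : G, g * t * g⁻¹ = z ∧
      ∀ r ∈ (T : Subgroup G), r * t = t * r → g * r * g⁻¹ ∈ (T : Subgroup G) := by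
  obtain ⟨g, rfl⟩ := isConj_iff.1 h3
  obtain ⟨k, hk, h⟩ := (isSylowIn_of_le T (H := centralizer {z}) fun p hp =>
    mem_centralizer_singleton_iff.2 (h2 p hp)).exists_cj_le
    (isPGroup_cj (T.isPGroup'.to_inf_left (K := centralizer {g * z * g⁻¹})) g⁻¹)
    (cj_le_iff.2 fun x hx => mem_centralizer_singleton_iff.2 (by
      calc g⁻¹ * x * g⁻¹⁻¹ * z = g⁻¹ * (x * (g * z * g⁻¹)) * g := by group
        _ = _ := by rw [mem_centralizer_singleton_iff.1 hx.2]; group))
  rw [← cj_mul] at h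
  refine ⟨k * g⁻¹, ?_, fun r hr e => cj_le_iff.1 h r ⟨hr, mem_centralizer_singleton_iff.2 e⟩⟩
  calc _ = k * z * k⁻¹ := by group
    _ = z := by rw [mem_centralizer_singleton_iff.1 hk]; group

namespace Tw

section
variable {T A C D : Subgroup G} {a d t w x y z : G} (h : Tw T A C D z)
include h

omit [Finite G] in
theorem CA : C ≤ A := fun c hc => ((h.memC c).1 hc).1

omit [Finite G] in
theorem idxA (ht : t ∈ A) : IdxLeTwo (centralizer {t}) A :=
  idxLeTwo_centralizer h.z2 (fun x hx => h.zT x (h.le hx)) fun x hx => by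
    rcases h.cm x hx t ht with e | e
    · exact .inl (by rw [commutatorElement_eq_one_iff_mul_comm.1 e, mul_inv_cancel_right])
    · exact .inr (by rw [← e, commutatorElement_def, inv_mul_cancel_right])

omit [Finite G] in
theorem cardA (ht : t ∈ A) : 32 ≤ Nat.card ↥(centralizer {t} ⊓ A) := by
  have := card_idx (h.idxA ht)
  rw [h.cA] at this
  omega

omit [Finite G] in
theorem w_ord (hw : w * w = z) : orderOf w = 4 := by
  have := Fact.mk Nat.prime_two
  refine orderOf_eq_prime_pow (p := 2) (n := 1) (by rw [pow_one, sq, hw]; exact h.z1) ?_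
  rw [show 2 ^ (1 + 1) = 2 * 2 from rfl, pow_mul, sq w, hw, sq, h.z2]

/-- in rank one the only involution of `D` is `z` -/
theorem inv1 (h1 : Nat.card D = 4) (hd : d ∈ D) (d2 : d * d = 1) (d1 : d ≠ 1) : d = z := by
  obtain ⟨w, hw, w2⟩ := h.w4
  have e : zpowers w = D :=
    eq_of_le_of_card_ge (zpowers_le.2 hw) (by rw [Nat.card_zpowers, h.w_ord w2, h1])
  obtain ⟨n, hn, rfl⟩ : ∃ n < 4, w ^ n = d := by
    classical
    rw [← e, mem_zpowers_iff_mem_range_orderOf, h.w_ord w2] at hd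
    simpa using hd
  have w4 : w ^ 4 = 1 := h.w_ord w2 ▸ pow_orderOf_eq_one w
  interval_cases n
  · exact absurd (pow_zero w) d1
  · rw [pow_one, w2] at d2; exact absurd d2 h.z1
  · rw [sq, w2]
  · rw [← pow_add, show 3 + 3 = 4 + 2 from rfl, pow_add, w4, one_mul, sq, w2] at d2
    exact absurd d2 h.z1

omit [Finite G] in
theorem pow4 (hx : x ∈ T) (h8 : orderOf x = 8) : x ^ 4 = z := by
  rw [show x ^ 4 = (x * x) * (x * x) by rw [← sq, ← sq, ← pow_mul]]
  refine (h.sq _ (IdxLeTwo.mul_self_mem h.out hx)).resolve_left fun e => ?_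
  rw [← sq, ← sq, ← pow_mul] at e
  have := orderOf_dvd_of_pow_eq_one e
  rw [h8] at this
  omega

/-- the centraliser of an element outside `A` in rank two -/
theorem cent32 (h1 : Nat.card C = 16) (hx : x ∈ T) (xA : x ∉ A) {B : Subgroup G} (hB : B ≤ T)
    (hc : ∀ b ∈ B, b * x = x * b) (h32 : 32 ≤ Nat.card B) : C ≤ B := by
  have k1 := card_idx (M := A) (X := B) fun a ha b hb => h.out a (hB ha) b (hB hb)
  have k2 : A ⊓ B ≤ C := fun a ha => h.centA hx xA ha.1 (hc a ha.2)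
  rw [← eq_of_le_of_card_ge k2 (by omega)]
  exact inf_le_right

end

variable {T : Sylow 2 G} {A C D : Subgroup G} {t z : G} (h : Tw (T : Subgroup G) A C D z)
include h

theorem no8 (h1 : IsConj z t) (h2 : t ≠ z) {v : G} (hv : v ∈ (T : Subgroup G))
    (h8 : orderOf v = 8) (hc : v * t = t * v) : False := by
  obtain ⟨g, g1, g2⟩ := ext' T h.zT h1
  have e := h.pow4 (g2 v hv hc) (by rw [← h8]; exact (MulAut.conj g).orderOf_eq v)
  rw [conj_pow, h.pow4 hv h8] at e
  exact h2 (by simpa using g1.trans e.symm)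

theorem za (hc : ∀ c ∈ C, c * c = 1 → (∀ a ∈ A, a * c = c * a) → c ∈ D) :
    ∀ t ∈ A, IsConj z t → t = z := by
  have key : ∀ t ∈ A, IsConj z t → t ≠ z → ∃ g : G, g * t * g⁻¹ = z ∧ g * z * g⁻¹ ≠ z ∧
      g * z * g⁻¹ ≠ 1 ∧ g * z * g⁻¹ * (g * z * g⁻¹) = 1 ∧
      cj g (centralizer {t} ⊓ A) ≤ (T : Subgroup G) ∧
      ((∀ B ≤ A, 32 ≤ Nat.card B → ∃ a ∈ B, ∃ b ∈ B, ⁅a, b⁆ = z) → g * z * g⁻¹ ∈ D) := by
    intro t ht h1 h2
    obtain ⟨g, g1, g2⟩ := ext' T h.zT h1
    have g3 := fun r (hr : r ∈ centralizer {t} ⊓ A) =>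
      g2 r (h.le hr.2) (mem_centralizer_singleton_iff.1 hr.1)
    refine ⟨g, g1, fun e => h2 (by simpa using g1.trans e.symm), by simpa using h.z1,
      by rw [conj_mul, h.z2]; simp, cj_le_iff.2 g3, fun k => ?_⟩
    obtain ⟨a, ha, b, hb, e⟩ := k _ inf_le_right (h.cardA ht)
    rw [← e, conjugate_commutatorElement]
    exact h.cmD _ (g3 a ha) _ (g3 b hb)
  intro t ht h1
  by_contra h2
  obtain ⟨g, g1, g2, g3, g4, g5, g6⟩ := key t ht h1 h2
  rcases h.card with ⟨k1, k2⟩ | ⟨k1, k2⟩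
  · exact g2 (h.inv1 k2 (g6 (h.r1 hc k1).1) g4 g3)
  rcases h.r2 hc k1 with ⟨c, c1, c2, c3⟩ | ⟨k3, k4⟩
  · have m : c ∈ centralizer {t} ⊓ A := ⟨mem_centralizer_singleton_iff.2 (c3 t ht).symm, h.CA c1⟩
    have xA : g * c * g⁻¹ ∉ A := fun e => by
      have := h.sq _ e
      rw [conj_mul, c2] at this
      tauto
    have := h.cent32 k1 (cj_le_iff.1 g5 c m) xA g5 (fun b hb => by
      obtain ⟨a, ha, rfl⟩ := hb
      change g * a * g⁻¹ * _ = _ * (g * a * g⁻¹)
      rw [conj_mul, conj_mul, c3 a ha.2]) (by rw [card_cj]; exact h.cardA ht) c1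
    obtain ⟨a, ha, e⟩ := this
    change g * a * g⁻¹ = c at e
    rw [← e, conj_mul] at c2
    rcases h.sq a ha.2 with k | k <;> rw [k] at c2
    · exact h.z1 (by simpa using c2.symm)
    · exact g2 c2
  · have y1 := g6 k4
    have yc : IsConj z (g * z * g⁻¹) := isConj_iff.2 ⟨g, rfl⟩
    obtain ⟨f, f1, f2, f3, f4, f5, f6⟩ := key _ (h.CA (h.DC y1)) yc g2
    have e : centralizer {g * z * g⁻¹} ⊓ A = A := inf_eq_right.2 fun a ha =>
      mem_centralizer_singleton_iff.2 (k3 _ y1 g4 a ha)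
    rw [e] at f5
    have fA : ∀ a ∈ A, f * a * f⁻¹ ∈ A := fun a ha => by
      by_contra k
      obtain ⟨v, hv, v8⟩ := h.u8
      have c1 : f * a * f⁻¹ * (f * z * f⁻¹) = f * z * f⁻¹ * (f * a * f⁻¹) := by
        rw [conj_mul, conj_mul, h.zT a (h.le ha)]
      refine h.no8 (isConj_iff.2 ⟨f, rfl⟩) f2 hv v8 ?_
      by_cases vA : v ∈ A
      · exact k3 _ (f6 k4) f4 v vA
      · have c2 := k3 _ (f6 k4) f4 _ (h.out v hv _ (cj_le_iff.1 f5 a ha) vA k)
        rw [mul_assoc, c1, ← mul_assoc, ← mul_assoc] at c2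
        exact mul_right_cancel (mul_right_cancel (mul_right_cancel
          (show v * (f * z * f⁻¹) * f * a * f⁻¹ = f * z * f⁻¹ * v * f * a * f⁻¹ by
            simpa only [mul_assoc] using c2)))
    obtain ⟨a, ha, b, hb, e⟩ := h.na
    have := h.cm _ (fA a ha) _ (fA b hb)
    rw [← conjugate_commutatorElement, e] at this
    tauto

end Tw

end Cfsg.Lib.A10S
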