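import Cfsg.Agent.A10S.ZA

/-!
# The conjugates of `z` outside the maximal subgroup `A`
-/

set_option autoImplicit false

namespace Cfsg.Lib.A10S

open Subgroup Cfsg.Lib.Trans Cfsg.Lib.Local
open scoped commutatorElement

universe u

variable {G : Type u} [Group G] [Finite G]

namespace Tw

section
variable {T A C D : Subgroup G} {a d t w x y z : G} (h : Tw T A C D z)
include h

omit [Finite G] in
theorem cardC (ht : t ∈ T) : Nat.card C ≤ 2 * Nat.card ↥(centralizer {t} ⊓ C) :=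
  card_idx (idxLeTwo_centralizer h.z2 (fun x hx => h.zT x (h.le (h.CA hx))) fun x hx => by
    have xT := h.le (h.CA hx)
    rcases ((h.memC x).1 hx).2 t⁻¹ (inv_mem ht) with e | e
    · refine .inl ?_
      calc x * t * x⁻¹ = t * (t⁻¹ * x * t⁻¹⁻¹) * x⁻¹ := by group
        _ = t := by rw [e]; group
    · refine .inr ?_
      calc x * t * x⁻¹ = t * (t⁻¹ * x * t⁻¹⁻¹) * x⁻¹ := by group
        _ = z * t := by rw [e, h.zT x xT, ← h.zT t ht]; group)

/-- in rank two, if the centraliser in `C` of `t` is elementary it contains all involutions -/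
theorem comm_of (h1 : Nat.card C = 16) (ht : t ∈ T)
    (h2 : ∀ c ∈ C, c * t = t * c → c * c = 1) (hd : d ∈ C) (d2 : d * d = 1) :
    d * t = t * d := by
  by_contra k
  obtain ⟨w, hw, w2⟩ := h.w4
  have k1 := h.cardC ht
  have hE : centralizer {t} ⊓ C ⊔ zpowers d ≤ C := sup_le inf_le_right (zpowers_le.2 hd)
  have k2 : Nat.card ↥(centralizer {t} ⊓ C) < Nat.card ↥(centralizer {t} ⊓ C ⊔ zpowers d) :=
    card_lt_of_lt (lt_of_le_of_ne le_sup_left fun e => k (mem_centralizer_singleton_iff.1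
      (show d ∈ centralizer {t} ⊓ C from e ▸ mem_sup_right (mem_zpowers d)).1))
  obtain ⟨m, hm⟩ := card_dvd_of_le (le_sup_left : centralizer {t} ⊓ C ≤ _ ⊔ zpowers d)
  have k3 := Subgroup.card_le_of_le hE
  have k4 : centralizer {t} ⊓ C ⊔ zpowers d = C := eq_of_le_of_card_ge hE (by
    rcases m with _ | _ | m
    · omega
    · omega
    · nlinarith)
  have sq : ∀ c ∈ centralizer {t} ⊓ C ⊔ zpowers d, c * c = 1 := fun c hc => by
    rw [sup_eq_closure] at hc
    have : c ∈ C ∧ c * c = 1 := by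
      induction hc using closure_induction with
      | mem x hx =>
        rcases hx with hx | ⟨n, rfl⟩
        · exact ⟨hx.2, h2 x hx.2 (mem_centralizer_singleton_iff.1 hx.1)⟩
        · exact ⟨zpow_mem hd n, by rw [← (Commute.refl d).mul_zpow, d2, one_zpow]⟩
      | one => exact ⟨one_mem _, mul_one _⟩
      | mul x y _ _ a b =>
        refine ⟨mul_mem a.1 b.1, ?_⟩
        calc x * y * (x * y) = x * (y * x) * y := by group
          _ = 1 := by rw [← h.Ccomm h1 x a.1 y b.1, ← mul_assoc, a.2, one_mul, b.2]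
      | inv x _ a => exact ⟨inv_mem a.1, by rw [← mul_inv_rev, a.2, inv_one]⟩
    exact this.2
  exact h.z1 (w2.symm.trans (sq w (k4.symm ▸ h.DC hw)))

theorem exists_y (h2 : Nat.card D = 8) (h1 : Nat.card C = 16) :
    ∃ y ∈ D, y * y = 1 ∧ y ≠ 1 ∧ y ≠ z := by
  obtain ⟨w, hw, w2⟩ := h.w4
  have : ¬ D ≤ zpowers w := fun k => by
    have := Subgroup.card_le_of_le k
    rw [Nat.card_zpowers, h.w_ord w2] at this
    omega
  obtain ⟨d, hd, dw⟩ := SetLike.not_le_iff_exists.1 this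
  have zw : z ∈ zpowers w := w2 ▸ mul_mem (mem_zpowers w) (mem_zpowers w)
  rcases h.sq d (h.CA (h.DC hd)) with e | e
  · exact ⟨d, hd, e, fun k => dw (k ▸ one_mem _), fun k => dw (k ▸ zw)⟩
  · refine ⟨d * w, mul_mem hd hw, ?_, fun k => dw ?_, fun k => dw ?_⟩
    · calc d * w * (d * w) = d * (w * d) * w := by group
        _ = 1 := by
          rw [← h.Ccomm h1 d (h.DC hd) w (h.DC hw), ← mul_assoc, e, mul_assoc, w2, h.z2]
    · exact (mul_mem_cancel_right (mem_zpowers w)).1 (k ▸ one_mem _)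
    · exact (mul_mem_cancel_right (mem_zpowers w)).1 (k ▸ zw)

end

variable {T : Sylow 2 G} {A C D : Subgroup G} {t z : G} (h : Tw (T : Subgroup G) A C D z)
include h

theorem zo (hc : ∀ c ∈ C, c * c = 1 → (∀ a ∈ A, a * c = c * a) → c ∈ D)
    (hz : ∀ t ∈ A, IsConj z t → t = z) : ∀ t ∈ (T : Subgroup G), IsConj z t → t = z := by
  have key : ∀ t ∈ (T : Subgroup G), t ∉ A → IsConj z t → ∀ c ∈ A, c * t = t * c → c * c = 1 := by
    intro t ht tA h1 c c1 c2
    obtain ⟨g, g1, g2⟩ := ext' T h.zT h1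
    refine (h.sq c c1).resolve_right fun e => tA ?_
    have := IdxLeTwo.mul_self_mem h.out (g2 c (h.le c1) c2)
    rw [conj_mul, e] at this
    have k := hz _ this (isConj_iff.2 ⟨g, rfl⟩)
    rw [show t = z by simpa using g1.trans k.symm]
    exact h.zA
  intro t ht h1
  by_cases tA : t ∈ A
  · exact hz t tA h1
  exfalso
  rcases h.card with ⟨k1, k2⟩ | ⟨k1, k2⟩
  · have := (h.r1 hc k1).2 (centralizer {t} ⊓ C) (inf_le_right.trans h.CA) fun e he =>
      key t ht tA h1 e (h.CA he.2) (mem_centralizer_singleton_iff.1 he.1)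
    have := h.cardC ht
    omega
  have sq : ∀ t, IsConj z t → t * t = 1 := fun t k => by
    obtain ⟨g, rfl⟩ := isConj_iff.1 k
    rw [conj_mul, h.z2, mul_one, mul_inv_cancel]
  -- the centraliser of a conjugate outside `A` is abelian of order at most 16 and at least 16
  have cm : ∀ t ∈ (T : Subgroup G), t ∉ A → IsConj z t → ∀ d ∈ C, d * d = 1 → d * t = t * d :=
    fun t ht tA h1 d hd d2 => h.comm_of k1 ht (fun c hc => key t ht tA h1 c (h.CA hc)) hd d2
  obtain ⟨w, hw, w2⟩ := h.w4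
  have wt : ∀ t ∈ (T : Subgroup G), t ∉ A → IsConj z t → w * t ≠ t * w := fun t ht tA h1 e =>
    h.z1 (w2.symm.trans (key t ht tA h1 w (h.CA (h.DC hw)) e))
  have c8 : ∀ t ∈ (T : Subgroup G), t ∉ A → IsConj z t →
      Nat.card ↥(centralizer {t} ⊓ (T : Subgroup G)) = 16 := fun t ht tA h1 => by
    have e1 := h.cardC ht
    have e2 : Nat.card ↥(centralizer {t} ⊓ C) < Nat.card C :=
      card_lt_of_lt (lt_of_le_of_ne inf_le_right fun e => wt t ht tA h1
        (mem_centralizer_singleton_iff.1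
          (show w ∈ centralizer {t} ⊓ C from e.symm ▸ h.DC hw).1))
    obtain ⟨m, hm⟩ := card_dvd_of_le (inf_le_right : centralizer {t} ⊓ C ≤ C)
    have e3 : Nat.card ↥(centralizer {t} ⊓ C) = 8 := by
      rcases m with _ | _ | m
      · omega
      · omega
      · nlinarith
    have e4 : A ⊓ (centralizer {t} ⊓ (T : Subgroup G)) = centralizer {t} ⊓ C :=
      le_antisymm (fun a ha => ⟨ha.2.1, h.centA ht tA ha.1
        (mem_centralizer_singleton_iff.1 ha.2.1)⟩) fun a ha =>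
          ⟨h.CA ha.2, ha.1, h.le (h.CA ha.2)⟩
    have e5 := card_idx (M := A) (X := centralizer {t} ⊓ (T : Subgroup G))
      fun a ha b hb => h.out a ha.2 b hb.2
    have e6 : Nat.card ↥(A ⊓ (centralizer {t} ⊓ (T : Subgroup G))) <
        Nat.card ↥(centralizer {t} ⊓ (T : Subgroup G)) :=
      card_lt_of_lt (lt_of_le_of_ne inf_le_right fun e => tA
        (show t ∈ A ⊓ (centralizer {t} ⊓ (T : Subgroup G)) from
          e.symm ▸ ⟨mem_centralizer_singleton_iff.2 rfl, ht⟩).1)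
    obtain ⟨n, hn⟩ := card_dvd_of_le
      (inf_le_right : A ⊓ (centralizer {t} ⊓ (T : Subgroup G)) ≤ _)
    rw [e4, e3] at e5 e6 hn
    omega
  obtain ⟨g, g1, g2⟩ := ext' T h.zT h1
  have zT := h.le h.zA
  have t1 : g * z * g⁻¹ ∈ (T : Subgroup G) := g2 z zT (h.zT t ht).symm
  have t2 : IsConj z (g * z * g⁻¹) := isConj_iff.2 ⟨g, rfl⟩
  have t3 : g * z * g⁻¹ ∉ A := fun k => tA (by
    rw [show t = z by simpa using g1.trans (hz _ k t2).symm]
    exact h.zA)
  have e : cj g (centralizer {t} ⊓ (T : Subgroup G)) =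
      centralizer {g * z * g⁻¹} ⊓ (T : Subgroup G) :=
    eq_of_le_of_card_ge (cj_le_iff.2 fun r hr => ⟨mem_centralizer_singleton_iff.2 (by
      rw [conj_mul, conj_mul, h.zT r hr.2]), g2 r hr.2 (mem_centralizer_singleton_iff.1 hr.1)⟩)
      (by rw [card_cj, c8 t ht tA h1, c8 _ t1 t3 t2])
  generalize hs : g * z * g⁻¹ = s at t1 t2 t3 e
  obtain ⟨y, y1, y2, y3, y4⟩ := h.exists_y k2 k1
  obtain ⟨a, ha, hy⟩ := h.Dw s t1 t3 y y1
  have v1 : ⁅s, a⁆ ∈ D := h.cmD s t1 a (h.le ha)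
  have vz := h.zT _ (h.le (h.CA (h.DC v1)))
  have v2 : ⁅s, a⁆ * ⁅s, a⁆ = 1 ∧ ⁅s, a⁆ ≠ 1 ∧ ⁅s, a⁆ ≠ z := by
    rcases hy with rfl | rfl
    · exact ⟨y2, y3, y4⟩
    · refine ⟨?_, fun k => y4 (by rw [k, one_mul]), fun k => y3 (by rw [k, h.z2])⟩
      rwa [mul_assoc, ← mul_assoc z, ← vz, mul_assoc, h.z2, mul_one] at y2
  have vs := cm s t1 t3 t2 _ (h.DC v1) v2.1
  have s2 := sq s t2
  have x1 : a * s * a⁻¹ = s * ⁅s, a⁆ := by
    rw [commutatorElement_def, inv_eq_of_mul_eq_one_right s2, ← mul_assoc, ← mul_assoc,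
      ← mul_assoc, s2, one_mul]
  have x2 : a * s * a⁻¹ ∈ cj g (centralizer {t} ⊓ (T : Subgroup G)) := by
    rw [e, x1]
    exact ⟨mem_centralizer_singleton_iff.2 (by rw [mul_assoc, vs]),
      mul_mem t1 (h.le (h.CA (h.DC v1)))⟩
  obtain ⟨x, hx, x3⟩ := x2
  change g * x * g⁻¹ = _ at x3
  have x4 : IsConj z x := (t2.trans (isConj_iff.2 ⟨a, rfl⟩)).trans
    (isConj_iff.2 ⟨g, x3⟩).symm
  have x5 : x ∉ A := fun k => v2.2.1 (by
    rw [hz x k x4, hs, x1] at x3
    simpa using x3)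
  have x6 : w⁻¹ * x * w = x * z := by
    rcases ((h.memC w).1 (h.DC hw)).2 x⁻¹ (inv_mem hx.2) with k | k
    · refine absurd ?_ (wt x hx.2 x5 x4)
      calc w * x = x * (x⁻¹ * w * x⁻¹⁻¹) := by group
        _ = _ := by rw [k]
    · have k' : x * w = w * x * z := by
        calc x * w = x * (w * z) * z := by rw [mul_assoc, mul_assoc, h.z2, mul_one]
          _ = _ := by rw [← k]; group
      rw [mul_assoc, k']; group
  have x7 : IsConj z (g * (x * z) * g⁻¹) := (x4.trans (isConj_iff.2 ⟨w⁻¹, by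
    rw [inv_inv, x6]⟩)).trans (isConj_iff.2 ⟨g, rfl⟩)
  rw [← conj_mul, x3, hs, x1, mul_assoc, vs, ← mul_assoc, s2, one_mul] at x7
  exact v2.2.2 (hz _ (h.CA (h.DC v1)) x7)

end Tw

end Cfsg.Lib.A10S
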