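import Cfsg.Agent.A10S.Defs
import Mathlib.GroupTheory.Transfer
import Mathlib.GroupTheory.SpecificGroups.Cyclic

/-!
# The normaliser of a subgroup of order seven in the almost simple quotient
-/

set_option autoImplicit false

namespace Cfsg.Lib.A10S

open Subgroup
open scoped commutatorElement

universe u

variable {G : Type u} [Group G] [Finite G]

namespace OutA

theorem act {x n : G} (hx : orderOf x = 7) (hn : n ∈ normalizer (zpowers x : Set G)) :
    ∃ i < 7, ∀ k : ℕ, n ^ k * x * (n ^ k)⁻¹ = x ^ (i ^ k) := by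
  classical
  have h1 : n * x * n⁻¹ ∈ zpowers x := (mem_normalizer_iff.1 hn x).1 (mem_zpowers x)
  rw [mem_zpowers_iff_mem_range_orderOf, Finset.mem_image] at h1
  obtain ⟨i, hi, e⟩ := h1
  refine ⟨i, by simpa [hx] using hi, fun k => ?_⟩
  induction k with
  | zero => simp
  | succ k ih =>
    have : n ^ (k + 1) * x * (n ^ (k + 1))⁻¹ = n * (n ^ k * x * (n ^ k)⁻¹) * n⁻¹ := by
      rw [pow_succ']; group
    rw [this, ih, ← conj_pow, ← e, ← pow_mul, pow_succ']

omit [Finite G] in
theorem comm_of {x n : G} (e : n * x * n⁻¹ = x) : x * n = n * x := by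
  conv_lhs => rw [← e]
  group

omit [Finite G] in
/-- The kernel of the action on the subgroup of order seven. -/
theorem ker_comm {x : G} {n : normalizer (zpowers x : Set G)} :
    n ∈ (zpowers x).normalizerMonoidHom.ker ↔ x * n = n * x := by
  rw [normalizerMonoidHom_ker, mem_subgroupOf, mem_centralizer_iff]
  refine ⟨fun h => h x (mem_zpowers x), fun h y hy => ?_⟩
  obtain ⟨k, rfl⟩ := mem_zpowers_iff.1 hy
  exact (Commute.zpow_left h k).eq

theorem ker_not (h : Om G) {x : G} (hx : orderOf x = 7) {p : ℕ} (hp : p = 2 ∨ p = 5) :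
    ¬ p ∣ Nat.card (zpowers x).normalizerMonoidHom.ker := fun e => by
  have : Fact p.Prime := ⟨by rcases hp with rfl | rfl <;> decide⟩
  obtain ⟨t, ht⟩ := exists_prime_orderOf_dvd_card' p e
  have h1 : orderOf ((t : normalizer (zpowers x : Set G)) : G) = p := by
    rw [orderOf_coe, orderOf_coe, ht]
  have := h.mul_mem (ker_comm.1 t.2) hx h1 (by rcases hp with rfl | rfl <;> decide)
  revert this
  rcases hp with rfl | rfl <;> decide

theorem range_dvd {x : G} (hx : orderOf x = 7) :
    Nat.card (zpowers x).normalizerMonoidHom.range ∣ 6 := by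
  have h1 := card_subgroup_dvd_card (zpowers x).normalizerMonoidHom.range
  rwa [IsCyclic.card_mulAut, Nat.card_zpowers, hx] at h1

omit [Finite G] in
theorem card_eq (x : G) : Nat.card (normalizer (zpowers x : Set G)) =
    Nat.card (zpowers x).normalizerMonoidHom.ker *
      Nat.card (zpowers x).normalizerMonoidHom.range := by
  rw [← index_ker, card_mul_index]

theorem not_four (h : Om G) {x : G} (hx : orderOf x = 7) :
    ¬ 4 ∣ Nat.card (normalizer (zpowers x : Set G)) := fun e => by
  rw [card_eq] at e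
  have h1 : Nat.Coprime 4 (Nat.card (zpowers x).normalizerMonoidHom.ker) :=
    Nat.Coprime.pow_left 2 ((Nat.Prime.coprime_iff_not_dvd Nat.prime_two).2 (ker_not h hx (.inl rfl)))
  have := (h1.dvd_of_dvd_mul_left e).trans (range_dvd hx)
  omega

theorem exists_inv (h : Om G) {x : G} (hx : orderOf x = 7)
    (e : 2 ∣ Nat.card (normalizer (zpowers x : Set G))) : ∃ t : G, t * x * t⁻¹ = x ^ 6 := by
  obtain ⟨t, ht⟩ := exists_prime_orderOf_dvd_card' 2 e
  have h1 : orderOf (t : G) = 2 := by rw [orderOf_coe, ht]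
  obtain ⟨i, hi, k⟩ := act hx t.2
  have k1 := k 1
  have k2 := k 2
  rw [← h1, pow_orderOf_eq_one, h1, one_mul, inv_one, mul_one] at k2
  rw [pow_one, pow_one] at k1
  have k3 : 1 ≡ i ^ 2 [MOD 7] := by
    rw [← hx, ← pow_eq_pow_iff_modEq, pow_one]; exact k2
  have k4 : i ≠ 1 := by
    rintro rfl
    rw [pow_one] at k1
    exact absurd (h.mul_mem (comm_of k1) hx h1 (by decide)) (by decide)
  refine ⟨t, ?_⟩
  rw [k1]
  interval_cases i <;> first | rfl | omega | exact absurd k3 (by decide)

theorem exists_four {x : G} (hx : orderOf x = 7)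
    (e : 3 ∣ Nat.card (zpowers x).normalizerMonoidHom.range) : ∃ t : G, t * x * t⁻¹ = x ^ 4 := by
  have : Fact (Nat.Prime 3) := ⟨by decide⟩
  obtain ⟨⟨_, n, rfl⟩, ht⟩ := exists_prime_orderOf_dvd_card' 3 e
  rw [← orderOf_coe] at ht
  have ht' : orderOf ((zpowers x).normalizerMonoidHom n) = 3 := ht
  obtain ⟨i, hi, k⟩ := act hx n.2
  have k1 := k 1
  have k2 := k 2
  have k3 := k 3
  rw [pow_one, pow_one] at k1
  have c3 : n ^ 3 ∈ (zpowers x).normalizerMonoidHom.ker := by
    rw [MonoidHom.mem_ker, map_pow, ← ht', pow_orderOf_eq_one]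
  rw [ker_comm, coe_pow] at c3
  rw [← c3, mul_inv_cancel_right] at k3
  have k4 : 1 ≡ i ^ 3 [MOD 7] := by
    rw [← hx, ← pow_eq_pow_iff_modEq, pow_one]; exact k3
  have k5 : i ≠ 1 := by
    rintro rfl
    rw [pow_one] at k1
    have := ker_comm.2 (comm_of k1)
    rw [MonoidHom.mem_ker] at this
    rw [this, orderOf_one] at ht'
    omega
  interval_cases i
  all_goals first | omega | exact absurd k4 (by decide) | exact ⟨_, k1⟩ | exact ⟨_, k2⟩

/-- A subgroup of order seven is a Sylow subgroup. -/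
def syl {x : G} (hx : orderOf x = 7) (h49 : ¬ 49 ∣ Nat.card G) :
    haveI : Fact (Nat.Prime 7) := ⟨by decide⟩
    Sylow 7 G :=
  haveI : Fact (Nat.Prime 7) := ⟨by decide⟩
  (IsPGroup.of_card (G := zpowers x) (n := 1) (by rw [Nat.card_zpowers, hx, pow_one])).toSylow fun e =>
    h49 (by
      rw [← (zpowers x).card_mul_index, Nat.card_zpowers, hx]
      exact Nat.mul_dvd_mul_left 7 e)

theorem three_dvd [IsSimpleGroup G] (h : Om G) (hc : Nat.card G = 20160) {x : G}
    (hx : orderOf x = 7) : 3 ∣ Nat.card (zpowers x).normalizerMonoidHom.range := by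
  have : Fact (Nat.Prime 7) := ⟨by decide⟩
  by_contra h3
  let P : Sylow 7 G := syl hx (by rw [hc]; decide)
  have h1 : (normalizer (zpowers x : Set G)).index ≡ 1 [MOD 7] := by
    have := card_sylow_modEq_one 7 G
    rwa [P.card_eq_index_normalizer] at this
  have h2 := (normalizer (zpowers x : Set G)).card_mul_index
  rw [card_eq, hc] at h2
  have k2 := ker_not h hx (.inl rfl)
  have k5 := ker_not h hx (.inr rfl)
  have r6 := range_dvd hx
  have hr : Nat.card (zpowers x).normalizerMonoidHom.range = 1 := by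
    generalize Nat.card (zpowers x).normalizerMonoidHom.ker = a at *
    generalize Nat.card (zpowers x).normalizerMonoidHom.range = b at *
    generalize (normalizer (zpowers x : Set G)).index = c at *
    have d1 : a ∣ 2 ^ 6 * (5 * 63) := ⟨b * c, by rw [← mul_assoc a, h2]; norm_num⟩
    have d2 := (Nat.Coprime.pow_right 6
      ((Nat.Prime.coprime_iff_not_dvd Nat.prime_two).2 k2).symm).dvd_of_dvd_mul_left d1
    have d3 := (((Nat.Prime.coprime_iff_not_dvd Nat.prime_five).2 k5).symm).dvd_of_dvd_mul_left d2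
    have d4 : a ∈ Nat.divisors 63 := Nat.mem_divisors.2 ⟨d3, by decide⟩
    have d5 : b ∈ Nat.divisors 6 := Nat.mem_divisors.2 ⟨r6, by decide⟩
    rw [show Nat.divisors 63 = {1, 3, 7, 9, 21, 63} by decide] at d4
    rw [show Nat.divisors 6 = {1, 2, 3, 6} by decide] at d5
    simp only [Finset.mem_insert, Finset.mem_singleton] at d4 d5
    unfold Nat.ModEq at h1
    rcases d4 with rfl | rfl | rfl | rfl | rfl | rfl <;> rcases d5 with rfl | rfl | rfl | rfl <;>
      omega
  have hP : normalizer (P : Set G) ≤ centralizer (P : Set G) := fun n hn => by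
    have : (⟨n, hn⟩ : normalizer (zpowers x : Set G)) ∈ (zpowers x).normalizerMonoidHom.ker := by
      rw [MonoidHom.mem_ker]
      have h4 := card_eq_one.1 hr
      exact mem_bot.1 (h4 ▸ ⟨_, rfl⟩)
    rw [normalizerMonoidHom_ker] at this
    exact this
  have h5 := (MonoidHom.ker_transferSylow_isComplement' P hP).card_mul_card
  have h6 : Nat.card (P : Subgroup G) = 7 := by
    show Nat.card (zpowers x) = 7
    rw [Nat.card_zpowers, hx]
  rw [h6, hc] at h5
  rcases (inferInstance : (MonoidHom.transferSylow P hP).ker.Normal).eq_bot_or_eq_top with e | e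
  · rw [e, card_bot] at h5; omega
  · rw [e, card_top, hc] at h5; omega

theorem frattini (S : Subgroup G) [S.Normal] {x : S} (hx : orderOf x = 7)
    (h49 : ¬ 49 ∣ Nat.card S) :
    Nat.card (normalizer (zpowers (x : G) : Set G)) =
      Nat.card (S.subgroupOf (normalizer (zpowers (x : G) : Set G))) * S.index := by
  have : Fact (Nat.Prime 7) := ⟨by decide⟩
  have h1 := (syl hx h49).normalizer_sup_eq_top
  have h2 : ((syl hx h49 : Sylow 7 S) : Subgroup S).map S.subtype = zpowers (x : G) := by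
    show (zpowers x).map S.subtype = _
    rw [MonoidHom.map_zpowers]; rfl
  rw [h2] at h1
  rw [← relIndex_top_right, ← h1, relIndex_sup_right, relIndex, card_mul_index]

omit [Finite G] in
theorem two_dvd_index {S : Subgroup G} (h : Hy G) (h7 : ¬ 2 ^ 7 ∣ Nat.card S)
    (h0 : 2 ^ 6 ∣ Nat.card S) : 2 ∣ S.index := by
  have h1 := h.d7
  rw [← S.card_mul_index] at h1
  obtain ⟨m, hm⟩ := h0
  rw [hm] at h1 h7
  rw [mul_assoc, pow_succ] at h1
  have h2 := Nat.dvd_of_mul_dvd_mul_left (by decide) h1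
  rcases (Nat.Prime.dvd_mul Nat.prime_two).1 h2 with e | e
  · exact absurd (Nat.mul_dvd_mul_left (2 ^ 6) e) h7
  · exact e

/-- A seven-cycle. -/
def x9 : Equiv.Perm (Fin 9) := c[0, 1, 2, 3, 4, 5, 6]

/-- An even involution inverting it. -/
def t9 : Equiv.Perm (Fin 9) := Equiv.swap 1 6 * Equiv.swap 2 5 * (Equiv.swap 3 4 * Equiv.swap 7 8)

theorem nine : ∃ x t : alternatingGroup (Fin 9), orderOf x = 7 ∧ orderOf t = 2 ∧
    t * x * t⁻¹ = x⁻¹ := by
  have : Fact (Nat.Prime 7) := ⟨by decide⟩
  have a1 : x9 ^ 7 = 1 := by decide +kernel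
  have a2 : x9 ≠ 1 := by decide
  have a3 : t9 ^ 2 = 1 := by decide
  have a4 : t9 ≠ 1 := by decide
  have a5 : t9 * x9 * t9⁻¹ = x9⁻¹ := by decide
  have b1 : x9 ∈ alternatingGroup (Fin 9) := by
    rw [Equiv.Perm.mem_alternatingGroup]
    have := congrArg Equiv.Perm.sign a1
    rw [map_pow, map_one] at this
    rcases Int.units_eq_one_or (Equiv.Perm.sign x9) with e | e
    · exact e
    · rw [e] at this; exact absurd this (by decide)
  have b2 : t9 ∈ alternatingGroup (Fin 9) := by
    rw [Equiv.Perm.mem_alternatingGroup, t9, map_mul, map_mul, map_mul,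
      Equiv.Perm.sign_swap (by decide), Equiv.Perm.sign_swap (by decide),
      Equiv.Perm.sign_swap (by decide), Equiv.Perm.sign_swap (by decide)]
    decide
  refine ⟨⟨x9, b1⟩, ⟨t9, b2⟩, ?_, ?_, Subtype.ext a5⟩
  · rw [← orderOf_coe]; exact orderOf_eq_prime a1 a2
  · rw [← orderOf_coe]; exact orderOf_eq_prime a3 a4

end OutA

open OutA

section
variable {S : Subgroup G}

theorem Soc.fd20 (h : Soc G S) (h1 : Nat.card S = 20160) : FD S := by
  have : Fact (Nat.Prime 7) := ⟨by decide⟩
  have := h.nm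
  have := h.simple
  obtain ⟨x, hx⟩ := exists_prime_orderOf_dvd_card' (G := S) 7 (by rw [h1]; decide)
  have hx' : orderOf (x : G) = 7 := by rw [orderOf_coe, hx]
  obtain ⟨n, hn⟩ := exists_four hx (three_dvd (h.hy.om.subgroup S) h1 hx)
  have hn' : (n : G) * x * (n : G)⁻¹ = (x : G) ^ 4 := congrArg Subtype.val hn
  obtain ⟨t, ht⟩ := exists_inv h.hy.om hx' (by
    rw [frattini S hx (by rw [h1]; decide)]
    exact (two_dvd_index h.hy (by rw [h1]; decide) (by rw [h1]; decide)).mul_left _)
  refine ⟨x, x.2, t * n, hx', ?_⟩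
  have e : t * n * x * (t * n)⁻¹ = t * (n * x * (n : G)⁻¹) * t⁻¹ := by group
  rw [e, hn', ← conj_pow, ht, ← pow_mul, pow_eq_pow_iff_modEq, hx']
  decide

theorem Soc.not_nine (h : Soc G S) (e : S ≃* alternatingGroup (Fin 9)) : False := by
  have := h.nm
  have h1 : Nat.card S = 181440 := by
    rw [Nat.card_congr e.toEquiv, nat_card_alternatingGroup, Nat.card_eq_fintype_card,
      Fintype.card_fin]
    decide
  obtain ⟨x0, t0, a1, a2, a3⟩ := nine
  set x := e.symm x0
  set t := e.symm t0
  have hx : orderOf x = 7 := by rw [← a1]; exact e.symm.orderOf_eq x0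
  have ht : orderOf t = 2 := by rw [← a2]; exact e.symm.orderOf_eq t0
  have hc : t * x * t⁻¹ = x⁻¹ := by
    have := congrArg e.symm a3
    simpa only [map_mul, map_inv] using this
  have hc' : (t : G) * x * (t : G)⁻¹ = (x : G)⁻¹ := congrArg Subtype.val hc
  have hx' : orderOf (x : G) = 7 := by rw [orderOf_coe, hx]
  have hn : (t : G) ∈ normalizer (zpowers (x : G) : Set G) := by
    refine mem_normalizer_fintype fun y hy => ?_
    obtain ⟨k, rfl⟩ := mem_zpowers_iff.1 hy
    rw [← conj_zpow, hc']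
    exact zpow_mem (inv_mem (mem_zpowers _)) k
  refine not_four h.hy.om hx' ?_
  rw [frattini S hx (by rw [h1]; decide)]
  refine Nat.mul_dvd_mul (b := _) (a := 2) (c := 2) ?_
    (two_dvd_index h.hy (by rw [h1]; decide) (by rw [h1]; decide))
  have h2 := orderOf_dvd_natCard
    (⟨⟨t, hn⟩, t.2⟩ : S.subgroupOf (normalizer (zpowers (x : G) : Set G)))
  rw [← orderOf_coe, ← orderOf_coe] at h2
  have h3 : orderOf (t : G) = 2 := by rw [orderOf_coe, ht]
  exact h3 ▸ h2

end

end Cfsg.Lib.A10S
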